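import Cfsg.Agent.H547.Der.Orb

/-!
# Missed classes: tools (helper547, for S3500)
-/

set_option autoImplicit false

namespace Cfsg.Agent.H547.Der

open Subgroup Cfsg.Agent.H439.Der

variable {T : Type*} [Group T]

/-- no conjugate of `x` is in `M` -/
def Miss (M : Subgroup T) (x : T) : Prop := ∀ g : T, g * x * g⁻¹ ∉ M

variable {M : Subgroup T}

theorem twoT_of_ne {x y : T} (hx : Miss M x) (hy : Miss M y) (h : orderOf x ≠ orderOf y) : TwoT T M :=
  ⟨x, y, hx, hy, fun g hg => h (by rw [← hg, orderOf_conj])⟩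

theorem Miss.of_not_dvd {x : T} {v : ℕ} (hv : ¬ v ∣ Nat.card M) (hx : v ∣ orderOf x) : Miss M x :=
  fun g => not_mem_of_dvd hv hx (MulAut.conj g)

/-- a power is missed: the element is missed -/
theorem Miss.of_pow {x : T} {n : ℕ} (h : Miss M (x ^ n)) : Miss M x := by
  intro g hg
  apply h g
  rw [← conj_pow]
  exact pow_mem hg n

theorem Miss.conj {x : T} (g : T) (h : Miss M x) : Miss (M.comap (MulAut.conj g).toMonoidHom) x := by
  intro k hk
  apply h (g * k)
  have : (MulAut.conj g) (k * x * k⁻¹) ∈ M := hk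
  rw [MulAut.conj_apply] at this
  have h2 : g * (k * x * k⁻¹) * g⁻¹ = g * k * x * (g * k)⁻¹ := by group
  rwa [h2] at this

/-- if a conjugate of `x` is in `M` we can replace `M` by a conjugate containing `x` -/
theorem exists_mem_comap {x : T} (h : ¬ Miss M x) : ∃ g : T, x ∈ M.comap (MulAut.conj g).toMonoidHom := by
  unfold Miss at h
  push Not at h
  obtain ⟨g, hg⟩ := h
  exact ⟨g, hg⟩

/-- elements of order `p` are conjugate into a subgroup of maximal `p`-power order -/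
theorem exists_conj_mem [Finite T] {p k : ℕ} (hp : p.Prime) {W : Subgroup T} (hW : Nat.card W = p ^ k) (hWM : W ≤ M)
    (hM : ¬ p ^ (k + 1) ∣ Nat.card M) {t : T} (ht : t ∈ M) (hto : orderOf t = p) :
    ∃ m ∈ M, m * t * m⁻¹ ∈ W := by
  have hfp : Fact p.Prime := ⟨hp⟩
  have hW' : Nat.card (W.subgroupOf M) = p ^ k := by
    rw [← hW]
    exact Nat.card_congr (subgroupOfEquivOfLe hWM).toEquiv
  have h1 : IsPGroup p (W.subgroupOf M) := IsPGroup.of_card hW'
  obtain ⟨P, hP⟩ := h1.exists_le_sylow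
  have hPe : (P : Subgroup M) = W.subgroupOf M := by
    obtain ⟨j, hj⟩ := IsPGroup.iff_card.1 P.2
    have h2 : Nat.card P ∣ Nat.card M := Subgroup.card_subgroup_dvd_card _
    have h3 : j ≤ k := by
      by_contra hcon
      push Not at hcon
      apply hM
      exact (pow_dvd_pow p hcon).trans (by rw [← hj]; exact h2)
    symm
    apply Subgroup.eq_of_le_of_card_ge hP
    rw [hW']
    have h4 : Nat.card (P : Subgroup M) = p ^ j := hj
    rw [h4]
    exact Nat.pow_le_pow_right hp.pos h3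
  have h5 : IsPGroup p (zpowers (⟨t, ht⟩ : M)) := by
    refine IsPGroup.of_card (n := 1) ?_
    rw [Nat.card_zpowers, Subgroup.orderOf_mk, hto, pow_one]
  obtain ⟨Q, hQ⟩ := h5.exists_le_sylow
  obtain ⟨m, hm⟩ := MulAction.exists_smul_eq M Q P
  refine ⟨m, m.2, ?_⟩
  have h6 : m * (⟨t, ht⟩ : M) * m⁻¹ ∈ (P : Subgroup M) := by
    rw [← hm, Sylow.coe_subgroup_smul, Subgroup.mem_pointwise_smul_iff_inv_smul_mem]
    have h7 : (MulAut.conj m)⁻¹ • (m * (⟨t, ht⟩ : M) * m⁻¹) = ⟨t, ht⟩ := by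
      rw [← map_inv, MulAut.smul_def, MulAut.conj_apply]
      group
    rw [h7]
    exact hQ (mem_zpowers _)
  rw [hPe, mem_subgroupOf] at h6
  exact h6

/-- the elements of order `3` in a cyclic group of order `9` -/
theorem cube_eq_pow {w t : T} (hw : orderOf w = 9) (ht : t ∈ zpowers w) (hto : orderOf t = 3) : ∃ k : ℕ, t ^ k = w ^ 3 := by
  have hfo : IsOfFinOrder w := by
    rw [← orderOf_pos_iff, hw]; norm_num
  obtain ⟨i, hi⟩ := hfo.mem_powers_iff_mem_zpowers.2 ht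
  have hi' : w ^ i = t := hi
  have h3 : w ^ (i * 3) = 1 := by
    rw [pow_mul, hi', ← hto, pow_orderOf_eq_one]
  have h9 : 9 ∣ i * 3 := by
    rw [← hw]; exact orderOf_dvd_of_pow_eq_one h3
  have h4 : 3 ∣ i := by omega
  obtain ⟨j, rfl⟩ := h4
  have h5 : ¬ 3 ∣ j := by
    rintro ⟨l, rfl⟩
    have : t = 1 := by
      rw [← hi', show 3 * (3 * l) = 9 * l by ring, pow_mul, ← hw, pow_orderOf_eq_one, one_pow]
    rw [this, orderOf_one] at hto
    norm_num at hto
  have h6 : j % 3 = 1 ∨ j % 3 = 2 := by omega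
  rcases h6 with h6 | h6
  · refine ⟨1, ?_⟩
    rw [pow_one, ← hi']
    have : 3 * j = 9 * (j / 3) + 3 := by omega
    rw [this, pow_add, pow_mul, ← hw, pow_orderOf_eq_one, one_pow, one_mul]
  · refine ⟨2, ?_⟩
    rw [← hi', ← pow_mul]
    have : 3 * j * 2 = 9 * (2 * (j / 3) + 1) + 3 := by omega
    rw [this, pow_add, pow_mul, ← hw, pow_orderOf_eq_one, one_pow, one_mul]

theorem two_of_twoT (hinn : ∀ φ : T ≃* T, ∃ g : T, φ = MulAut.conj g) (h : TwoT T M) : Two T M := by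
  obtain ⟨x, y, hx, hy, hxy⟩ := h
  refine ⟨x, y, fun φ => ?_, fun φ => ?_, fun φ => ?_⟩
  · obtain ⟨g, rfl⟩ := hinn φ; exact hx g
  · obtain ⟨g, rfl⟩ := hinn φ; exact hy g
  · obtain ⟨g, rfl⟩ := hinn φ; exact hxy g

end Cfsg.Agent.H547.Der
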