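import Cfsg.Agent.H547.Der.FourMat
import Cfsg.Agent.H547.Der.Gen
import Cfsg.Agent.H503.El.Sp8
import Cfsg.Agent.H251.Small.Num
import Cfsg.Agent.H714.PSpFour
import Cfsg.Agent.S2600
import Cfsg.Agent.S2141

/-!
# `Sp₄(4)`: two classes of derangements (helper547, for S3500)
-/

set_option autoImplicit false

namespace Cfsg.Agent.H547.Der

open Subgroup Cfsg.Agent.H439.Der

variable {T : Type*} [Group T] {M : Subgroup T}

/-- at least one of two classes of elements of order `p` is missed if `p ^ 2 ∤ |M|` -/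
theorem miss_or [Finite T] {p : ℕ} (hp : p.Prime) (hM : ¬ p ^ 2 ∣ Nat.card M) {x y : T} (hx : orderOf x = p)
    (hy : orderOf y = p) (h : ∀ g : T, g * x * g⁻¹ ∉ zpowers y) : Miss M x ∨ Miss M y := by
  by_contra hcon
  push Not at hcon
  obtain ⟨h1, h2⟩ := hcon
  unfold Miss at h1 h2
  push Not at h1 h2
  obtain ⟨a, ha⟩ := h1
  obtain ⟨b, hb⟩ := h2
  obtain ⟨m, hm, hm2⟩ := exists_conj_mem (p := p) (k := 1) hp (W := zpowers (b * y * b⁻¹)) (M := M)
    (by rw [Nat.card_zpowers, orderOf_conj, hy, pow_one]) (by rwa [zpowers_le]) hM ha (by rw [orderOf_conj, hx])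
  apply h (b⁻¹ * m * a)
  obtain ⟨k, hk⟩ := mem_zpowers_iff.1 hm2
  rw [mem_zpowers_iff]
  refine ⟨k, ?_⟩
  rw [conj_zpow] at hk
  have h3 : y ^ k = b⁻¹ * (b * y ^ k * b⁻¹) * b := by group
  rw [h3, hk]
  group

/-- the same for automorphisms -/
theorem missA_or [Finite T] {p : ℕ} (hp : p.Prime) (hM : ¬ p ^ 2 ∣ Nat.card M) {x y : T} (hx : orderOf x = p)
    (hy : orderOf y = p) (h : ∀ φ : T ≃* T, φ x ∉ zpowers y) :
    (∀ φ : T ≃* T, φ x ∉ M) ∨ (∀ φ : T ≃* T, φ y ∉ M) := by
  by_contra hcon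
  push Not at hcon
  obtain ⟨⟨a, ha⟩, ⟨b, hb⟩⟩ := hcon
  obtain ⟨m, hm, hm2⟩ := exists_conj_mem (p := p) (k := 1) hp (W := zpowers (b y)) (M := M)
    (by rw [Nat.card_zpowers, MulEquiv.orderOf_eq, hy, pow_one]) (by rwa [zpowers_le]) hM ha (by rw [MulEquiv.orderOf_eq, hx])
  apply h ((a.trans (MulAut.conj m)).trans b.symm)
  obtain ⟨k, hk⟩ := mem_zpowers_iff.1 hm2
  rw [mem_zpowers_iff]
  refine ⟨k, ?_⟩
  apply b.injective
  rw [map_zpow, hk]
  simp

/-- a class of generators of a cyclic group of prime order is missed if the order of the normalizer is small -/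
theorem exists_not_conj [Finite T] {p c n : ℕ} (hp : p.Prime) {x : T} (hx : orderOf x = p)
    (hC : Nat.card (centralizer ({x} : Set T)) = c) (hN : Nat.card (normalizer (zpowers x : Set T)) ≤ n * c)
    (h : n < p - 1) : ∃ y : T, orderOf y = p ∧ ∀ g : T, g * x * g⁻¹ ≠ y := by
  classical
  by_contra hcon
  push Not at hcon
  have hfp : Fact p.Prime := ⟨hp⟩
  have hfo : IsOfFinOrder x := isOfFinOrder_of_finite x
  -- all the nontrivial powers are conjugate
  have h1 : p - 1 ≤ Nat.card (conjPow x) := by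
    have h2 : ∀ i : Fin (p - 1), x ^ ((i : ℕ) + 1) ∈ conjPow x := by
      intro i
      refine ⟨pow_mem (mem_zpowers x) _, ?_⟩
      apply hcon
      refine Eq.trans ?_ hx
      have hco : Nat.Coprime (orderOf x) ((i : ℕ) + 1) := by
        rw [hx]
        refine ((hp.coprime_iff_not_dvd).2 fun hd => ?_)
        have := Nat.le_of_dvd (by omega) hd
        have := i.2
        omega
      exact hco.orderOf_pow
    have hfin : Finite (conjPow x) := Subtype.finite
    have := Nat.card_le_card_of_injective (fun i : Fin (p - 1) => (⟨x ^ ((i : ℕ) + 1), h2 i⟩ : conjPow x)) (by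
      intro i j hij
      have h3 : x ^ ((i : ℕ) + 1) = x ^ ((j : ℕ) + 1) := congrArg Subtype.val hij
      have h4 := pow_injOn_Iio_orderOf (x := x) (Set.mem_Iio.2 (by rw [hx]; have := i.2; omega))
        (Set.mem_Iio.2 (by rw [hx]; have := j.2; omega)) h3
      apply Fin.ext
      have h5 : (i : ℕ) + 1 = j + 1 := h4
      omega)
    rwa [Nat.card_eq_fintype_card, Fintype.card_fin] at this
  have h2 := card_conjPow_mul x
  rw [hC] at h2
  have hc : 0 < c := by rw [← hC]; exact Nat.card_pos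
  have h3 : (n + 1) * c ≤ Nat.card (conjPow x) * c := Nat.mul_le_mul_right _ (by omega)
  rw [h2] at h3
  nlinarith

end Cfsg.Agent.H547.Der

namespace Cfsg.Agent.H547.Der.Four

open Subgroup Cfsg.Agent.H439.Der Cfsg.Agent.H970.StabNum Cfsg.Agent.H503.El Cfsg.Agent Cfsg
open Cfsg.Agent.Lib.FieldFour

/-- the group -/
abbrev G4 := Matrix.symplecticGroup (Fin 2) F4

/-- elements -/
def y1 : G4 := ⟨Y1, SymplecticGroup.mem_iff.2 Y1_sp⟩
/-- elements -/
def y2 : G4 := ⟨Y2, SymplecticGroup.mem_iff.2 Y2_sp⟩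
/-- elements -/
def t2 : G4 := ⟨T2, SymplecticGroup.mem_iff.2 T2_sp⟩
/-- elements -/
def x1 : G4 := ⟨X1, SymplecticGroup.mem_iff.2 X1_sp⟩
/-- elements -/
def x2 : G4 := ⟨X2, SymplecticGroup.mem_iff.2 X2_sp⟩

theorem order_y1 : orderOf y1 = 5 := by
  have : Fact (Nat.Prime 5) := ⟨by norm_num⟩
  exact orderOf_eq_prime (Subtype.ext (pow_five Y1_eq.1 Y1_eq.2.1 Y1_eq.2.2.1))
    fun h => Y1_eq.2.2.2 (congrArg Subtype.val h)

theorem order_y2 : orderOf y2 = 5 := by
  have : Fact (Nat.Prime 5) := ⟨by norm_num⟩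
  exact orderOf_eq_prime (Subtype.ext (pow_five Y2_eq.1 Y2_eq.2.1 Y2_eq.2.2.1))
    fun h => Y2_eq.2.2.2 (congrArg Subtype.val h)

theorem order_x1 : orderOf x1 = 3 := by
  have : Fact (Nat.Prime 3) := ⟨by norm_num⟩
  exact orderOf_eq_prime (Subtype.ext (pow_three X1_eq.1 X1_eq.2.1)) fun h => X1_eq.2.2 (congrArg Subtype.val h)

theorem order_x2 : orderOf x2 = 3 := by
  have : Fact (Nat.Prime 3) := ⟨by norm_num⟩
  exact orderOf_eq_prime (Subtype.ext (pow_three X2_eq.1 X2_eq.2.1)) fun h => X2_eq.2.2 (congrArg Subtype.val h)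

theorem order_t2 : orderOf t2 = 2 := by
  have : Fact (Nat.Prime 2) := ⟨by norm_num⟩
  exact orderOf_eq_prime (Subtype.ext (by rw [pow_two]; exact T2_eq.1)) fun h => T2_eq.2.1 (congrArg Subtype.val h)

theorem char_F4 : CharP F4 2 := CharTwo.of_one_ne_zero_of_two_eq_zero (by decide) (by decide)

/-- the projection is an isomorphism -/
noncomputable def eqv : G4 ≃* PSp 2 F4 := by
  have := char_F4
  exact MulEquiv.ofBijective (QuotientGroup.mk' (center G4))
    ⟨by rw [← MonoidHom.ker_eq_bot_iff, QuotientGroup.ker_mk',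
        ClassicalGeometry.Sp4GraphAut.center_eq_bot (by norm_num)], QuotientGroup.mk'_surjective _⟩

/-- fixed vectors are carried over to powers and conjugates -/
theorem not_conj_of_fix {x y : G4} (hx : (x : M4).mulVec e4 = e4) (hy : ∀ v : V4, (y : M4).mulVec v = v → v = 0)
    {p : ℕ} (hxo : orderOf x = p) (hyo : orderOf y = p) (hp : 0 < p) (g : G4) : g * x * g⁻¹ ∉ zpowers y := by
  intro h
  have h1 : zpowers (g * x * g⁻¹) = zpowers y := by
    have hfin : Finite (zpowers y) := by
      refine Nat.finite_of_card_ne_zero ?_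
      rw [Nat.card_zpowers, hyo]
      exact hp.ne'
    refine Subgroup.eq_of_le_of_card_ge (zpowers_le.2 h) ?_
    rw [Nat.card_zpowers, Nat.card_zpowers, orderOf_conj, hxo, hyo]
  have h2 : y ∈ zpowers (g * x * g⁻¹) := by rw [h1]; exact mem_zpowers _
  have hfo : IsOfFinOrder (g * x * g⁻¹) := by
    rw [← orderOf_pos_iff, orderOf_conj, hxo]; exact hp
  obtain ⟨n, hn⟩ := hfo.mem_powers_iff_mem_zpowers.2 h2
  have hn' : (g * x * g⁻¹) ^ n = y := hn
  rw [conj_pow] at hn'
  have hpow : ∀ n : ℕ, ((x ^ n : G4) : M4).mulVec e4 = e4 := by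
    intro n
    induction n with
    | zero =>
      rw [pow_zero]
      exact Matrix.one_mulVec _
    | succ n ih =>
      rw [pow_succ]
      show (((x ^ n : G4) : M4) * (x : M4)).mulVec e4 = e4
      rw [← Matrix.mulVec_mulVec, hx, ih]
  have h3 : (y : M4).mulVec ((g : M4).mulVec e4) = (g : M4).mulVec e4 := by
    have h4 : y * g = g * x ^ n := by rw [← hn']; group
    have h5 : (y : M4) * (g : M4) = (g : M4) * ((x ^ n : G4) : M4) := congrArg Subtype.val h4
    rw [Matrix.mulVec_mulVec, h5, ← Matrix.mulVec_mulVec, hpow]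
  have h4 := hy _ h3
  have h5 : e4 = (((g⁻¹ : G4) : M4) * (g : M4)).mulVec e4 := by
    have : ((g⁻¹ : G4) : M4) * (g : M4) = ((g⁻¹ * g : G4) : M4) := rfl
    rw [this, inv_mul_cancel]
    exact (Matrix.one_mulVec _).symm
  rw [← Matrix.mulVec_mulVec, h4, Matrix.mulVec_zero] at h5
  exact e4_fix.2.2 h5

/-- no automorphism carries `y1` into `⟨y2⟩` -/
theorem not_aut (φ : G4 ≃* G4) : φ y1 ∉ zpowers y2 := by
  intro h
  have h1 : zpowers (φ y1) = zpowers y2 := by
    have hfin : Finite (zpowers y2) := by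
      refine Nat.finite_of_card_ne_zero ?_
      rw [Nat.card_zpowers, order_y2]
      norm_num
    refine Subgroup.eq_of_le_of_card_ge (zpowers_le.2 h) ?_
    rw [Nat.card_zpowers, Nat.card_zpowers, MulEquiv.orderOf_eq, order_y1, order_y2]
  have h2 : y2 ∈ zpowers (φ y1) := by rw [h1]; exact mem_zpowers _
  obtain ⟨n, hn⟩ := mem_zpowers_iff.1 h2
  have h3 : t2 * y1 = y1 * t2 := Subtype.ext T2_eq.2.2
  have h4 : Commute (φ t2) y2 := by
    rw [← hn]
    refine Commute.zpow_right ?_ n
    show φ t2 * φ y1 = φ y1 * φ t2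
    rw [← map_mul, h3, map_mul]
  have h5 : φ t2 * φ t2 = 1 := by
    have h6 : t2 * t2 = 1 := Subtype.ext T2_eq.1
    rw [← map_mul, h6, map_one]
  have h6 : φ t2 = 1 := Subtype.ext (eq_one_of_comm (congrArg Subtype.val h5) (congrArg Subtype.val h4.eq))
  have h7 : t2 = 1 := φ.injective (by rw [h6, map_one])
  have h8 := order_t2
  rw [h7, orderOf_one] at h8
  norm_num at h8

theorem card_sp44 : Nat.card (PSp 2 F4) = 979200 := H714.PSpFour.card_four F4.card

theorem selfcent : ∃ R : Subgroup (PSp 2 F4), Nat.card R = 17 ∧ centralizer (R : Set (PSp 2 F4)) = R := by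
  have hfin : Finite (PSp 2 F4) := Nat.finite_of_card_ne_zero (by rw [card_sp44]; norm_num)
  refine H732.SelfCent.selfcent_of_orders (by norm_num) (by rw [card_sp44]; norm_num) (by rw [card_sp44]; norm_num) ?_
  intro s hs hsd hne g hg
  have h := (H714.PSpFour.exists_order_iff F4.card (17 * s)).1 ⟨g, hg⟩
  have h2 := hs.two_le
  rcases h with h | h | h | h | h <;> have := Nat.le_of_dvd (by norm_num) h <;> omega

/-- orders of simple groups -/
def tblFour : List ℕ := [60, 360, 4080, 2448, 979200]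

set_option maxRecDepth 100000 in
theorem data (OT : OrdDiv.OrderTable.{0})
    (hS : ∀ (X : Type) [Group X] [Finite X] [IsSimpleGroup X], Cfsg.IsKnownSimple' X) :
    Data (PSp 2 F4) [(17, 1, 4)] [2, 3, 5, 17] tblFour := by
  have hfin : Finite (PSp 2 F4) := Nat.finite_of_card_ne_zero (by rw [card_sp44]; norm_num)
  have hsimp : IsSimpleGroup (PSp 2 F4) := S0270.result 2 (by norm_num) (by
    intro h
    rw [F4.card]
    norm_num)
  refine mk_data OT hS (l := [(2, 8), (3, 2), (5, 2), (17, 1)]) card_sp44 (by decide +kernel) ?_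
  intro x hx
  rw [List.mem_singleton] at hx
  subst hx
  exact entry_of_ex (by norm_num) card_sp44 (by norm_num) (by norm_num) (by decide +kernel) selfcent

theorem noSyl {M : Subgroup (PSp 2 F4)} (h : ¬ 256 ∣ Nat.card M) : NoSyl (PSp 2 F4) M := by
  intro s hs hd hsyl
  rw [(S2600.result (F := F4) (f := 2) (by norm_num) (by rw [F4.card]; norm_num)).2] at hd
  have h2 : s ∣ 2 := by
    have : (2 * 2 : ℕ) = 2 ^ 2 := by norm_num
    rw [this] at hd
    exact hs.dvd_of_dvd_pow hd
  have h3 : s = 2 := (Nat.prime_dvd_prime_iff_eq hs Nat.prime_two).1 h2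
  subst h3
  apply h
  have h4 : (Nat.card (PSp 2 F4)).factorization 2 = 8 := by
    rw [card_sp44, show (979200 : ℕ) = 2 ^ 8 * 3825 by norm_num, Nat.factorization_mul (by norm_num) (by norm_num),
      Finsupp.add_apply, Nat.Prime.factorization_pow Nat.prime_two, Finsupp.single_eq_same,
      Nat.factorization_eq_zero_of_not_dvd (by norm_num)]
  rw [h4] at hsyl
  exact (by norm_num : (256 : ℕ) = 2 ^ 8) ▸ hsyl

theorem num_aux {a i : ℕ} (h1 : i * a = 979200) (h2 : 85 ≤ i) (h256 : 256 ∣ a) (h25 : 25 ∣ a) (h3 : 3 ∣ a) :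
    False := by
  have h4 : 256 * 25 ∣ a := Nat.Coprime.mul_dvd_of_dvd_of_dvd (by norm_num) h256 h25
  have h5 : 256 * 25 * 3 ∣ a := Nat.Coprime.mul_dvd_of_dvd_of_dvd (by norm_num) h4 h3
  have ha : 0 < a := by
    rcases Nat.eq_zero_or_pos a with h | h
    · rw [h] at h1; omega
    · exact h
  have h6 := Nat.le_of_dvd ha h5
  have h7 : 85 * (256 * 25 * 3) ≤ i * a := Nat.mul_le_mul h2 h6
  rw [h1] at h7
  norm_num at h7

set_option maxRecDepth 100000 in
theorem main (OT : OrdDiv.OrderTable.{0})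
    (hS : ∀ (X : Type) [Group X] [Finite X] [IsSimpleGroup X], Cfsg.IsKnownSimple' X)
    (M : Subgroup (PSp 2 F4)) (hM : M ≠ ⊤) : Two (PSp 2 F4) M ∨ (TwoT (PSp 2 F4) M ∧ NoSyl (PSp 2 F4) M) := by
  classical
  have hfin : Finite (PSp 2 F4) := Nat.finite_of_card_ne_zero (by rw [card_sp44]; norm_num)
  have hcd : Nat.card M ∣ 979200 := by
    rw [← card_sp44]
    exact Subgroup.card_subgroup_dvd_card M
  have hidx : 85 ≤ M.index := by
    have h := (S2141.result (F := F4) F4.card 2 (by norm_num) (by norm_num) (by norm_num)).1 M hM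
    norm_num at h
    exact h
  have hmul := M.index_mul_card
  rw [card_sp44] at hmul
  by_cases h17 : 17 ∣ Nat.card M
  · have h1 := H251.Small.mem_surv (data OT hS) (l := [(2, 8), (3, 2), (5, 2), (17, 1)]) (prs := [17])
      (by rw [card_sp44]; decide +kernel) M (by
        intro r hr
        rw [List.mem_singleton] at hr
        subst hr
        exact h17)
    have h2 : (H251.Small.surv [(17, 1, 4)] [2, 3, 5, 17] tblFour [(2, 8), (3, 2), (5, 2), (17, 1)] [17]).all
        (fun h => (h % 3 != 0 && h % 5 != 0) || (h % 9 != 0 && (h % 25 != 0 && h % 256 != 0)) ||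
          Nat.beq h 979200) = true := by decide +kernel
    rw [List.all_eq_true] at h2
    have h3 := h2 _ h1
    rw [Bool.or_eq_true, Bool.or_eq_true, Bool.and_eq_true, Bool.and_eq_true, Bool.and_eq_true, Nat.beq_eq] at h3
    rcases h3 with (⟨h3, h5⟩ | ⟨h9, h25, h256⟩) | h4
    · left
      have h3' : ¬ 3 ∣ Nat.card M := fun h => by
        rw [Nat.mod_eq_zero_of_dvd h] at h3; exact absurd h3 (by decide)
      have h5' : ¬ 5 ∣ Nat.card M := fun h => by
        rw [Nat.mod_eq_zero_of_dvd h] at h5; exact absurd h5 (by decide)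
      exact Two.of_two_primes (v := 3) (w := 5) (by norm_num) (by norm_num) (by norm_num) (by rw [card_sp44]; norm_num)
        (by rw [card_sp44]; norm_num) h3' h5'
    · right
      have h9' : ¬ 3 ^ 2 ∣ Nat.card M := fun h => by
        rw [Nat.mod_eq_zero_of_dvd (by simpa using h)] at h9; exact absurd h9 (by decide)
      have h25' : ¬ 5 ^ 2 ∣ Nat.card M := fun h => by
        rw [Nat.mod_eq_zero_of_dvd (by simpa using h)] at h25; exact absurd h25 (by decide)
      have h256' : ¬ 256 ∣ Nat.card M := fun h => by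
        rw [Nat.mod_eq_zero_of_dvd h] at h256; exact absurd h256 (by decide)
      refine ⟨?_, noSyl h256'⟩
      have key : ∀ {p : ℕ} {x y : G4}, p.Prime → ¬ p ^ 2 ∣ Nat.card M → (x : M4).mulVec e4 = e4 →
          (∀ v : V4, (y : M4).mulVec v = v → v = 0) → orderOf x = p → orderOf y = p →
          ∃ z : PSp 2 F4, orderOf z = p ∧ Miss M z := by
        intro p x y hp hpM hx hy hxo hyo
        rcases miss_or hp hpM (x := eqv x) (y := eqv y) (by rw [MulEquiv.orderOf_eq, hxo])
          (by rw [MulEquiv.orderOf_eq, hyo]) (by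
            intro g hg
            obtain ⟨g, rfl⟩ := eqv.surjective g
            obtain ⟨n, hn⟩ := mem_zpowers_iff.1 hg
            apply not_conj_of_fix hx hy hxo hyo hp.pos g
            rw [mem_zpowers_iff]
            refine ⟨n, eqv.injective ?_⟩
            rw [map_zpow, hn, map_mul, map_mul, map_inv]) with h | h
        · exact ⟨_, by rw [MulEquiv.orderOf_eq, hxo], h⟩
        · exact ⟨_, by rw [MulEquiv.orderOf_eq, hyo], h⟩
      obtain ⟨a, ha, ha2⟩ := key (p := 5) (x := y1) (y := y2) (by norm_num) h25' e4_fix.1 Y2_fpf order_y1 order_y2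
      obtain ⟨b, hb, hb2⟩ := key (p := 3) (x := x1) (y := x2) (by norm_num) h9' e4_fix.2.1 X2_fpf order_x1 order_x2
      exact twoT_of_ne ha2 hb2 (by rw [ha, hb]; norm_num)
    · exfalso
      apply hM
      exact Subgroup.eq_top_of_card_eq M (by rw [h4, card_sp44])
  · have hfp : Fact (Nat.Prime 17) := ⟨by norm_num⟩
    obtain ⟨x, hx⟩ := exists_prime_orderOf_dvd_card' (G := PSp 2 F4) 17 (by rw [card_sp44]; norm_num)
    have hd : Nat.card M ∣ 57600 := by
      have h1 : Nat.Coprime (Nat.card M) 17 := ((Nat.coprime_comm.1 ((Nat.Prime.coprime_iff_not_dvd (by norm_num)).2 h17)))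
      exact h1.dvd_of_dvd_mul_right (show Nat.card M ∣ 57600 * 17 by simpa using hcd)
    by_cases h256 : 256 ∣ Nat.card M
    · left
      by_cases h25 : 25 ∣ Nat.card M
      · have h3 : ¬ 3 ∣ Nat.card M := fun h3 => num_aux hmul hidx h256 h25 h3
        exact Two.of_two_primes (v := 3) (w := 17) (by norm_num) (by norm_num) (by norm_num)
          (by rw [card_sp44]; norm_num) (by rw [card_sp44]; norm_num) h3 h17
      · have hA := missA_or (M := M) (p := 5) (by norm_num) (by simpa using h25) (x := eqv y1) (y := eqv y2)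
          (by rw [MulEquiv.orderOf_eq, order_y1]) (by rw [MulEquiv.orderOf_eq, order_y2]) (by
            intro φ hφ
            obtain ⟨n, hn⟩ := mem_zpowers_iff.1 hφ
            apply not_aut ((eqv.trans φ).trans eqv.symm)
            rw [mem_zpowers_iff]
            refine ⟨n, eqv.injective ?_⟩
            rw [map_zpow, hn]
            simp)
        have h17' : ∀ φ : PSp 2 F4 ≃* PSp 2 F4, φ x ∉ M := not_mem_of_dvd h17 (by rw [hx])
        rcases hA with h | h
        · exact ⟨x, _, h17', h, fun φ hφ => by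
            have := congrArg orderOf hφ
            rw [MulEquiv.orderOf_eq, MulEquiv.orderOf_eq, hx, order_y1] at this
            norm_num at this⟩
        · exact ⟨x, _, h17', h, fun φ hφ => by
            have := congrArg orderOf hφ
            rw [MulEquiv.orderOf_eq, MulEquiv.orderOf_eq, hx, order_y2] at this
            norm_num at this⟩
    · right
      refine ⟨?_, noSyl h256⟩
      have hC := H714.PSpFour.card_centralizer F4.card hx
      have hN : Nat.card (normalizer (zpowers x : Set (PSp 2 F4))) ∣ 17 * 4 :=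
        ((data OT hS).cent (17, 1, 4) (by decide) (zpowers x) (by rw [Nat.card_zpowers, hx])).2
      obtain ⟨y, hy, hxy⟩ := exists_not_conj (p := 17) (n := 4) (by norm_num) hx hC
        (by have := Nat.le_of_dvd (by norm_num) hN; omega) (by norm_num)
      exact ⟨x, y, Miss.of_not_dvd h17 (by rw [hx]), Miss.of_not_dvd h17 (by rw [hy]), hxy⟩

/-- **row `Sp₄(4)` for S3500** -/
theorem row_s44 (OT : OrdDiv.OrderTable.{0})
    (hS : ∀ (X : Type) [Group X] [Finite X] [IsSimpleGroup X], Cfsg.IsKnownSimple' X)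
    (F : Type*) [Field F] [Fintype F] (hF : Fintype.card F = 4) : Row (PSp 2 F) := by
  refine Row.congr (LieClassical.FieldTransfer.pspCongr 2 (equivOfCard hF).symm) ?_
  intro M hM
  exact main OT hS M hM.1

end Cfsg.Agent.H547.Der.Four
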