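import Cfsg.Agent.H547.Der.Orb

/-!
# Quadratic space with 256 vectors, abstract group action (helper547, for S3500)

`Oct G V q`: the group `G` acts faithfully on the elementary abelian group `V` of order `256`, preserving the
nondegenerate quadratic form `q` with `135` nonzero singular vectors.
-/

set_option autoImplicit false

namespace Cfsg.Agent.H547.Der.Oc

open MulAction

/-- polar form -/
def pol {V : Type*} [AddCommGroup V] (q : V → ZMod 2) (u v : V) : ZMod 2 := q (u + v) + q u + q v

/-- the situation -/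
structure Oct (G V : Type*) [Group G] [AddCommGroup V] [DistribMulAction G V] (q : V → ZMod 2) : Prop where
  fin : Finite V
  two : ∀ v : V, v + v = 0
  card : Nat.card V = 256
  sing : Nat.card {v : V // v ≠ 0 ∧ q v = 0} = 135
  zero : q 0 = 0
  add : ∀ u v w : V, pol q (u + v) w = pol q u w + pol q v w
  nd : ∀ u : V, (∀ v : V, pol q u v = 0) → u = 0
  inv : ∀ (g : G) (v : V), q (g • v) = q v
  faith : ∀ g : G, (∀ v : V, g • v = v) → g = 1
  iso_le : ∀ R : AddSubgroup V, (∀ u ∈ R, ∀ v ∈ R, pol q u v = 0) → Nat.card R ≤ 16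

variable {G V : Type*} [Group G] [AddCommGroup V] [DistribMulAction G V] {q : V → ZMod 2}

/-- fixed vectors -/
def fx (V : Type*) [AddCommGroup V] [DistribMulAction G V] (g : G) : AddSubgroup V where
  carrier := {v | g • v = v}
  add_mem' := fun {a b} ha hb => by
    show g • (a + b) = a + b
    rw [smul_add, (ha : g • a = a), (hb : g • b = b)]
  zero_mem' := smul_zero g
  neg_mem' := fun {a} ha => by
    show g • (-a) = -a
    rw [smul_neg, (ha : g • a = a)]

theorem mem_fx {g : G} {v : V} : v ∈ fx V g ↔ g • v = v := Iff.rfl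

/-- the map `v ↦ g v + v` -/
def cmHom (V : Type*) [AddCommGroup V] [DistribMulAction G V] (g : G) : V →+ V where
  toFun v := g • v + v
  map_zero' := by rw [smul_zero, add_zero]
  map_add' a b := by rw [smul_add]; abel

/-- commutator -/
def cm (V : Type*) [AddCommGroup V] [DistribMulAction G V] (g : G) : AddSubgroup V := (cmHom V g).range

theorem mem_cm {g : G} {v : V} : v ∈ cm V g ↔ ∃ w : V, g • w + w = v := Iff.rfl

namespace Oct

variable (A : Oct G V q)

include A

theorem neg (v : V) : -v = v := neg_eq_of_add_eq_zero_left (A.two v)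

theorem add_eq_zero {u v : V} : u + v = 0 ↔ u = v := by
  rw [add_eq_zero_iff_eq_neg, A.neg]

omit A in
theorem pol_comm (u v : V) : pol q u v = pol q v u := by
  unfold pol
  rw [add_comm u v]
  ring

theorem pol_zero_left (v : V) : pol q 0 v = 0 := by
  unfold pol
  rw [zero_add, A.zero, add_zero]
  exact CharTwo.add_self_eq_zero _

theorem pol_zero_right (v : V) : pol q v 0 = 0 := by rw [pol_comm, A.pol_zero_left]

theorem pol_self (v : V) : pol q v v = 0 := by
  unfold pol
  rw [A.two, A.zero, zero_add]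
  exact CharTwo.add_self_eq_zero _

theorem add_right (u v w : V) : pol q u (v + w) = pol q u v + pol q u w := by
  rw [pol_comm, A.add, pol_comm v, pol_comm w]

omit A in
theorem q_add (u v : V) : q (u + v) = q u + q v + pol q u v := by
  unfold pol
  have h : ∀ a b c : ZMod 2, a = b + c + (a + b + c) := by decide
  exact h _ _ _

theorem pol_smul (g : G) (u v : V) : pol q (g • u) (g • v) = pol q u v := by
  unfold pol
  rw [← smul_add, A.inv, A.inv, A.inv]

theorem pol_fx_cm {g : G} {u w : V} (hu : u ∈ fx V g) (hw : w ∈ cm V g) : pol q u w = 0 := by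
  obtain ⟨v, rfl⟩ := mem_cm.1 hw
  rw [A.add_right]
  have h : pol q u (g • v) = pol q u v := by
    conv_lhs => rw [← mem_fx.1 hu]
    exact A.pol_smul g u v
  rw [h]
  exact CharTwo.add_self_eq_zero _

theorem card_mul (g : G) : Nat.card (fx V g) * Nat.card (cm V g) = 256 := by
  have hfin := A.fin
  have hk : (cmHom V g).ker = fx V g := by
    ext v
    rw [AddMonoidHom.mem_ker, mem_fx]
    exact A.add_eq_zero
  have h1 := AddSubgroup.card_eq_card_quotient_mul_card_addSubgroup (cmHom V g).ker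
  rw [Nat.card_congr (QuotientAddGroup.quotientKerEquivRange (cmHom V g)).toEquiv, hk, A.card] at h1
  rw [h1, mul_comm]
  rfl

/-- subgroups have order a power of two -/
theorem exists_card (R : AddSubgroup V) : ∃ k ≤ 8, Nat.card R = 2 ^ k := by
  have h : Nat.card R ∣ 2 ^ 8 := by
    have := R.card_addSubgroup_dvd_card
    rw [A.card] at this
    exact this
  exact (Nat.dvd_prime_pow Nat.prime_two).1 h

theorem eq_top_of_card {R : AddSubgroup V} (h : Nat.card R = 256) : R = ⊤ := by
  have := A.fin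
  exact AddSubgroup.eq_top_of_card_eq R (by rw [h, A.card])

theorem fx_ne {g : G} (hg : g ≠ 1) : Nat.card (fx V g) ≠ 256 := fun h => hg (A.faith g fun v => by
  have : v ∈ fx V g := by rw [A.eq_top_of_card h]; trivial
  exact this)

omit A in
theorem smul_mem_fx {g a : G} (h : a * g = g * a) {v : V} (hv : v ∈ fx V g) : a • v ∈ fx V g := by
  rw [mem_fx, smul_smul, ← h, mul_smul, mem_fx.1 hv]

omit A in
theorem smul_mem_cm {g a : G} (h : a * g = g * a) {v : V} (hv : v ∈ cm V g) : a • v ∈ cm V g := by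
  obtain ⟨w, rfl⟩ := mem_cm.1 hv
  refine mem_cm.2 ⟨a • w, ?_⟩
  rw [smul_add, smul_smul, smul_smul, h]

omit A in
theorem pow_mem_fx {g : G} {v : V} (hv : v ∈ fx V g) (n : ℕ) : v ∈ fx V (g ^ n) := by
  rw [mem_fx]
  induction n with
  | zero => rw [pow_zero, one_smul]
  | succ n ih => rw [pow_succ, mul_smul, mem_fx.1 hv, ih]

/-- telescoping sum -/
theorem sum_tel (g : G) (v : V) (n : ℕ) : ∑ i ∈ Finset.range n, g ^ i • (g • v + v) = g ^ n • v + v := by
  induction n with
  | zero => rw [Finset.sum_range_zero, pow_zero, one_smul, A.two]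
  | succ n ih =>
    rw [Finset.sum_range_succ, ih, smul_add, smul_smul, ← pow_succ]
    have h : g ^ n • v + v + (g ^ (n + 1) • v + g ^ n • v) = (g ^ n • v + g ^ n • v) + (g ^ (n + 1) • v + v) := by abel
    rw [h, A.two, zero_add]

/-- odd multiples -/
theorem odd_nsmul {n : ℕ} (hn : n % 2 = 1) (v : V) : n • v = v := by
  have h : n = 2 * (n / 2) + 1 := by omega
  rw [h, add_smul, mul_comm, mul_smul, two_smul, A.two, smul_zero, zero_add, one_smul]

theorem fx_inf_cm {g : G} {n : ℕ} (hg : g ^ n = 1) (hn : n % 2 = 1) {u : V} (h1 : u ∈ fx V g) (h2 : u ∈ cm V g) :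
    u = 0 := by
  obtain ⟨v, rfl⟩ := mem_cm.1 h2
  have h3 := A.sum_tel g v n
  have h4 : ∑ i ∈ Finset.range n, g ^ i • (g • v + v) = n • (g • v + v) := by
    rw [Finset.sum_congr rfl fun i _ => mem_fx.1 (pow_mem_fx h1 i)]
    rw [Finset.sum_const, Finset.card_range]
  rw [h4, A.odd_nsmul hn, hg, one_smul, A.two] at h3
  exact h3

/-- decomposition -/
theorem exists_add {g : G} {n : ℕ} (hg : g ^ n = 1) (hn : n % 2 = 1) (v : V) :
    ∃ u ∈ fx V g, ∃ w ∈ cm V g, v = u + w := by
  set u := ∑ i ∈ Finset.range n, g ^ i • v with hu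
  have h1 : g • u = u := by
    have h2 : g • u + u = 0 := by
      rw [hu, Finset.smul_sum, ← Finset.sum_add_distrib]
      have h3 : ∀ i ∈ Finset.range n, g • g ^ i • v + g ^ i • v = g ^ i • (g • v + v) := by
        intro i _
        rw [smul_add, smul_smul, smul_smul, ← pow_succ, ← pow_succ']
      rw [Finset.sum_congr rfl h3, A.sum_tel, hg, one_smul, A.two]
    exact A.add_eq_zero.1 h2
  refine ⟨u, h1, u + v, ?_, ?_⟩
  · have h2 : u + v = ∑ i ∈ Finset.range n, (g ^ i • v + v) := by
      rw [Finset.sum_add_distrib, Finset.sum_const, Finset.card_range, A.odd_nsmul hn]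
    rw [h2]
    refine AddSubgroup.sum_mem _ fun i _ => ?_
    rw [← A.sum_tel]
    refine AddSubgroup.sum_mem _ fun j _ => ?_
    refine smul_mem_cm ?_ (mem_cm.2 ⟨v, rfl⟩)
    rw [← pow_succ, ← pow_succ']
  · rw [← add_assoc, A.two, zero_add]

/-- nondegeneracy of the fixed space -/
theorem nd_fx {g : G} {n : ℕ} (hg : g ^ n = 1) (hn : n % 2 = 1) {u : V} (hu : u ∈ fx V g)
    (h : ∀ w ∈ fx V g, pol q u w = 0) : u = 0 := by
  refine A.nd u fun v => ?_
  obtain ⟨a, ha, b, hb, rfl⟩ := A.exists_add hg hn v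
  rw [A.add_right, h a ha, A.pol_fx_cm hu hb, add_zero]

theorem nd_cm {g : G} {n : ℕ} (hg : g ^ n = 1) (hn : n % 2 = 1) {u : V} (hu : u ∈ cm V g)
    (h : ∀ w ∈ cm V g, pol q u w = 0) : u = 0 := by
  refine A.nd u fun v => ?_
  obtain ⟨a, ha, b, hb, rfl⟩ := A.exists_add hg hn v
  rw [A.add_right, h b hb, pol_comm, A.pol_fx_cm ha hu, add_zero]

/-- the form is not constant on the nonzero vectors of a nondegenerate subspace -/
theorem not_const {R : AddSubgroup V} (hnd : ∀ u ∈ R, (∀ w ∈ R, pol q u w = 0) → u = 0) (hR : 8 ≤ Nat.card R)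
    {c : ZMod 2} (hc : ∀ v ∈ R, v ≠ 0 → q v = c) : False := by
  have hfin := A.fin
  have hex : ∀ s : Finset V, s.card < 8 → ∃ v ∈ R, v ∉ s := by
    intro s hs
    by_contra hcon
    push Not at hcon
    have h1 : Nat.card R ≤ Nat.card s := Nat.card_le_card_of_injective (fun x : R => (⟨x, hcon x x.2⟩ : s))
      fun a b h => Subtype.ext (congrArg (fun x : s => (x : V)) h)
    have h2 : Nat.card s = s.card := by rw [Nat.card_eq_fintype_card, Fintype.card_coe]
    omega
  have h01 : c = 0 ∨ c = 1 := by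
    have h : ∀ c : ZMod 2, c = 0 ∨ c = 1 := by decide
    exact h c
  classical
  rcases h01 with rfl | rfl
  · obtain ⟨v, hv, hv0⟩ := hex {0} (by simp)
    apply hv0
    rw [Finset.mem_singleton]
    refine hnd v hv fun w hw => ?_
    have hq : ∀ v ∈ R, q v = 0 := fun v hv => by
      by_cases h : v = 0
      · rw [h, A.zero]
      · exact hc v hv h
    unfold pol
    rw [hq _ (R.add_mem hv hw), hq v hv, hq w hw]
    rfl
  · obtain ⟨u, hu, hu0⟩ := hex {0} (by simp)
    rw [Finset.mem_singleton] at hu0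
    have hB : ∀ w ∈ R, w ≠ 0 → w ≠ u → pol q u w = 1 := by
      intro w hw hw0 hwu
      unfold pol
      rw [hc _ (R.add_mem hu hw) fun h => hwu (A.add_eq_zero.1 h).symm, hc u hu hu0, hc w hw hw0]
      decide
    obtain ⟨w1, hw1, hw10⟩ := hex {0, u} (by
      refine lt_of_le_of_lt (Finset.card_le_two) (by norm_num))
    obtain ⟨w2, hw2, hw20⟩ := hex {0, u, w1, u + w1} (by
      refine lt_of_le_of_lt (Finset.card_le_four) (by norm_num))
    simp only [Finset.mem_insert, Finset.mem_singleton, not_or] at hw10 hw20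
    have h1 := hB (w1 + w2) (R.add_mem hw1 hw2) (fun h => hw20.2.2.1 (A.add_eq_zero.1 h).symm) (fun h => by
      apply hw20.2.2.2
      rw [← h, add_comm w1 w2, add_assoc, A.two, add_zero])
    rw [A.add_right, hB w1 hw1 hw10.1 hw10.2, hB w2 hw2 hw20.1 hw20.2.1] at h1
    exact absurd h1 (by decide)

/-- nonzero singular vectors -/
def _root_.Cfsg.Agent.H547.Der.Oc.sg (q : V → ZMod 2) (R : AddSubgroup V) : Set V := {v | v ∈ R ∧ v ≠ 0 ∧ q v = 0}

theorem no_fifteen {R : AddSubgroup V} (hnd : ∀ u ∈ R, (∀ w ∈ R, pol q u w = 0) → u = 0) (hR : Nat.card R = 16)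
    (h3 : 3 ∣ Nat.card (sg q R)) (h5 : 5 ∣ Nat.card (sg q R)) : False := by
  have hfin := A.fin
  have h15 : 3 * 5 ∣ Nat.card (sg q R) := Nat.Coprime.mul_dvd_of_dvd_of_dvd (by norm_num) h3 h5
  have h16 : Nat.card ((R : Set V) \ {0} : Set V) = 15 := by
    rw [Nat.card_coe_set_eq, Set.ncard_sdiff_singleton_of_mem R.zero_mem, ← Nat.card_coe_set_eq]
    have : Nat.card (R : Set V) = 16 := hR
    rw [this]
  have hsub : sg q R ⊆ (R : Set V) \ {0} := fun v hv => ⟨hv.1, hv.2.1⟩
  obtain ⟨k, hk⟩ := h15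
  have hle : Nat.card (sg q R) ≤ 15 := by
    rw [← h16]
    exact Nat.card_le_card_of_injective (Set.inclusion hsub) (Set.inclusion_injective hsub)
  have hk2 : k = 0 ∨ k = 1 := by omega
  rcases hk2 with rfl | rfl
  · refine A.not_const hnd (by omega) (c := 1) fun v hv hv0 => ?_
    have h1 : IsEmpty (sg q R) := by
      rw [mul_zero, Nat.card_eq_zero] at hk
      rcases hk with h | h
      · exact h
      · exact absurd (inferInstance : Finite (sg q R)) (not_finite_iff_infinite.2 h)
    have h2 : q v ≠ 0 := fun h => h1.false ⟨v, hv, hv0, h⟩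
    revert h2
    generalize q v = c
    revert c
    decide
  · refine A.not_const hnd (by omega) (c := 0) fun v hv hv0 => ?_
    have h1 : sg q R = (R : Set V) \ {0} := by
      refine Set.eq_of_subset_of_ncard_le hsub ?_ (Set.toFinite _)
      rw [← Nat.card_coe_set_eq, ← Nat.card_coe_set_eq, h16, hk]
    have h2 : v ∈ sg q R := by rw [h1]; exact ⟨hv, hv0⟩
    exact h2.2.2

end Oct

end Cfsg.Agent.H547.Der.Oc
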