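import Cfsg.Agent.H547.Der.SixRow
import Cfsg.Agent.H547.Der.OctA
import Cfsg.Agent.H686.SqGen

/-!
# `Sp₆(2)`: squares of elements of order 4 (helper547, for S3502)
-/

set_option autoImplicit false

namespace Cfsg.Agent.H547.Der.Six

open Subgroup Cfsg Cfsg.Agent Cfsg.Agent.H547.Der.Oc

section abs

variable {G V : Type*} [Group G] [AddCommGroup V] [DistribMulAction G V]

theorem card_fx_cm [Finite V] (g : G) : Nat.card (fx V g) * Nat.card (cm V g) = Nat.card V ∨ ¬ ∀ v : V, v + v = 0 := by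
  by_cases h2 : ∀ v : V, v + v = 0
  · left
    have h1 : (cmHom V g).ker = fx V g := by
      ext v
      rw [AddMonoidHom.mem_ker, mem_fx]
      show g • v + v = 0 ↔ g • v = v
      constructor
      · intro h
        have h3 := h2 v
        have h4 : g • v = -v := eq_neg_of_add_eq_zero_left h
        rw [h4]
        exact (eq_neg_of_add_eq_zero_left h3).symm
      · intro h
        rw [h]
        exact h2 v
    rw [← h1]
    show Nat.card (cmHom V g).ker * Nat.card (cmHom V g).range = _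
    rw [← AddSubgroup.index_ker, AddSubgroup.card_mul_index]
  · exact Or.inr h2

/-- the fixed space of the square of an element of order 4 is not totally isotropic -/
theorem exists_hyp [Finite V] (h2 : ∀ v : V, v + v = 0) (h64 : Nat.card V = 64) (B : V → V → ZMod 2)
    (hiso : ∀ R : AddSubgroup V, (∀ u ∈ R, ∀ w ∈ R, B u w = 0) → Nat.card R ≤ 8) {g : G} (hg : g ^ 4 = 1) :
    ∃ e ∈ fx V (g ^ 2), ∃ f ∈ fx V (g ^ 2), B e f ≠ 0 := by
  by_contra hcon
  push Not at hcon
  have hle := hiso (fx V (g ^ 2)) hcon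
  have hneg : ∀ v : V, -v = v := fun v => neg_eq_of_add_eq_zero_left (h2 v)
  have hz : ∀ u v : V, u + v = 0 → u = v := fun u v h => by
    have h3 := eq_neg_of_add_eq_zero_left h
    rwa [hneg] at h3
  have c1 := (card_fx_cm (V := V) (g ^ 2)).resolve_right fun h => h h2
  have c2 := (card_fx_cm (V := V) g).resolve_right fun h => h h2
  rw [h64] at c1 c2
  -- `N₂ = N₁ ∘ N₁`
  have hN : ∀ v : V, g ^ 2 • v + v = g • (g • v + v) + (g • v + v) := by
    intro v
    have h3 : g ^ 2 • v = g • (g • v) := by rw [pow_two, mul_smul]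
    rw [smul_add, h3]
    have h4 := h2 (g • v)
    calc g • (g • v) + v = g • (g • v) + 0 + v := by rw [add_zero]
      _ = g • (g • v) + (g • v + g • v) + v := by rw [h4]
      _ = _ := by abel
  have h3 : cm V (g ^ 2) ≤ fx V (g ^ 2) := by
    intro v hv
    obtain ⟨w, hw⟩ := mem_cm.1 hv
    rw [mem_fx, ← hw, smul_add]
    have h4 : g ^ 2 • (g ^ 2 • w) = w := by
      rw [← mul_smul, ← pow_add, hg, one_smul]
    rw [h4, add_comm]
  have h4 : Nat.card (cm V (g ^ 2)) ≤ Nat.card (fx V (g ^ 2)) :=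
    Nat.card_le_card_of_injective _ (AddSubgroup.inclusion_injective h3)
  have h5 : Nat.card (fx V (g ^ 2)) = 8 ∧ Nat.card (cm V (g ^ 2)) = 8 := by
    have h6 : Nat.card (fx V (g ^ 2)) * Nat.card (cm V (g ^ 2)) ≤ 8 * Nat.card (cm V (g ^ 2)) :=
      Nat.mul_le_mul_right _ hle
    rw [c1] at h6
    have h7 : 8 ≤ Nat.card (cm V (g ^ 2)) := by omega
    constructor <;> omega
  have h6 : cm V (g ^ 2) = fx V (g ^ 2) := AddSubgroup.eq_of_le_of_card_ge h3 (by rw [h5.1, h5.2])
  have h7 : fx V g ≤ cm V g := by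
    intro v hv
    have h8 : v ∈ fx V (g ^ 2) := by
      rw [mem_fx] at hv ⊢
      rw [pow_two, mul_smul, hv, hv]
    rw [← h6] at h8
    obtain ⟨w, hw⟩ := mem_cm.1 h8
    rw [hN] at hw
    exact mem_cm.2 ⟨_, hw⟩
  -- the restriction
  let f : cm V g →+ V := (cmHom V g).comp (cm V g).subtype
  have h8 : Nat.card f.ker = Nat.card (fx V g) := by
    refine Nat.card_congr ⟨fun v => ⟨v.1.1, ?_⟩, fun v => ⟨⟨v.1, h7 v.2⟩, ?_⟩, fun v => rfl, fun v => rfl⟩
    · have h9 : g • (v.1.1 : V) + v.1.1 = 0 := v.2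
      exact hz _ _ h9
    · show g • (v.1 : V) + v.1 = 0
      have h9 : g • (v.1 : V) = v.1 := v.2
      rw [h9]
      exact h2 _
  have h9 : f.range = cm V (g ^ 2) := by
    ext v
    constructor
    · rintro ⟨⟨w, hw⟩, rfl⟩
      obtain ⟨x, hx⟩ := mem_cm.1 hw
      refine mem_cm.2 ⟨x, ?_⟩
      rw [hN, hx]
      rfl
    · intro hv
      obtain ⟨x, hx⟩ := mem_cm.1 hv
      refine ⟨⟨g • x + x, mem_cm.2 ⟨x, rfl⟩⟩, ?_⟩
      rw [← hx, hN]
      rfl
  have h10 : Nat.card f.ker * Nat.card f.range = Nat.card (cm V g) := by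
    rw [← AddSubgroup.index_ker, AddSubgroup.card_mul_index]
  rw [h8, h9, h5.2] at h10
  rw [← h10] at c2
  have h11 : Nat.card (fx V g) * Nat.card (fx V g) = 8 := by
    have h12 : Nat.card (fx V g) * (Nat.card (fx V g) * 8) = (Nat.card (fx V g) * Nat.card (fx V g)) * 8 := by ring
    omega
  have h12 : Nat.card (fx V g) ≤ 8 := by
    by_contra h
    push Not at h
    have := Nat.mul_le_mul h.le h.le
    omega
  generalize Nat.card (fx V g) = n at *
  interval_cases n <;> omega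

variable (τ : V → G) (B : V → V → ZMod 2)

/-- transvections -/
structure Tv : Prop where
  fin : Finite V
  two : ∀ v : V, v + v = 0
  add : ∀ u v w, B (u + v) w = B u w + B v w
  add' : ∀ u v w, B u (v + w) = B u v + B u w
  symm : ∀ u v, B u v = B v u
  self : ∀ u, B u u = 0
  nd : ∀ u, u ≠ 0 → ∃ v, B u v = 1
  inv : ∀ (g : G) u v, B (g • u) (g • v) = B u v
  faith : ∀ g h : G, (∀ v : V, g • v = h • v) → g = h
  tv0 : ∀ u v, B v u = 0 → τ u • v = v
  tv1 : ∀ u v, B v u = 1 → τ u • v = v + u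

variable {τ B}

theorem z01 (a : ZMod 2) : a = 0 ∨ a = 1 := by revert a; decide

namespace Tv

variable (A : Tv τ B)

include A

theorem conj (k : G) (u : V) : k * τ u * k⁻¹ = τ (k • u) := by
  refine A.faith _ _ fun v => ?_
  rw [mul_smul, mul_smul]
  have h1 : B (k⁻¹ • v) u = B v (k • u) := by
    rw [← A.inv k, smul_inv_smul]
  rcases z01 (B v (k • u)) with h | h
  · rw [A.tv0 _ _ h, A.tv0 _ _ (h1.trans h), smul_inv_smul]
  · rw [A.tv1 _ _ h, A.tv1 _ _ (h1.trans h), smul_add, smul_inv_smul]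

theorem comm {k : G} {u : V} (h : k • u = u) : k * τ u = τ u * k := by
  have h1 := A.conj k u
  rw [h] at h1
  exact mul_inv_eq_iff_eq_mul.1 h1

theorem sq (u : V) : τ u * τ u = 1 := by
  refine A.faith _ _ fun v => ?_
  rw [mul_smul, one_smul]
  rcases z01 (B v u) with h | h
  · rw [A.tv0 _ _ h, A.tv0 _ _ h]
  · rw [A.tv1 _ _ h, A.tv1 _ _ (by rw [A.add, h, A.self, add_zero]), add_assoc, A.two, add_zero]

theorem step {u v : V} (h : B u v = 1) : τ (u + v) • u = v := by
  rw [A.tv1 _ _ (by rw [A.add', A.self, h, zero_add]), ← add_assoc, A.two, zero_add]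

theorem trans1 {e e' : V} (he : e ≠ 0) (he' : e' ≠ 0) : ∃ k : G, k • e = e' := by
  have key : ∀ u v : V, B u v = 1 → ∃ k : G, k • u = v := fun u v h => ⟨_, A.step h⟩
  rcases z01 (B e e') with h | h
  · obtain ⟨w, hw1, hw2⟩ : ∃ w, B e w = 1 ∧ B e' w = 1 := by
      obtain ⟨w1, h1⟩ := A.nd e he
      obtain ⟨w2, h2⟩ := A.nd e' he'
      rcases z01 (B e' w1) with h3 | h3
      · rcases z01 (B e w2) with h4 | h4
        · exact ⟨w1 + w2, by rw [A.add', h1, h4, add_zero], by rw [A.add', h3, h2, zero_add]⟩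
        · exact ⟨w2, h4, h2⟩
      · exact ⟨w1, h1, h3⟩
    obtain ⟨k1, hk1⟩ := key _ _ hw1
    obtain ⟨k2, hk2⟩ := key w e' (by rw [A.symm]; exact hw2)
    exact ⟨k2 * k1, by rw [mul_smul, hk1, hk2]⟩
  · exact key _ _ h

theorem trans2 {e f f' : V} (h1 : B e f = 1) (h2 : B e f' = 1) : ∃ k : G, k • e = e ∧ k • f = f' := by
  rcases z01 (B f f') with h | h
  · refine ⟨τ (f + e + f') * τ e, ?_, ?_⟩
    · rw [mul_smul, A.tv0 _ _ (A.self e), A.tv0]
      rw [A.add', A.add', h1, h2, A.self, add_zero]; rfl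
    · rw [mul_smul, A.tv1 e f (by rw [A.symm]; exact h1)]
      exact A.step (by rw [A.add, h, h2, zero_add])
  · refine ⟨τ (f + f'), ?_, A.step h⟩
    rw [A.tv0]
    rw [A.add', h1, h2]; rfl

theorem trans {e f e' f' : V} (h1 : B e f = 1) (h2 : B e' f' = 1) : ∃ k : G, k • e = e' ∧ k • f = f' := by
  have hne : ∀ {u v : V}, B u v = 1 → u ≠ 0 := by
    rintro u v h rfl
    have h3 := A.add (0 : V) 0 v
    rw [add_zero, h] at h3
    exact absurd h3 (by decide)
  obtain ⟨k1, hk1⟩ := A.trans1 (hne h1) (hne h2)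
  obtain ⟨k2, hk2, hk3⟩ := A.trans2 (e := e') (f := k1 • f) (f' := f') (by rw [← hk1, A.inv]; exact h1) h2
  exact ⟨k2 * k1, by rw [mul_smul, hk1, hk2], by rw [mul_smul, hk3]⟩

theorem cube {e f : V} (h : B e f = 1) : orderOf (τ e * τ f) = 3 := by
  have h3 : Fact (Nat.Prime 3) := ⟨Nat.prime_three⟩
  have hfe : B f e = 1 := by rw [A.symm]; exact h
  refine orderOf_eq_prime ?_ fun h1 => ?_
  · have h4 : τ e * τ f * (τ e)⁻¹ = τ f * τ e * (τ f)⁻¹ := by
      rw [A.conj, A.conj, A.tv1 _ _ hfe, A.tv1 _ _ h, add_comm]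
    have hi : ∀ u, (τ u)⁻¹ = τ u := fun u => inv_eq_of_mul_eq_one_left (A.sq u)
    rw [hi, hi] at h4
    calc (τ e * τ f) ^ 3 = (τ e * τ f * τ e) * (τ f * τ e * τ f) := by rw [pow_succ, pow_two]; group
      _ = (τ f * τ e * τ f) * (τ f * τ e * τ f) := by rw [h4]
      _ = τ f * τ e * (τ f * τ f) * τ e * τ f := by group
      _ = 1 := by rw [A.sq, mul_one, mul_assoc (τ f), A.sq, mul_one, A.sq]
  · have h5 : (τ e * τ f) • e = f := by
      rw [mul_smul, A.tv1 _ _ h, A.tv1 _ _ (by rw [A.add, A.self, hfe, zero_add]), add_comm e f, add_assoc, A.two, add_zero]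
    rw [h1, one_smul] at h5
    rw [h5, A.self] at h
    exact absurd h (by decide)

/-- the conclusion -/
theorem four (h64 : Nat.card V = 64)
    (hiso : ∀ R : AddSubgroup V, (∀ u ∈ R, ∀ w ∈ R, B u w = 0) → Nat.card R ≤ 8) {y0 : G} (hy0 : orderOf y0 = 5)
    {e0 f0 : V} (h0 : B e0 f0 = 1) (he0 : y0 • e0 = e0) (hf0 : y0 • f0 = f0) {g : G} (hg : orderOf g = 4) :
    ∃ a y : G, orderOf a = 3 ∧ orderOf y = 5 ∧ a * y = y * a ∧ a * g ^ 2 = g ^ 2 * a := by
  have := A.fin
  obtain ⟨e, he, f, hf, hef⟩ := exists_hyp A.two h64 B hiso (g := g) (by rw [← hg, pow_orderOf_eq_one])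
  have hef1 : B e f = 1 := (z01 _).resolve_left hef
  obtain ⟨k, hk1, hk2⟩ := A.trans h0 hef1
  have hye : (k * y0 * k⁻¹) • e = e := by
    rw [mul_smul, mul_smul, ← hk1, inv_smul_smul, he0]
  have hyf : (k * y0 * k⁻¹) • f = f := by
    rw [mul_smul, mul_smul, ← hk2, inv_smul_smul, hf0]
  have c : ∀ t : G, t • e = e → t • f = f → τ e * τ f * t = t * (τ e * τ f) := by
    intro t h1 h2
    rw [mul_assoc, ← A.comm h2, ← mul_assoc, ← A.comm h1, mul_assoc]
  exact ⟨τ e * τ f, k * y0 * k⁻¹, A.cube hef1, by rw [H439.Der.orderOf_conj, hy0], c _ hye hyf, c _ he hf⟩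

end Tv

end abs

/-! ### the group `Sp₆(2)` -/

/-- the space -/
def U6 : Type := I6 → ZMod 2

instance instAddU6 : AddCommGroup U6 := inferInstanceAs (AddCommGroup (I6 → ZMod 2))
instance instModU6 : Module (ZMod 2) U6 := inferInstanceAs (Module (ZMod 2) (I6 → ZMod 2))
instance instFinU6 : Finite U6 := inferInstanceAs (Finite (I6 → ZMod 2))

/-- matrix times vector -/
def mu (A : M6) (v : U6) : U6 := Matrix.mulVec A (show I6 → ZMod 2 from v)

/-- the form -/
def bl (u v : U6) : ZMod 2 := bil u v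

instance instActU6 : DistribMulAction G6 U6 where
  smul g v := mu (g : M6) v
  one_smul v := Matrix.one_mulVec (show I6 → ZMod 2 from v)
  mul_smul g h v := (Matrix.mulVec_mulVec (show I6 → ZMod 2 from v) (g : M6) (h : M6)).symm
  smul_zero g := Matrix.mulVec_zero (g : M6)
  smul_add g u v := Matrix.mulVec_add (g : M6) (show I6 → ZMod 2 from u) v

instance instCommU6 : SMulCommClass G6 (ZMod 2) U6 where
  smul_comm g c v := Matrix.mulVec_smul (g : M6) c (show I6 → ZMod 2 from v)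

theorem smul_u6 (g : G6) (v : U6) : g • v = mu (g : M6) v := rfl

theorem bl_add (u v w : U6) : bl (u + v) w = bl u w + bl v w := by
  have hadd : ∀ i, (u + v) i = u i + v i := fun _ => rfl
  simp only [bl, bil, hadd]
  ring

theorem bl_symm (u v : U6) : bl u v = bl v u := by
  simp only [bl, bil]
  ring

theorem bl_add' (u v w : U6) : bl u (v + w) = bl u v + bl u w := by
  rw [bl_symm, bl_add, bl_symm v, bl_symm w]

theorem bl_self (u : U6) : bl u u = 0 := by
  have h : ∀ a b : ZMod 2, a * b + b * a = 0 := by decide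
  simp only [bl, bil, h]
  rfl

theorem bl_inv (g : G6) (u v : U6) : bl (g • u) (g • v) = bl u v := bil_smul g u v

set_option maxRecDepth 100000 in
theorem bil_nd : ∀ u : P6, u ≠ o6 → ∃ v : P6, bil (dec u) (dec v) = 1 := by decide +kernel

theorem bl_nd (u : U6) (hu : u ≠ 0) : ∃ v, bl u v = 1 := by
  obtain ⟨v, hv⟩ := bil_nd (enc u) (fun h => hu (by
    have h1 := dec_enc u
    rw [h, dec_o6] at h1
    exact h1.symm))
  have h2 : dec (enc (show V6 from u)) = (show V6 from u) := dec_enc _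
  exact ⟨dec v, (congrArg (fun w => bil w (dec v)) h2).symm.trans hv⟩

theorem frm6 : H686.SqGen.Frm (ZMod 2) G6 (V := U6) bl where
  add := bl_add
  smul c u w := by
    have hs : ∀ i, (c • u) i = c * u i := fun _ => rfl
    simp only [bl, bil, hs]
    ring
  refl u v h := by rw [bl_symm]; exact h
  sub_right u v w := by
    have hs : ∀ i, (v - w) i = v i - w i := fun _ => rfl
    simp only [bl, bil, hs]
    ring
  inv := bl_inv
  nondeg u h := by
    by_contra hu
    obtain ⟨v, hv⟩ := bl_nd u hu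
    rw [h v] at hv
    exact absurd hv (by decide)

theorem card_U6 : Nat.card U6 = 64 := by
  have h : Nat.card U6 = Nat.card (I6 → ZMod 2) := rfl
  rw [h, Nat.card_eq_fintype_card, Fintype.card_fun, ZMod.card, Fintype.card_sum, Fintype.card_fin]
  norm_num

theorem iso_le6 (R : AddSubgroup U6) (hR : ∀ u ∈ R, ∀ w ∈ R, bl u w = 0) : Nat.card R ≤ 8 := by
  have h1 := H686.SqGen.card_isotropic_le frm6 (R := AddSubgroup.toZModSubmodule 2 R) (fun v hv w hw => hR v hv w hw)
  have h3 : Nat.card (AddSubgroup.toZModSubmodule 2 R) = Nat.card R := rfl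
  rw [card_U6, h3] at h1
  by_contra hcon
  push Not at hcon
  have h4 := Nat.pow_le_pow_left (show 9 ≤ Nat.card R from hcon) 2
  omega

/-- the transvection matrix -/
def tvm (u : V6) : M6 := 1 + Matrix.vecMulVec u ((Matrix.J (Fin 3) (ZMod 2)).mulVec u)

set_option maxRecDepth 100000 in
theorem tvm_sp' : ∀ u : P6, tvm (dec u) * Matrix.J (Fin 3) (ZMod 2) * (tvm (dec u)).transpose =
    Matrix.J (Fin 3) (ZMod 2) := by decide +kernel

theorem tvm_sp (u : V6) : tvm u * Matrix.J (Fin 3) (ZMod 2) * (tvm u).transpose = Matrix.J (Fin 3) (ZMod 2) := by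
  have h := tvm_sp' (enc u)
  rwa [dec_enc] at h

/-- transvections -/
def tv (u : U6) : G6 := ⟨tvm u, SymplecticGroup.mem_iff.2 (tvm_sp u)⟩

theorem tv_smul (u v : U6) : tv u • v = v + bl v u • u := by
  have h1 : tv u • v = Matrix.mulVec (1 + Matrix.vecMulVec (show I6 → ZMod 2 from u)
      ((Matrix.J (Fin 3) (ZMod 2)).mulVec (show I6 → ZMod 2 from u))) (show I6 → ZMod 2 from v) := rfl
  rw [h1, Matrix.add_mulVec, Matrix.one_mulVec, Matrix.vecMulVec_mulVec]
  have h2 : bl v u = ((Matrix.J (Fin 3) (ZMod 2)).mulVec u) ⬝ᵥ (show I6 → ZMod 2 from v) := by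
    rw [dotProduct_comm]
    exact bil_eq v u
  rw [h2]
  funext i
  show v i + u i * _ = v i + _ * u i
  rw [mul_comm]
  rfl

theorem tvInst : Tv tv bl where
  fin := inferInstance
  two v := CharTwo.add_self_eq_zero (R := I6 → ZMod 2) v
  add := bl_add
  add' := bl_add'
  symm := bl_symm
  self := bl_self
  nd := bl_nd
  inv := bl_inv
  faith g h hgh := by
    apply Subtype.ext
    exact Matrix.ext_of_mulVec_single fun i => hgh (show U6 from Pi.single i 1)
  tv0 u v h := by rw [tv_smul, h, zero_smul, add_zero]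
  tv1 u v h := by rw [tv_smul, h, one_smul]

set_option maxRecDepth 100000 in
theorem e0_spec : bil (dec f6) (Y3.mulVec (dec f6)) = 1 ∧ Y5.mulVec (dec f6) = dec f6 ∧
    Y5.mulVec (Y3.mulVec (dec f6)) = Y3.mulVec (dec f6) := by decide +kernel

/-- **squares of elements of order 4 in `Sp₆(2)`** -/
theorem four_g6 {g : G6} (hg : orderOf g = 4) :
    ∃ a y : G6, orderOf a = 3 ∧ orderOf y = 5 ∧ a * y = y * a ∧ a * g ^ 2 = g ^ 2 * a := by
  refine tvInst.four card_U6 iso_le6 order_y5 (e0 := dec f6) (f0 := (show U6 from Y3.mulVec (dec f6)))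
    e0_spec.1 ?_ ?_ hg
  · show mu ((z15 ^ 3 : G6) : M6) _ = _
    rw [coe_y5]
    exact e0_spec.2.1
  · show mu ((z15 ^ 3 : G6) : M6) _ = _
    rw [coe_y5]
    exact e0_spec.2.2

theorem four_congr {H K : Type*} [Group H] [Group K] (e : H ≃* K) (h : ∀ g : K, orderOf g = 4 →
    ∃ a y : K, orderOf a = 3 ∧ orderOf y = 5 ∧ a * y = y * a ∧ a * g ^ 2 = g ^ 2 * a) (g : H) (hg : orderOf g = 4) :
    ∃ a y : H, orderOf a = 3 ∧ orderOf y = 5 ∧ a * y = y * a ∧ a * g ^ 2 = g ^ 2 * a := by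
  obtain ⟨a, y, ha, hy, h1, h2⟩ := h (e g) (by rw [MulEquiv.orderOf_eq, hg])
  refine ⟨e.symm a, e.symm y, by rw [MulEquiv.orderOf_eq, ha], by rw [MulEquiv.orderOf_eq, hy], ?_, ?_⟩
  · rw [← map_mul, h1, map_mul]
  · apply e.injective
    rw [map_mul, map_mul, map_pow, e.apply_symm_apply, h2]

set_option maxRecDepth 100000 in
/-- the simple groups of order 1451520 -/
theorem four_simple (OT : OrdDiv.OrderTable.{0})
    (hS : ∀ (X : Type) [Group X] [Finite X] [IsSimpleGroup X], Cfsg.IsKnownSimple' X)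
    (M : Type) [Group M] [Finite M] (hs : IsSimpleGroup M) (h : Nat.card M = 1451520) (g : M) (hg : orderOf g = 4) :
    ∃ a y : M, orderOf a = 3 ∧ orderOf y = 5 ∧ a * y = y * a ∧ a * g ^ 2 = g ^ 2 * a := by
  have hna : ¬ ∀ x y : M, x * y = y * x := by
    intro hab
    let cg : CommGroup M := { (inferInstance : Group M) with mul_comm := hab }
    have h3 : (Nat.card M).Prime := IsSimpleGroup.prime_card (α := M)
    rw [h] at h3
    norm_num at h3
  obtain ⟨c, hc, hr⟩ := OrdDiv.exists_real_filter OT (hS M) hna (l := [(2, 9), (3, 4), (5, 1), (7, 1)])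
    (N := 1451520) (by decide +kernel) (by rw [h]) (fun o => Nat.beq o 1451520) (by rw [h]; rfl)
  rw [show ((OrdDiv.cands [(2, 9), (3, 4), (5, 1), (7, 1)] 1451520).filter fun g => Nat.beq (OrdDiv.ordN g) 1451520) =
    [.psp 3 2] by decide +kernel] at hc
  simp only [List.mem_cons, List.not_mem_nil, or_false] at hc
  subst hc
  obtain ⟨F, _, _, hF, ⟨e⟩⟩ := hr
  have e1 := H503.El.pspEquiv (m := 3) (by norm_num)
  have e2 : M ≃* G6 := e.trans ((e1.trans (LieClassical.FieldTransfer.pspCongr 3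
    (ZMod.ringEquivOfPrime F Nat.prime_two hF))).symm)
  exact four_congr e2 (fun g hg => four_g6 hg) g hg

end Cfsg.Agent.H547.Der.Six
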