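import Cfsg.Agent.H547.Der.OctQ
import Cfsg.Agent.H547.Der.SixFour
import Cfsg.Agent.H221.Der.CosOEight

/-!
# `Ω⁺₈(2)`: the row for S3502 (helper547)
-/

set_option autoImplicit false

namespace Cfsg.Agent.H547.Der.Eight

open Subgroup Cfsg Cfsg.Agent.H503.El.O8 Cfsg.Agent.H547.Der.Oc Cfsg.Agent.H439.Der Cfsg.Agent Cfsg.Agent.H970.StabNum
open Cfsg.Agent.H396

/-- the property of `Sp₆(2)` -/
def F4 : Prop := ∀ (M : Type) [Group M] [Finite M], IsSimpleGroup M → Nat.card M = 1451520 → ∀ g : M, orderOf g = 4 →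
  ∃ a y : M, orderOf a = 3 ∧ orderOf y = 5 ∧ a * y = y * a ∧ a * g ^ 2 = g ^ 2 * a

theorem prs_a : ∀ p ∈ prs8, 181440 ∣ p.1 → p.1 = 181440 ∨ p = (1451520, 1451520) := by decide

theorem prs_b : ∀ p ∈ prs8, 604800 ∣ p.1 → p.1 = 604800 := by decide

theorem prs_c : ∀ p ∈ prs8, 1451520 ∣ p.1 → p.1 = 1451520 := by decide

/-- overgroups -/
theorem overG (OT : OrdDiv.OrderTable.{0})
    (hS : ∀ (X : Type) [Group X] [Finite X] [IsSimpleGroup X], Cfsg.IsKnownSimple' X)
    {R : Subgroup T8} (hR : R ≠ ⊤) (h7 : 7 ∣ Nat.card R) (h5 : 5 ∣ Nat.card R) (hc : ¬ IsCoatom R) :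
    Three T8 R ∨ ∃ N : Subgroup T8, R ≤ N ∧ Nat.card R ≠ Nat.card N ∧ Nat.card R ∣ Nat.card N ∧
      ∃ L : Subgroup N, L.Normal ∧ IsSimpleGroup L ∧ (Nat.card N, Nat.card L) ∈ prs8 := by
  have h1 : ∃ N : Subgroup T8, R < N ∧ N ≠ ⊤ := by
    by_contra h
    push Not at h
    exact hc ⟨hR, h⟩
  obtain ⟨N, hRN, hN⟩ := h1
  have hd := Subgroup.card_dvd_of_le hRN.le
  by_cases hO : pCore 2 N = ⊥
  · right
    obtain ⟨L, hLn, hLs, -, hm⟩ := classify OT hS hN (h7.trans hd) (h5.trans hd) hO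
    refine ⟨N, hRN.le, fun h => ?_, hd, L, hLn, hLs, hm⟩
    exact hRN.ne (Subgroup.eq_of_le_of_card_ge hRN.le h.ge)
  · left
    exact (TO2 (h5.trans hd) hO).mono hRN.le

theorem eq_top_of {H : Type*} [Group H] [Finite H] {L : Subgroup H} (h : Nat.card H = Nat.card L) : L = ⊤ :=
  Subgroup.eq_top_of_card_eq L h.symm

theorem no_over {N : Subgroup T8} {R : Subgroup T8} (hRN : R ≤ N) {L : Subgroup N} (hs : IsSimpleGroup L)
    (hN : Nat.card N = 1451520) (hL : Nat.card L = 1451520) (hR : Nat.card R = 181440) : False := by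
  have h1 : L = ⊤ := eq_top_of (hN.trans hL.symm)
  have e : N ≃* L := (Subgroup.topEquiv.symm).trans (MulEquiv.subgroupCongr h1.symm)
  have hNs : IsSimpleGroup N := e.isSimpleGroup
  refine no_index_eight hNs hN (H := R.subgroupOf N) ?_
  have h2 := (R.subgroupOf N).card_mul_index
  have h3 : Nat.card (R.subgroupOf N) = 181440 := by
    rw [← hR]
    exact Nat.card_congr (subgroupOfEquivOfLe hRN).toEquiv
  rw [h3, hN] at h2
  omega

/-- **all proper subgroups** -/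
theorem all_cases (OT : OrdDiv.OrderTable.{0})
    (hS : ∀ (X : Type) [Group X] [Finite X] [IsSimpleGroup X], Cfsg.IsKnownSimple' X) (hF4 : F4)
    (R : Subgroup T8) (hR : R ≠ ⊤) : Fin3 T8 R ∨ (IsCoatom R ∧ H938.Sax.Miss T8 R) := by
  have key : (Three T8 R ∨ (ThreeT T8 R ∧ Two T8 R ∧ NoOne T8 R)) → Fin3 T8 R := fun h => by
    rcases h with h | ⟨h1, h2, h3⟩
    · exact Or.inl h
    · exact Or.inr ⟨h1, h2, Or.inl h3⟩
  by_cases h5 : 5 ∣ Nat.card R
  swap
  · exact Or.inl (Or.inl (T5 h5))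
  by_cases h7 : 7 ∣ Nat.card R
  swap
  · exact Or.inl (key (T7 OT hS h7 h5))
  by_cases hO : pCore 2 R = ⊥
  swap
  · exact Or.inl (Or.inl (TO2 h5 hO))
  obtain ⟨L, hLn, hLs, hna, hm⟩ := classify OT hS hR h7 h5 hO
  have hcases : (Nat.card R = 2520 ∧ Nat.card L = 2520) ∨ (Nat.card R = 5040 ∧ Nat.card L = 2520) ∨
      (Nat.card R = 20160 ∧ Nat.card L = 20160) ∨ (Nat.card R = 40320 ∧ Nat.card L = 20160) ∨
      (Nat.card R = 181440 ∧ Nat.card L = 181440) ∨ (Nat.card R = 604800 ∧ Nat.card L = 604800) ∨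
      (Nat.card R = 1451520 ∧ Nat.card L = 1451520) := by
    simpa only [prs8, List.mem_cons, List.not_mem_nil, or_false, Prod.mk.injEq] using hm
  rcases hcases with ⟨hRc, hLc⟩ | ⟨hRc, hLc⟩ | ⟨hRc, hLc⟩ | ⟨hRc, hLc⟩ | ⟨hRc, hLc⟩ | ⟨hRc, hLc⟩ | ⟨hRc, hLc⟩
  · have h1 := index_of hRc hLc
    exact Or.inl (key (Or.inr (case2520 OT hS hLn hLs hna (by
      have : L.index = 1 := by omega
      rw [this]; norm_num) hLc (by rw [hRc]; norm_num) (by rw [hRc]; norm_num))))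
  · have h1 := index_of hRc hLc
    exact Or.inl (key (Or.inr (case2520 OT hS hLn hLs hna (by
      have : L.index = 2 := by omega
      rw [this]) hLc (by rw [hRc]; norm_num) (by rw [hRc]; norm_num))))
  · have h1 := index_of hRc hLc
    exact Or.inl (key (case20160 OT hS hLn hLs hna (by
      have : L.index = 1 := by omega
      rw [this]; norm_num) hLc (by rw [hRc]; norm_num) (by rw [hRc]; norm_num)))
  · have h1 := index_of hRc hLc
    exact Or.inl (key (case20160 OT hS hLn hLs hna (by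
      have : L.index = 2 := by omega
      rw [this]) hLc (by rw [hRc]; norm_num) (by rw [hRc]; norm_num)))
  · -- `A₉`
    have hmiss : H938.Sax.Miss T8 R := by
      refine ⟨g8, fun φ hφ => ?_⟩
      have hL : L = ⊤ := eq_top_of (hRc.trans hLc.symm)
      have h3 : (⟨φ g8, hφ⟩ : R) ∈ L := by rw [hL]; trivial
      refine case181440 OT hS hna hLc ⟨⟨φ g8, hφ⟩, h3⟩ ?_
      rw [Subgroup.orderOf_mk, Subgroup.orderOf_mk, MulEquiv.orderOf_eq, order_g8]
    by_cases hco : IsCoatom R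
    · exact Or.inr ⟨hco, hmiss⟩
    · rcases overG OT hS hR h7 h5 hco with h | ⟨N, hRN, hne, hd, LN, hLNn, hLNs, hmN⟩
      · exact Or.inl (Or.inl h)
      · exfalso
        rw [hRc] at hne hd
        rcases prs_a _ hmN hd with h | h
        · exact hne h.symm
        · exact no_over hRN hLNs (congrArg Prod.fst h) (congrArg Prod.snd h) hRc
  · -- `J₂`
    have hJR := caseD2 OT hS card_t8 hent (data OT hS) (R := R) (Or.inl hRc)
    have hmiss : H938.Sax.Miss T8 R := ⟨tg4 ^ 2, not_j2_mem hJR⟩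
    by_cases hco : IsCoatom R
    · exact Or.inr ⟨hco, hmiss⟩
    · rcases overG OT hS hR h7 h5 hco with h | ⟨N, hRN, hne, hd, LN, hLNn, hLNs, hmN⟩
      · exact Or.inl (Or.inl h)
      · exfalso
        rw [hRc] at hne hd
        exact hne (prs_b _ hmN hd).symm
  · -- `Sp₆(2)`
    have hmiss : H938.Sax.Miss T8 R := by
      refine ⟨tg4, fun φ hφ => ?_⟩
      have hL : L = ⊤ := eq_top_of (hRc.trans hLc.symm)
      have h3 : (⟨φ tg4, hφ⟩ : R) ∈ L := by rw [hL]; trivial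
      obtain ⟨a, y, ha, hy, hay, hag⟩ := hF4 L hLs hLc ⟨⟨φ tg4, hφ⟩, h3⟩ (by
        rw [Subgroup.orderOf_mk, Subgroup.orderOf_mk, MulEquiv.orderOf_eq, order_tg4])
      refine no_three φ ((a : R) : T8) ((y : R) : T8) (by rw [Subgroup.orderOf_coe, Subgroup.orderOf_coe, ha])
        (by rw [Subgroup.orderOf_coe, Subgroup.orderOf_coe, hy]) ?_ ?_
      · exact congrArg (fun z : L => ((z : R) : T8)) hay
      · exact congrArg (fun z : L => ((z : R) : T8)) hag
    by_cases hco : IsCoatom R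
    · exact Or.inr ⟨hco, hmiss⟩
    · rcases overG OT hS hR h7 h5 hco with h | ⟨N, hRN, hne, hd, LN, hLNn, hLNs, hmN⟩
      · exact Or.inl (Or.inl h)
      · exfalso
        rw [hRc] at hne hd
        exact hne (prs_c _ hmN hd).symm

theorem rowW_t8 (OT : OrdDiv.OrderTable.{0})
    (hS : ∀ (X : Type) [Group X] [Finite X] [IsSimpleGroup X], Cfsg.IsKnownSimple' X) (hF4 : F4) (hcos : Cos T8) :
    RowW T8 := by
  refine ⟨Or.inr ⟨hcos, fun M hM => ?_⟩, fun R hR hRc => ?_⟩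
  · rcases all_cases OT hS hF4 M hM.1 with h | h
    · rcases h with h | h
      · exact h.two.miss
      · exact h.2.1.miss
    · exact h.2
  · rcases all_cases OT hS hF4 R hR with h | h
    · exact h
    · exact absurd h.1 hRc

theorem f4 (OT : OrdDiv.OrderTable.{0})
    (hS : ∀ (X : Type) [Group X] [Finite X] [IsSimpleGroup X], Cfsg.IsKnownSimple' X) : F4 :=
  fun M _ _ hs h g hg => Six.four_simple OT hS M hs h g hg

theorem cos_t8 : Cos T8 := Cos.congr (H503.El.pomCongr (F := ZMod 2) (ZMod.card 2)).symm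
  (H221.Der.CosOEight.cos_o8p2 (F := ZMod 2) (ZMod.card 2))

/-- **row `Ω⁺₈(2)` for S3502** -/
theorem rowW_o8p2 (OT : OrdDiv.OrderTable.{0})
    (hS : ∀ (X : Type) [Group X] [Finite X] [IsSimpleGroup X], Cfsg.IsKnownSimple' X)
    (F : Type) [Field F] [Fintype F] (hF : Fintype.card F = 2) : RowW (POmega F (quadFormPlus 4 F)) :=
  RowW.congr (H503.El.pomCongr hF) (rowW_t8 OT hS (f4 OT hS) cos_t8)

end Cfsg.Agent.H547.Der.Eight
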