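import Cfsg.Agent.H547.Der.SixB
import Cfsg.Agent.H547.Der.Gen
import Cfsg.Agent.H503.El.Sp8
import Cfsg.Agent.H251.Small.Num
import Cfsg.Agent.OddHalf.Table.OutSpSix
import Cfsg.Agent.S2142

/-!
# `Sp₆(2)`: two classes of derangements (helper547, for S3500)
-/

set_option autoImplicit false

namespace Cfsg.Agent.H547.Der.Six

open Subgroup MulAction Cfsg.Agent.H439.Der Cfsg.Agent.H970.StabNum Cfsg.Agent.H503.El Cfsg.Agent Cfsg

theorem card_psp62 : Nat.card (PSp 3 (ZMod 2)) = 1451520 := by
  have hF : Fintype.card (ZMod 2) = 2 := ZMod.card 2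
  have h := H732.SelfCent.card_psp hF (n := 3) (by norm_num)
  rw [show Nat.gcd 2 (2 - 1) = 1 by norm_num] at h
  simp only [Finset.prod_range_succ, Finset.prod_range_zero] at h
  norm_num at h ⊢
  omega

/-- the list of orders of simple groups -/
def tblSix : List ℕ := [60, 168, 360, 504, 2520, 6048, 20160, 25920, 181440, 1451520]

set_option maxRecDepth 100000 in
/-- orders divisible by 35 -/
theorem order_of_35 (OT : OrdDiv.OrderTable.{0})
    (hS : ∀ (X : Type) [Group X] [Finite X] [IsSimpleGroup X], Cfsg.IsKnownSimple' X)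
    (M : Subgroup (PSp 3 (ZMod 2))) (hM : M ≠ ⊤) (h5 : 5 ∣ Nat.card M) (h7 : 7 ∣ Nat.card M) : ¬ 27 ∣ Nat.card M := by
  classical
  have hF : Fintype.card (ZMod 2) = 2 := ZMod.card 2
  have hsimp : IsSimpleGroup (PSp 3 (ZMod 2)) := S0270.result 3 (by norm_num) (by omega)
  have D : Data (PSp 3 (ZMod 2)) [(7, 1, 6)] [2, 3, 5, 7] tblSix := by
    refine mk_data OT hS (l := [(2, 9), (3, 4), (5, 1), (7, 1)]) card_psp62 (by decide +kernel) ?_
    intro x hx
    rw [List.mem_singleton] at hx
    subst hx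
    exact entry_of_ex (by norm_num) card_psp62 (by norm_num) (by norm_num) (by decide +kernel)
      (H732.SelfCent.psp_six_two hF)
  have h1 := H251.Small.mem_surv D (l := [(2, 9), (3, 4), (5, 1), (7, 1)]) (prs := [5, 7])
    (by rw [card_psp62]; decide +kernel) M (by
      intro r hr
      simp only [List.mem_cons, List.not_mem_nil, or_false] at hr
      rcases hr with rfl | rfl
      · exact h5
      · exact h7)
  have h2 : (H251.Small.surv [(7, 1, 6)] [2, 3, 5, 7] tblSix [(2, 9), (3, 4), (5, 1), (7, 1)] [5, 7]).all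
      (fun h => h % 27 != 0 || Nat.blt 51840 h) = true := by decide +kernel
  rw [List.all_eq_true] at h2
  have h3 := h2 _ h1
  intro h27
  rw [Nat.mod_eq_zero_of_dvd h27] at h3
  have h4 : 51840 < Nat.card M := by
    simpa using h3
  have h5 := (S2142.result hF 3 (by norm_num)).1 M hM
  have h6 := M.index_mul_card
  rw [card_psp62] at h6
  have h7 : 28 ≤ M.index := by
    have : 2 ^ (3 - 1) * (2 ^ 3 - 1) = 28 := by norm_num
    rwa [this] at h5
  have h8 : 28 * 51841 ≤ M.index * Nat.card M := Nat.mul_le_mul h7 h4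
  omega

theorem order35 (OT : OrdDiv.OrderTable.{0})
    (hS : ∀ (X : Type) [Group X] [Finite X] [IsSimpleGroup X], Cfsg.IsKnownSimple' X)
    (M : Subgroup G6) (hM : M ≠ ⊤) (h5 : 5 ∣ Nat.card M) (h7 : 7 ∣ Nat.card M) : ¬ 27 ∣ Nat.card M := by
  have e := pspEquiv (m := 3) (by norm_num)
  have hc : Nat.card (M.map e.toMonoidHom) = Nat.card M := (Nat.card_congr (e.subgroupMap M).toEquiv).symm
  have h := order_of_35 OT hS (M.map e.toMonoidHom) (by
    intro h
    apply hM
    have h1 : M.map e.toMonoidHom = (⊤ : Subgroup G6).map e.toMonoidHom := by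
      rw [h]
      exact (Subgroup.map_top_of_surjective _ e.surjective).symm
    exact Subgroup.map_injective e.injective h1) (by rwa [hc]) (by rwa [hc])
  rwa [hc] at h

/-- **`Sp₆(2)`: every proper subgroup misses two classes** -/
theorem twoT_six (OT : OrdDiv.OrderTable.{0})
    (hS : ∀ (X : Type) [Group X] [Finite X] [IsSimpleGroup X], Cfsg.IsKnownSimple' X)
    (M : Subgroup G6) (hM : M ≠ ⊤) : TwoT G6 M := by
  have hw9pow : w9 ^ 9 = 1 := by rw [← order_w9, pow_orderOf_eq_one]
  by_cases h5 : 5 ∣ Nat.card M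
  swap
  · refine twoT_of_ne (x := z15) (y := z15 ^ 3) (Miss.of_not_dvd h5 ?_) (Miss.of_not_dvd h5 ?_) ?_
    · rw [order_z15]; norm_num
    · rw [order_y5]
    · rw [order_z15, order_y5]; norm_num
  by_cases hz : Miss M z15
  · by_cases hw : Miss M w9
    · exact twoT_of_ne hz hw (by rw [order_z15, order_w9]; norm_num)
    by_cases h7 : 7 ∣ Nat.card M
    swap
    · exact twoT_of_ne hz (Miss.of_not_dvd (x := x7) h7 (by rw [order_x7])) (by rw [order_z15, order_x7]; norm_num)
    have h27 := order35 OT hS M hM h5 h7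
    refine twoT_of_ne hz (y := z15 ^ 5) ?_ (by rw [order_z15, order_y3]; norm_num)
    intro g hg
    unfold Miss at hw
    push Not at hw
    obtain ⟨k, hk⟩ := hw
    set w := k * w9 * k⁻¹ with hwdef
    have hwo : orderOf w = 9 := by rw [hwdef, orderOf_conj, order_w9]
    obtain ⟨m, hm, hm2⟩ := exists_conj_mem (p := 3) (k := 2) (by norm_num) (W := zpowers w) (M := M)
      (by rw [Nat.card_zpowers, hwo]; norm_num) (by rwa [zpowers_le]) (by norm_num; exact h27) hg
      (by rw [orderOf_conj, order_y3])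
    obtain ⟨n, hn⟩ := cube_eq_pow hwo hm2 (by rw [orderOf_conj, orderOf_conj, order_y3])
    have hf : Fpf o6 (w ^ 3) := by
      rw [hwdef, conj_pow]
      exact Fpf.conj inst.zero fpf_c3 k
    rw [← hn] at hf
    have hf2 := Fpf.pow hf
    have hf3 : Fpf o6 (z15 ^ 5) := by
      have h1 := Fpf.conj inst.zero hf2 ((m * g)⁻¹)
      have h2 : (m * g)⁻¹ * (m * (g * z15 ^ 5 * g⁻¹) * m⁻¹) * ((m * g)⁻¹)⁻¹ = z15 ^ 5 := by group
      rwa [h2] at h1
    exact inst.u0_ne (hf3 u6 inst.fixu)
  · obtain ⟨g, hzM⟩ := exists_mem_comap hz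
    refine twoT_conj g ?_
    have hM' := comap_conj_ne_top g hM
    have h5' : 5 ∣ Nat.card (M.comap (MulAut.conj g).toMonoidHom) := by rwa [card_comap_conj]
    generalize M.comap (MulAut.conj g).toMonoidHom = K at hzM hM' h5'
    by_cases h7 : 7 ∣ Nat.card K
    · have h27 := order35 OT hS K hM' h5' h7
      have hc : Miss K (w9 ^ 3) := by
        intro g hg
        have hfp : Fact (Nat.Prime 7) := ⟨by norm_num⟩
        obtain ⟨x, hx⟩ := exists_prime_orderOf_dvd_card' 7 h7
        apply h27
        have hxo : orderOf (x : G6) = 7 := by rw [Subgroup.orderOf_coe, hx]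
        refine dvd_of_seven inst hzM x.2 hxo ?_ hg (by rw [orderOf_conj, order_c3]) (Fpf.conj inst.zero fpf_c3 g)
        -- the element of order seven has no fixed vectors
        have hsyl : ∃ k : G6, k * (x : G6) * k⁻¹ ∈ zpowers x7 := by
          have hcG : Nat.card G6 = 1451520 := by
            rw [← card_psp62]
            exact Nat.card_congr (pspEquiv (m := 3) (by norm_num)).toEquiv
          obtain ⟨m, _, hm⟩ := exists_conj_mem (p := 7) (k := 1) (M := (⊤ : Subgroup G6)) (by norm_num) (W := zpowers x7)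
            (by rw [Nat.card_zpowers, order_x7]; norm_num) le_top (by
              rw [Subgroup.card_top, hcG]; norm_num) (t := (x : G6)) (mem_top _) hxo
          exact ⟨m, hm⟩
        obtain ⟨k, hk⟩ := hsyl
        have hz1 : zpowers (k * (x : G6) * k⁻¹) = zpowers x7 := by
          refine Subgroup.eq_of_le_of_card_ge (zpowers_le.2 hk) ?_
          rw [Nat.card_zpowers, Nat.card_zpowers, orderOf_conj, hxo, order_x7]
        have hx7m : x7 ∈ zpowers (k * (x : G6) * k⁻¹) := by rw [hz1]; exact mem_zpowers _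
        have hfo : IsOfFinOrder (k * (x : G6) * k⁻¹) := by
          rw [← orderOf_pos_iff, orderOf_conj, hxo]; norm_num
        obtain ⟨n, hn⟩ := hfo.mem_powers_iff_mem_zpowers.2 hx7m
        have hn' : (k * (x : G6) * k⁻¹) ^ n = x7 := hn
        have hf : Fpf o6 ((k * (x : G6) * k⁻¹) ^ n) := by rw [hn']; exact fpf_x7
        have hf2 := Fpf.conj inst.zero (Fpf.pow hf) k⁻¹
        have h2 : k⁻¹ * (k * (x : G6) * k⁻¹) * k⁻¹⁻¹ = x := by group
        rwa [h2] at hf2
      exact twoT_of_ne hc hc.of_pow (by rw [order_c3, order_w9]; norm_num)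
    · refine twoT_of_ne (x := x7) (y := w9) (Miss.of_not_dvd h7 (by rw [order_x7])) ?_
        (by rw [order_x7, order_w9]; norm_num)
      intro g hg
      refine no_eighteen hzM (card_of_nine inst hzM hg ?_ ?_ h7)
      · rw [← order_w9, ← orderOf_conj g w9, pow_orderOf_eq_one]
      · rw [conj_pow]
        exact Fpf.conj inst.zero fpf_c3 g

/-- **row `Sp₆(2)` for S3500** -/
theorem row_s62 (OT : OrdDiv.OrderTable.{0})
    (hS : ∀ (X : Type) [Group X] [Finite X] [IsSimpleGroup X], Cfsg.IsKnownSimple' X)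
    (F : Type*) [Field F] [Fintype F] (hF : Fintype.card F = 2) : Row (PSp 3 F) := by
  have e := pspEquiv (m := 3) (by norm_num)
  refine Row.congr (e.trans (LieClassical.FieldTransfer.pspCongr 3 (ZMod.ringEquivOfPrime F Nat.prime_two hF))) ?_
  intro M hM
  left
  refine two_of_twoT ?_ (twoT_six OT hS M hM.1)
  intro φ
  obtain ⟨x, hx⟩ := OddHalf.Table.OutSpSix.inner (m := 3) (F := ZMod 2) (by norm_num)
    (by rw [Nat.card_eq_fintype_card]; exact ZMod.card 2) ((e.symm.trans φ).trans e)
  refine ⟨e.symm x, ?_⟩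
  ext1 y
  have h := DFunLike.congr_fun hx (e y)
  have h2 : e (φ y) = x * e y * x⁻¹ := by
    have h3 : ((e.symm.trans φ).trans e) (e y) = e (φ y) := by
      rw [MulEquiv.trans_apply, MulEquiv.trans_apply, e.symm_apply_apply]
    rw [← h3, h]
    rfl
  apply e.injective
  rw [h2, MulAut.conj_apply, map_mul, map_mul, map_inv, e.apply_symm_apply]

end Cfsg.Agent.H547.Der.Six
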