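import Cfsg.Agent.H547.Der.OctI
import Cfsg.Agent.H503.El.O8Main
import Cfsg.Agent.Lib.Cores

/-!
# `Ω⁺₈(2)`: subgroups of order divisible by 7, abstractly (helper547, for S3500)
-/

set_option autoImplicit false

namespace Cfsg.Agent.H547.Der.Eight

open Subgroup Cfsg Cfsg.Agent.H503.El Cfsg.Agent.H439.Der Cfsg.Agent
open Cfsg.Agent.H970.StabNum Cfsg.Agent.H396

/-- orders of simple groups -/
def tblEight : List ℕ := [60, 168, 360, 504, 2520, 6048, 20160, 25920, 181440, 604800, 1451520, 1814400, 174182400]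

variable {T : Type} [Group T] [Finite T]

/-- the structure of subgroups of order divisible by 7 -/
theorem struct (hcT : Nat.card T = 174182400)
    (hent : ∀ P : Subgroup T, Nat.card P = 7 → Nat.card (centralizer (P : Set T)) ∣ 7 * 1 ∧
      Nat.card (normalizer (P : Set T)) ∣ 7 * 6) (R : Subgroup T) (hR7 : 7 ∣ Nat.card R) :
    ∃ (L : Subgroup R) (_ : L.Normal) (A : Subgroup L) (_ : A.Normal), IsSimpleGroup (L ⧸ A) ∧ ¬ 7 ∣ Nat.card A ∧
      Nat.card R = Nat.card A * Nat.card (L ⧸ A) * L.index ∧ 7 ∣ Nat.card (L ⧸ A) ∧ L.index ∣ 6 ∧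
      ∀ r : ℕ, r.Prime → r ^ ((Nat.card A).factorization r) ≡ 1 [MOD 7] := by
  have h7p : Fact (Nat.Prime 7) := ⟨by norm_num⟩
  have hR49 : ¬ 7 ^ 2 ∣ Nat.card R := fun h => by
    have h1 := h.trans (Subgroup.card_subgroup_dvd_card R)
    rw [hcT] at h1
    norm_num at h1
  obtain ⟨x, hx⟩ := exists_prime_orderOf_dvd_card' 7 hR7
  have hP : Nat.card (zpowers x) = 7 := by rw [Nat.card_zpowers, hx]
  have hPm : Nat.card ((zpowers x).map R.subtype) = 7 := by
    rw [← hP]
    exact (Nat.card_congr ((zpowers x).equivMapOfInjective _ R.subtype_injective).toEquiv).symm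
  obtain ⟨L, hLn, A, hAn, hs, hA7, hPL, hcard, h7, D, m, hN, hDC, hDA, hpow⟩ := Struct.exists_struct' hP hR49
  have hC7 : Nat.card (centralizer ((zpowers x : Subgroup R) : Set R)) ∣ 7 :=
    (Fix.card_cent_map R.subtype_injective _).trans (by simpa using (hent _ hPm).1)
  have hN42 : Nat.card (normalizer ((zpowers x : Subgroup R) : Set R)) ∣ 42 :=
    (Fix.card_norm_map R.subtype_injective _).trans (hent _ hPm).2
  have hD1 : D = 1 := by
    rcases (Nat.dvd_prime h7p.out).1 (hDC.trans hC7) with h3 | h3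
    · exact h3
    · exact absurd (h3 ▸ hDA) hA7
  subst hD1
  refine ⟨L, hLn, A, hAn, hs, hA7, hcard, h7, ?_, ?_⟩
  · rw [hN] at hN42
    have h3 : L.index * m * 7 ∣ 6 * 7 := by
      have h4 : L.index * (1 * (7 * m)) = L.index * m * 7 := by ring
      rw [h4] at hN42
      exact hN42
    exact (Dvd.intro _ rfl).trans (Nat.dvd_of_mul_dvd_mul_right (by norm_num) h3)
  · intro r hr
    obtain ⟨j, hj, hj'⟩ := hpow r hr
    rwa [Nat.dvd_one.1 hj] at hj'

theorem not_dvd_five {a N : ℕ} (ha0 : a ≠ 0) (ha : a ∣ N) (hN : ¬ 125 ∣ N)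
    (h : 5 ^ (a.factorization 5) ≡ 1 [MOD 7]) : ¬ 5 ∣ a := by
  intro h3
  have h5 : 1 ≤ a.factorization 5 := ((by norm_num : Nat.Prime 5).dvd_iff_one_le_factorization ha0).1 h3
  have h6 : ¬ 3 ≤ a.factorization 5 := fun h6 => hN
    (((by simpa using ((by norm_num : Nat.Prime 5).pow_dvd_iff_le_factorization ha0).2 h6) : 125 ∣ a).trans ha)
  have h7 : a.factorization 5 = 1 ∨ a.factorization 5 = 2 := by omega
  rcases h7 with h7 | h7 <;> rw [h7] at h <;> exact absurd h (by decide)

theorem not_dvd_three {a N : ℕ} (ha0 : a ≠ 0) (ha : a ∣ N) (hN : ¬ 27 ∣ N)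
    (h : 3 ^ (a.factorization 3) ≡ 1 [MOD 7]) : ¬ 3 ∣ a := by
  intro h3
  have h5 : 1 ≤ a.factorization 3 := ((by norm_num : Nat.Prime 3).dvd_iff_one_le_factorization ha0).1 h3
  have h6 : ¬ 3 ≤ a.factorization 3 := fun h6 => hN
    (((by simpa using ((by norm_num : Nat.Prime 3).pow_dvd_iff_le_factorization ha0).2 h6) : 27 ∣ a).trans ha)
  have h7 : a.factorization 3 = 1 ∨ a.factorization 3 = 2 := by omega
  rcases h7 with h7 | h7 <;> rw [h7] at h <;> exact absurd h (by decide)

/-- the order `1290240` -/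
theorem caseD1 (hcT : Nat.card T = 174182400)
    (hent : ∀ P : Subgroup T, Nat.card P = 7 → Nat.card (centralizer (P : Set T)) ∣ 7 * 1 ∧
      Nat.card (normalizer (P : Set T)) ∣ 7 * 6) (hD : Data T [(7, 1, 6)] [2, 3, 5, 7] tblEight)
    {M : Subgroup T} (hM : Nat.card M = 1290240) : pCore 2 M ≠ ⊥ := by
  obtain ⟨L, hLn, A, hAn, hs, hA7, hcard, h7, hc6, hpow⟩ := struct hcT hent M (by rw [hM]; norm_num)
  have ha0 : Nat.card A ≠ 0 := (Nat.card_pos (α := A)).ne'
  have hadvd : Nat.card A ∣ 1290240 := by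
    rw [← hM]
    exact ⟨Nat.card (L ⧸ A) * L.index, by rw [hcard]; ring⟩
  have hsdvd : Nat.card (L ⧸ A) ∣ 1290240 := by
    rw [← hM]
    exact ⟨Nat.card A * L.index, by rw [hcard]; ring⟩
  have h3a := not_dvd_three ha0 hadvd (by norm_num) (hpow 3 Nat.prime_three)
  have h5a := not_dvd_five ha0 hadvd (by norm_num) (hpow 5 Nat.prime_five)
  -- `|A|` is a power of two
  obtain ⟨k, hk⟩ : ∃ k : ℕ, Nat.card A = 2 ^ k := by
    have h1 : Nat.card A ∣ 2 ^ 12 := by
      have h2 : Nat.Coprime (Nat.card A) 315 := by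
        rw [show 315 = 3 ^ 2 * 5 * 7 by norm_num]
        refine Nat.Coprime.mul_right (Nat.Coprime.mul_right (Nat.Coprime.pow_right 2 ?_) ?_) ?_
        · exact Nat.coprime_comm.1 ((Nat.Prime.coprime_iff_not_dvd Nat.prime_three).2 h3a)
        · exact Nat.coprime_comm.1 ((Nat.Prime.coprime_iff_not_dvd Nat.prime_five).2 h5a)
        · exact Nat.coprime_comm.1 ((Nat.Prime.coprime_iff_not_dvd (by norm_num)).2 hA7)
      refine h2.dvd_of_dvd_mul_right ?_
      norm_num
      exact hadvd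
    obtain ⟨k, -, hk⟩ := (Nat.dvd_prime_pow Nat.prime_two).1 h1
    exact ⟨k, hk⟩
  have hna : ¬ ∀ u v : L ⧸ A, u * v = v * u := by
    intro hab
    let cg : CommGroup (L ⧸ A) := { (inferInstance : Group (L ⧸ A)) with mul_comm := hab }
    have h3 : (Nat.card (L ⧸ A)).Prime := IsSimpleGroup.prime_card (α := L ⧸ A)
    have h4 : 7 = Nat.card (L ⧸ A) := (Nat.prime_dvd_prime_iff_eq (by norm_num) h3).1 h7
    have h5 : 5 ∣ Nat.card A * Nat.card (L ⧸ A) * L.index := by
      rw [← hcard, hM]; norm_num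
    rcases (Nat.Prime.dvd_mul Nat.prime_five).1 h5 with h6 | h6
    · rcases (Nat.Prime.dvd_mul Nat.prime_five).1 h6 with h8 | h8
      · exact h5a h8
      · rw [← h4] at h8
        norm_num at h8
    · have := h6.trans hc6
      norm_num at this
  have hstbl := hD.tbl (L ⧸ A) hs hna (by
    rw [hcT]
    exact hsdvd.trans (by norm_num))
  have hA1 : Nat.card A ≠ 1 := by
    intro h1
    rw [h1, hM, one_mul] at hcard
    have h2 : ∀ s ∈ tblEight, ∀ c ∈ Nat.divisors 6, s * c ≠ 1290240 := by decide +kernel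
    exact h2 _ hstbl _ (Nat.mem_divisors.2 ⟨hc6, by norm_num⟩) hcard.symm
  have hfp : Fact (Nat.Prime 2) := ⟨Nat.prime_two⟩
  have h1 : A ≤ pCore 2 L := Lib.Cores.le_pCore hAn (IsPGroup.of_card hk)
  intro h2
  have h3 := Lib.Cores.map_subtype_pCore (G := M) 2 (N := L) hLn
  rw [h2, inf_bot_eq, Subgroup.map_eq_bot_iff_of_injective _ L.subtype_injective] at h3
  rw [h3, le_bot_iff] at h1
  exact hA1 (by rw [h1]; exact Subgroup.card_bot)

set_option maxRecDepth 100000 in
/-- the orders `604800` and `4838400` -/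
theorem caseD2 (OT : OrdDiv.OrderTable.{0})
    (hS : ∀ (X : Type) [Group X] [Finite X] [IsSimpleGroup X], Cfsg.IsKnownSimple' X) (hcT : Nat.card T = 174182400)
    (hent : ∀ P : Subgroup T, Nat.card P = 7 → Nat.card (centralizer (P : Set T)) ∣ 7 * 1 ∧
      Nat.card (normalizer (P : Set T)) ∣ 7 * 6) (hD : Data T [(7, 1, 6)] [2, 3, 5, 7] tblEight)
    {R : Subgroup T} (h2 : Nat.card R = 604800 ∨ Nat.card R = 4838400) : Spor.IsoJ2 R := by
  have hR7 : 7 ∣ Nat.card R := by rcases h2 with h2 | h2 <;> rw [h2] <;> norm_num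
  have hR125 : ¬ 125 ∣ Nat.card R := by rcases h2 with h2 | h2 <;> rw [h2] <;> norm_num
  have hR25 : 25 ∣ Nat.card R := by rcases h2 with h2 | h2 <;> rw [h2] <;> norm_num
  obtain ⟨L, hLn, A, hAn, hs, hA7, hcard, h7, hc6, hpow'⟩ := struct hcT hent R hR7
  set a := Nat.card A with ha
  set s := Nat.card (L ⧸ A) with hsd
  set c := L.index with hc
  have ha0 : a ≠ 0 := (Nat.card_pos (α := A)).ne'
  have hadvd : a ∣ Nat.card R := ⟨s * c, by rw [hcard]; ring⟩
  have hsdvd : s ∣ Nat.card R := ⟨a * c, by rw [hcard]; ring⟩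
  have h5a := not_dvd_five ha0 hadvd hR125 (hpow' 5 Nat.prime_five)
  have h5c : ¬ 5 ∣ c := fun h3 => by
    have := h3.trans hc6
    norm_num at this
  have h25s : 25 ∣ s := by
    rw [hcard] at hR25
    have h3 : Nat.Coprime 25 a := by
      rw [show (25 : ℕ) = 5 ^ 2 by norm_num]
      exact Nat.Coprime.pow_left _ ((Nat.Prime.coprime_iff_not_dvd (by norm_num)).2 h5a)
    have h4 : Nat.Coprime 25 c := by
      rw [show (25 : ℕ) = 5 ^ 2 by norm_num]
      exact Nat.Coprime.pow_left _ ((Nat.Prime.coprime_iff_not_dvd (by norm_num)).2 h5c)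
    exact h3.dvd_of_dvd_mul_left (h4.dvd_of_dvd_mul_right hR25)
  have hna : ¬ ∀ u v : L ⧸ A, u * v = v * u := by
    intro hab
    let cg : CommGroup (L ⧸ A) := { (inferInstance : Group (L ⧸ A)) with mul_comm := hab }
    have h3 : s.Prime := IsSimpleGroup.prime_card (α := L ⧸ A)
    have h4 : 7 = s := (Nat.prime_dvd_prime_iff_eq (by norm_num) h3).1 h7
    omega
  have hsT : s ∣ Nat.card T := hsdvd.trans (Subgroup.card_subgroup_dvd_card R)
  have hstbl := hD.tbl (L ⧸ A) hs hna hsT
  have hs4 : s ∣ 4838400 := hsdvd.trans (by rcases h2 with h2 | h2 <;> rw [h2] <;> norm_num)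
  have hs6 : s = 604800 := by
    have h3 : ∀ s ∈ tblEight, 25 ∣ s → s ∣ 4838400 → s = 604800 := by decide +kernel
    exact h3 _ hstbl h25s hs4
  -- the two cases
  have hac : a * c = 1 ∨ a * c = 8 := by
    rcases h2 with h2 | h2
    · left
      rw [hcard, hs6] at h2
      nlinarith
    · right
      rw [hcard, hs6] at h2
      nlinarith
  rcases hac with hac | hac
  · -- `R ≅ J₂`
    have ha1 : a = 1 := Nat.eq_one_of_mul_eq_one_right hac
    have hc1 : c = 1 := Nat.eq_one_of_mul_eq_one_left hac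
    have hAb : A = ⊥ := Subgroup.eq_bot_of_card_eq _ ha1
    have hLt : L = ⊤ := Subgroup.index_eq_one.1 hc1
    obtain ⟨g, hg, hreal⟩ := OrdDiv.exists_real_filter OT (S := L ⧸ A) (hS _) hna
      (l := [(2, 12), (3, 5), (5, 2), (7, 1)]) (N := 174182400) (by decide +kernel) (by rw [← hcT]; exact hsT)
      (fun o => o == 604800) (by rw [← hsd, hs6]; rfl)
    have hj : ((OrdDiv.cands [(2, 12), (3, 5), (5, 2), (7, 1)] 174182400).filter
        fun g => OrdDiv.ordN g == 604800).all (fun g => match g with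
          | .j2 => true
          | _ => false) = true := by decide +kernel
    rw [List.all_eq_true] at hj
    have hj' := hj g hg
    have hJ : Spor.IsoJ2 (L ⧸ A) := by
      cases g <;> first | exact hreal | exact absurd hj' Bool.false_ne_true
    obtain ⟨eJ⟩ := hJ
    subst hAb
    exact ⟨(((QuotientGroup.quotientBot).trans
      ((MulEquiv.subgroupCongr hLt).trans Subgroup.topEquiv)).symm).trans eJ⟩
  · -- the order `8`
    exfalso
    have hc8 : c ∣ 8 := ⟨a, by rw [← hac, mul_comm]⟩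
    have hc2 : c ∣ 2 := by
      have := Nat.dvd_gcd hc6 hc8
      exact this
    have ha8 : a = 8 := by
      rcases (Nat.dvd_prime Nat.prime_two).1 hc2 with h3 | h3
      · rw [h3, mul_one] at hac; exact hac
      · exfalso
        rw [h3] at hac
        have h4 : a = 2 ^ 2 := by omega
        have h5 := hpow' 2 Nat.prime_two
        rw [h4, Nat.prime_two.factorization_pow, Finsupp.single_eq_same] at h5
        exact absurd h5 (by decide)
    refine Struct.no_ext A ha8 hs h7 (by rw [← hsd, hs6]; norm_num) ?_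
    intro u v hu huv
    have hu' : orderOf ((u : R) : T) = 7 := by rw [Subgroup.orderOf_coe, Subgroup.orderOf_coe, hu]
    have h3 := (hent (zpowers ((u : R) : T)) (by rw [Nat.card_zpowers, hu'])).1
    have h4 : ((v : R) : T) ∈ centralizer ((zpowers ((u : R) : T) : Subgroup T) : Set T) := by
      rw [zpowers_eq_closure, centralizer_closure, mem_centralizer_singleton_iff]
      exact congrArg (fun z : L => ((z : R) : T)) huv
    have h5 := Subgroup.orderOf_dvd_natCard _ h4
    have h6 := h5.trans h3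
    rw [Subgroup.orderOf_coe, Subgroup.orderOf_coe] at h6
    simpa using h6


end Cfsg.Agent.H547.Der.Eight
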