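import Cfsg.Agent.H547.Der.OctJ
import Cfsg.Agent.H503.El.O8Fin
import Cfsg.Agent.H547.Der.OctS

/-!
# `Ω⁺₈(2)`: the row (helper547, for S3500)
-/

set_option autoImplicit false

namespace Cfsg.Agent.H547.Der.Eight

open Subgroup Cfsg Cfsg.Agent.H503.El.O8 Cfsg.Agent.H503.El Cfsg.Agent.H547.Der.Oc Cfsg.Agent.H439.Der Cfsg.Agent
open Cfsg.Agent.H970.StabNum Cfsg.Agent.H396

set_option maxRecDepth 100000 in
theorem hent : ∀ P : Subgroup T8, Nat.card P = 7 → Nat.card (centralizer (P : Set T8)) ∣ 7 * 1 ∧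
    Nat.card (normalizer (P : Set T8)) ∣ 7 * 6 :=
  entry_of_ex (by norm_num) card_t8 (by norm_num) (by norm_num) (by decide +kernel)
    (H732.SelfCent.omega8plus_selfcent (F := ZMod 2) (ZMod.card 2))

set_option maxRecDepth 100000 in
theorem data (OT : OrdDiv.OrderTable.{0})
    (hS : ∀ (X : Type) [Group X] [Finite X] [IsSimpleGroup X], Cfsg.IsKnownSimple' X) :
    Data T8 [(7, 1, 6)] [2, 3, 5, 7] tblEight := by
  refine mk_data OT hS (l := [(2, 12), (3, 5), (5, 2), (7, 1)]) card_t8 (by decide +kernel) ?_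
  intro x hx
  rw [List.mem_singleton] at hx
  subst hx
  exact hent

/-- a subgroup isomorphic to `J₂` misses the classes of `tg4 ^ 2` and `tg4` -/
theorem not_j2_mem {R : Subgroup T8} (hJ : Spor.IsoJ2 R) (φ : T8 ≃* T8) : φ (tg4 ^ 2) ∉ R := by
  intro hg
  have h5p : Fact (Nat.Prime 5) := ⟨by norm_num⟩
  have ho : orderOf (⟨_, hg⟩ : R) = 2 := by
    rw [Subgroup.orderOf_mk, MulEquiv.orderOf_eq, order_tg4_2]
  have h5 : 5 ∣ Nat.card (centralizer ({⟨_, hg⟩} : Set R)) := by
    rcases H393.Iso.j2_card hJ ho with h1 | h1 <;> rw [h1] <;> norm_num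
  obtain ⟨⟨y, hyc⟩, hy⟩ := exists_prime_orderOf_dvd_card' 5 h5
  rw [Subgroup.orderOf_mk] at hy
  have hc : (y : T8) * φ (tg4 ^ 2) = φ (tg4 ^ 2) * y :=
    congrArg Subtype.val (mem_centralizer_singleton_iff.1 hyc)
  exact no_five φ (by rw [Subgroup.orderOf_coe, hy]) hc

set_option maxRecDepth 100000 in
theorem main (OT : OrdDiv.OrderTable.{0})
    (hS : ∀ (X : Type) [Group X] [Finite X] [IsSimpleGroup X], Cfsg.IsKnownSimple' X)
    (M : Subgroup T8) (hM : M ≠ ⊤) : Two T8 M ∨ (TwoT T8 M ∧ NoSyl T8 M) := by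
  classical
  have hidx := index_ge M hM
  have hmul := M.index_mul_card
  rw [card_t8] at hmul
  by_cases h5 : 5 ∣ Nat.card M
  · by_cases hbig : 25 ∣ Nat.card M ∨ 4096 ∣ Nat.card M ∨ 243 ∣ Nat.card M
    · by_cases h7 : 7 ∣ Nat.card M
      · have h1 := H251.Small.mem_surv (data OT hS) (l := [(2, 12), (3, 5), (5, 2), (7, 1)]) (prs := [5, 7])
          (by rw [card_t8]; decide +kernel) M (by
            intro r hr
            rw [List.mem_cons, List.mem_singleton] at hr
            rcases hr with rfl | rfl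
            · exact h5
            · exact h7)
        have h2 : (H251.Small.surv [(7, 1, 6)] [2, 3, 5, 7] tblEight [(2, 12), (3, 5), (5, 2), (7, 1)] [5, 7]).all
            (fun h => (h % 25 != 0 && (h % 4096 != 0 && h % 243 != 0)) || ((Nat.beq h 604800 || Nat.beq h 4838400) ||
              (Nat.beq h 1290240 || Nat.blt 1451520 h))) = true := by decide +kernel
        rw [List.all_eq_true] at h2
        have h3 := h2 _ h1
        rw [Bool.or_eq_true, Bool.or_eq_true, Bool.or_eq_true, Bool.or_eq_true, Bool.and_eq_true, Bool.and_eq_true,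
          Nat.beq_eq, Nat.beq_eq, Nat.beq_eq, Nat.blt_eq] at h3
        rcases h3 with ⟨h25, h4096, h243⟩ | h4 | h4 | h4
        · exfalso
          rcases hbig with h | h | h
          · rw [Nat.mod_eq_zero_of_dvd h] at h25; exact absurd h25 (by decide)
          · rw [Nat.mod_eq_zero_of_dvd h] at h4096; exact absurd h4096 (by decide)
          · rw [Nat.mod_eq_zero_of_dvd h] at h243; exact absurd h243 (by decide)
        · left
          have hJR := caseD2 OT hS card_t8 hent (data OT hS) h4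
          refine ⟨tg4, tg4 ^ 2, fun φ hφ => ?_, not_j2_mem hJR, fun φ hφ => ?_⟩
          · exact not_j2_mem hJR φ (by rw [map_pow]; exact M.pow_mem hφ 2)
          · have h1 := congrArg orderOf hφ
            rw [MulEquiv.orderOf_eq, order_tg4, order_tg4_2] at h1
            norm_num at h1
        · exact caseC (caseD1 card_t8 hent (data OT hS) h4)
        · exfalso
          have h5 : 120 * 1451521 ≤ M.index * Nat.card M := Nat.mul_le_mul hidx h4
          omega
      · exact caseE OT hS h7 h5 hbig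
    · push Not at hbig
      exact Or.inr ⟨caseB hbig.1, noSyl hbig.2.1 hbig.2.2⟩
  · exact Or.inl (caseA h5)

/-- **row `Ω⁺₈(2)` for S3500** -/
theorem row_o8p2 (OT : OrdDiv.OrderTable.{0})
    (hS : ∀ (X : Type) [Group X] [Finite X] [IsSimpleGroup X], Cfsg.IsKnownSimple' X)
    (F : Type) [Field F] [Fintype F] (hF : Fintype.card F = 2) : Row (POmega F (quadFormPlus 4 F)) := by
  refine Row.congr (pomCongr hF) ?_
  intro M hM
  exact main OT hS M hM.1

end Cfsg.Agent.H547.Der.Eight
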