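import Cfsg.Agent.Lib.FieldFour

/-!
# `Sp₄(4)`: explicit matrices (helper547, for S3500)
-/

set_option autoImplicit false

namespace Cfsg.Agent.H547.Der.Four

open Cfsg.Agent.Lib.FieldFour

/-- index type -/
abbrev I4 := Fin 2 ⊕ Fin 2

/-- vectors -/
abbrev V4 := I4 → F4

/-- matrices -/
abbrev M4 := Matrix I4 I4 F4

/-- the element of order 5 with fixed vectors -/
def Y1 : M4 := Matrix.fromBlocks !![.o, .o; .o, .i] !![.i, .o; .o, .o] !![.i, .o; .o, .o] !![.w, .o; .o, .i]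
/-- square -/
def Y12 : M4 := Matrix.fromBlocks !![.i, .o; .o, .i] !![.w, .o; .o, .o] !![.w, .o; .o, .o] !![.w, .o; .o, .i]
/-- cube -/
def Y13 : M4 := Matrix.fromBlocks !![.w, .o; .o, .i] !![.w, .o; .o, .o] !![.w, .o; .o, .o] !![.i, .o; .o, .i]

/-- the element of order 5 without fixed vectors, whose centralizer has odd order -/
def Y2 : M4 := Matrix.fromBlocks !![.o, .o; .o, .o] !![.i, .o; .o, .i] !![.i, .o; .o, .i] !![.w, .o; .o, .v]
/-- square -/
def Y22 : M4 := Matrix.fromBlocks !![.i, .o; .o, .i] !![.w, .o; .o, .v] !![.w, .o; .o, .v] !![.w, .o; .o, .v]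
/-- cube -/
def Y23 : M4 := Matrix.fromBlocks !![.w, .o; .o, .v] !![.w, .o; .o, .v] !![.w, .o; .o, .v] !![.i, .o; .o, .i]

/-- an involution commuting with `Y1` -/
def T2 : M4 := Matrix.fromBlocks !![.i, .o; .o, .o] !![.o, .o; .o, .i] !![.o, .o; .o, .i] !![.i, .o; .o, .o]

/-- order 3 with fixed vectors -/
def X1 : M4 := Matrix.fromBlocks !![.o, .o; .o, .i] !![.i, .o; .o, .o] !![.i, .o; .o, .o] !![.i, .o; .o, .i]
/-- square -/
def X12 : M4 := Matrix.fromBlocks !![.i, .o; .o, .i] !![.i, .o; .o, .o] !![.i, .o; .o, .o] !![.o, .o; .o, .i]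

/-- order 3 without fixed vectors -/
def X2 : M4 := Matrix.fromBlocks !![.o, .o; .o, .o] !![.i, .o; .o, .i] !![.i, .o; .o, .i] !![.i, .o; .o, .i]
/-- square -/
def X22 : M4 := Matrix.fromBlocks !![.i, .o; .o, .i] !![.i, .o; .o, .i] !![.i, .o; .o, .i] !![.o, .o; .o, .o]

set_option maxRecDepth 100000 in
theorem Y1_sp : Y1 * Matrix.J (Fin 2) F4 * Y1.transpose = Matrix.J (Fin 2) F4 := by decide +kernel
set_option maxRecDepth 100000 in
theorem Y2_sp : Y2 * Matrix.J (Fin 2) F4 * Y2.transpose = Matrix.J (Fin 2) F4 := by decide +kernel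
set_option maxRecDepth 100000 in
theorem T2_sp : T2 * Matrix.J (Fin 2) F4 * T2.transpose = Matrix.J (Fin 2) F4 := by decide +kernel
set_option maxRecDepth 100000 in
theorem X1_sp : X1 * Matrix.J (Fin 2) F4 * X1.transpose = Matrix.J (Fin 2) F4 := by decide +kernel
set_option maxRecDepth 100000 in
theorem X2_sp : X2 * Matrix.J (Fin 2) F4 * X2.transpose = Matrix.J (Fin 2) F4 := by decide +kernel

set_option maxRecDepth 100000 in
theorem Y1_eq : Y1 * Y1 = Y12 ∧ Y12 * Y1 = Y13 ∧ Y13 * Y12 = 1 ∧ Y1 ≠ 1 := by decide +kernel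
set_option maxRecDepth 100000 in
theorem Y2_eq : Y2 * Y2 = Y22 ∧ Y22 * Y2 = Y23 ∧ Y23 * Y22 = 1 ∧ Y2 ≠ 1 := by decide +kernel
set_option maxRecDepth 100000 in
theorem X1_eq : X1 * X1 = X12 ∧ X12 * X1 = 1 ∧ X1 ≠ 1 := by decide +kernel
set_option maxRecDepth 100000 in
theorem X2_eq : X2 * X2 = X22 ∧ X22 * X2 = 1 ∧ X2 ≠ 1 := by decide +kernel
set_option maxRecDepth 100000 in
theorem T2_eq : T2 * T2 = 1 ∧ T2 ≠ 1 ∧ T2 * Y1 = Y1 * T2 := by decide +kernel

theorem pow_five {A B C : M4} (h1 : A * A = B) (h2 : B * A = C) (h3 : C * B = 1) : A ^ 5 = 1 := by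
  rw [← h3, ← h2, ← h1, pow_succ, pow_succ, pow_succ, pow_succ, pow_one]
  simp only [mul_assoc]

theorem pow_three {A B : M4} (h1 : A * A = B) (h2 : B * A = 1) : A ^ 3 = 1 := by
  rw [← h2, ← h1, pow_succ, pow_succ, pow_one]

/-- a vector fixed by `Y1` and `X1` -/
def e4 : V4 := Sum.elim ![.o, .i] ![.o, .o]

set_option maxRecDepth 100000 in
theorem e4_fix : Y1.mulVec e4 = e4 ∧ X1.mulVec e4 = e4 ∧ e4 ≠ 0 := by decide +kernel

set_option maxRecDepth 100000 in
theorem Y2_fpf : ∀ v : V4, Y2.mulVec v = v → v = 0 := by decide +kernel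

set_option maxRecDepth 100000 in
theorem X2_fpf : ∀ v : V4, X2.mulVec v = v → v = 0 := by decide +kernel

/-- polynomials in `Y2` -/
def P (c : V4) : M4 := c (.inl 0) • (1 : M4) + c (.inl 1) • Y2 + c (.inr 0) • Y22 + c (.inr 1) • Y23

theorem P_comm {t : M4} (h : t * Y2 = Y2 * t) (c : V4) : t * P c = P c * t := by
  have hc : Commute t Y2 := h
  unfold P
  have h1 : Commute t Y22 := by rw [← Y2_eq.1]; exact hc.mul_right hc
  have h2 : Commute t Y23 := by rw [← Y2_eq.2.1]; exact h1.mul_right hc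
  exact ((((Commute.one_right t).smul_right _).add_right (hc.smul_right _)).add_right (h1.smul_right _)).add_right
    (h2.smul_right _)

/-- a cyclic vector -/
def v0 : V4 := Sum.elim ![.i, .i] ![.o, .o]

/-- coordinates with respect to the cyclic vector -/
def Bi (w : V4) : V4 := Sum.elim ![.w * w (.inl 0) + .v * w (.inl 1) + w (.inr 0) + w (.inr 1),
  .v * w (.inr 0) + .w * w (.inr 1)] ![w (.inl 0) + w (.inl 1) + w (.inr 0) + w (.inr 1), w (.inl 0) + w (.inl 1)]

/-- the vector `P c v0` -/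
def Pv (c : V4) : V4 := Sum.elim ![c (.inl 0) + c (.inr 0) + .w * c (.inr 1), c (.inl 0) + c (.inr 0) + .v * c (.inr 1)]
  ![c (.inl 1) + .w * c (.inr 0) + .w * c (.inr 1), c (.inl 1) + .v * c (.inr 0) + .v * c (.inr 1)]

set_option maxRecDepth 100000 in
theorem P_v0 : ∀ c : V4, (P c).mulVec v0 = Pv c := by decide +kernel

set_option maxRecDepth 100000 in
theorem Pv_Bi : ∀ w : V4, Pv (Bi w) = w := by decide +kernel

theorem P_Bi (w : V4) : (P (Bi w)).mulVec v0 = w := by rw [P_v0, Pv_Bi]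

/-- the coordinates of `1` -/
def c1 : V4 := Sum.elim ![.i, .o] ![.o, .o]

set_option maxRecDepth 100000 in
theorem P_c1 : P c1 = 1 := by decide +kernel

set_option maxRecDepth 100000 in
theorem P_sq : ∀ c : V4, (P c).mulVec (Pv c) = v0 → c = c1 := by decide +kernel

/-- an element of order two does not commute with `Y2` -/
theorem eq_one_of_comm {t : M4} (ht : t * t = 1) (h : t * Y2 = Y2 * t) : t = 1 := by
  set c : V4 := Bi (t.mulVec v0) with hc
  have h1 : t.mulVec v0 = (P c).mulVec v0 := (P_Bi _).symm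
  have hP : ∀ c : V4, Y2 * P c = P c * Y2 := fun c => P_comm rfl c
  have h2 : t = P c := by
    have h3 : ∀ w : V4, t.mulVec w = (P c).mulVec w := by
      intro w
      have h4 : (P (Bi w)).mulVec v0 = w := P_Bi w
      have h5 : P c * P (Bi w) = P (Bi w) * P c := P_comm (hP c).symm _
      calc t.mulVec w = t.mulVec ((P (Bi w)).mulVec v0) := by rw [h4]
        _ = (P (Bi w)).mulVec (t.mulVec v0) := by rw [Matrix.mulVec_mulVec, P_comm h, ← Matrix.mulVec_mulVec]
        _ = (P c).mulVec ((P (Bi w)).mulVec v0) := by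
          rw [h1, Matrix.mulVec_mulVec, Matrix.mulVec_mulVec, h5]
        _ = (P c).mulVec w := by rw [h4]
    ext i j
    have h4 := congrFun (h3 (Pi.single j 1)) i
    rwa [Matrix.mulVec_single_one, Matrix.mulVec_single_one] at h4
  rw [h2, P_sq c, P_c1]
  rw [← P_v0, Matrix.mulVec_mulVec, ← h2, ht, Matrix.one_mulVec]

end Cfsg.Agent.H547.Der.Four
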