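import Cfsg.Agent.H547.Der.OctA
import Cfsg.Agent.H547.Der.Gen

/-!
# Quadratic space with 256 vectors: elements of order 3 and 5 (helper547, for S3500)
-/

set_option autoImplicit false

namespace Cfsg.Agent.H547.Der.Oc

open MulAction

variable {G V : Type*} [Group G] [AddCommGroup V] [DistribMulAction G V] {q : V → ZMod 2}

namespace Oct

variable (A : Oct G V q)

include A

/-- fixed vectors of an element of prime order in an invariant subgroup -/
theorem card_mod {g : G} {p : ℕ} (hp : p.Prime) (hg : orderOf g = p) (R : AddSubgroup V)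
    (hR : ∀ v ∈ R, g • v ∈ R) : Nat.card R ≡ Nat.card (R ⊓ fx V g : AddSubgroup V) [MOD p] := by
  have := A.fin
  exact Cfsg.Agent.H503.El.Fix.card_mod hp hg (R : Set V) hR

theorem card_fx_mod {g : G} {p : ℕ} (hp : p.Prime) (hg : orderOf g = p) :
    256 ≡ Nat.card (fx V g) [MOD p] := by
  have h := A.card_mod hp hg ⊤ (fun _ _ => trivial)
  rw [top_inf_eq] at h
  have h2 : Nat.card (⊤ : AddSubgroup V) = 256 := by
    rw [← A.card]; exact Nat.card_congr AddSubgroup.topEquiv.toEquiv
  rwa [h2] at h

theorem ne_one {g : G} {p : ℕ} (hp : p.Prime) (hg : orderOf g = p) : g ≠ 1 := by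
  rintro rfl
  rw [orderOf_one] at hg
  exact hp.one_lt.ne hg

/-- fixed space of an element of order 5 -/
theorem fx_five {y : G} (hy : orderOf y = 5) : Nat.card (fx V y) = 1 ∨ Nat.card (fx V y) = 16 := by
  have h1 := A.card_fx_mod (by norm_num) hy
  have h2 := A.fx_ne (A.ne_one (by norm_num) hy)
  obtain ⟨k, hk, hk2⟩ := A.exists_card (fx V y)
  rw [hk2] at h1 h2 ⊢
  unfold Nat.ModEq at h1
  interval_cases k <;> simp_all

/-- fixed space of an element of order 3 -/
theorem fx_three {a : G} (ha : orderOf a = 3) :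
    Nat.card (fx V a) = 1 ∨ Nat.card (fx V a) = 4 ∨ Nat.card (fx V a) = 16 ∨ Nat.card (fx V a) = 64 := by
  have h1 := A.card_fx_mod (by norm_num) ha
  have h2 := A.fx_ne (A.ne_one (by norm_num) ha)
  obtain ⟨k, hk, hk2⟩ := A.exists_card (fx V a)
  rw [hk2] at h1 h2 ⊢
  unfold Nat.ModEq at h1
  interval_cases k <;> simp_all

/-- singular vectors in an invariant subgroup -/
theorem dvd_sg {g : G} {p : ℕ} (hp : p.Prime) (hg : orderOf g = p) (R : AddSubgroup V)
    (hR : ∀ v ∈ R, g • v ∈ R) (hf : ∀ v ∈ R, g • v = v → v = 0) : p ∣ Nat.card (sg q R) := by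
  have := A.fin
  refine prime_dvd hp hg _ ?_ ?_
  · rintro v ⟨h1, h2, h3⟩
    refine ⟨hR v h1, fun h => h2 ?_, by rw [A.inv]; exact h3⟩
    exact (smul_eq_zero_iff_eq g).1 h
  · rintro v ⟨h1, h2, h3⟩ h
    exact h2 (hf v h1 h)

/-- the fixed space of an element of prime order dividing 135 -/
theorem dvd_sg_fx {g : G} {p : ℕ} (hp : p.Prime) (hg : orderOf g = p) (h135 : p ∣ 135) : p ∣ Nat.card (sg q (fx V g)) := by
  have := A.fin
  have h := Cfsg.Agent.H503.El.Fix.card_mod hp hg {v : V | v ≠ 0 ∧ q v = 0} (by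
    rintro v ⟨h1, h2⟩
    exact ⟨fun h => h1 ((smul_eq_zero_iff_eq g).1 h), by rw [A.inv]; exact h2⟩)
  have h1 : Nat.card {v : V | v ≠ 0 ∧ q v = 0} = 135 := A.sing
  have h2 : Nat.card {a : V // a ∈ {v : V | v ≠ 0 ∧ q v = 0} ∧ g • a = a} = Nat.card (sg q (fx V g)) := by
    refine Nat.card_congr (Equiv.subtypeEquivRight fun v => ?_)
    constructor
    · rintro ⟨⟨h1, h2⟩, h3⟩; exact ⟨h3, h1, h2⟩
    · rintro ⟨h1, h2, h3⟩; exact ⟨⟨h2, h3⟩, h1⟩
  rw [h1, h2] at h
  exact (Nat.modEq_zero_iff_dvd).1 (h.symm.trans ((Nat.modEq_zero_iff_dvd).2 h135))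

theorem pow_five {y : G} (hy : orderOf y = 5) : y ^ 5 = 1 := by rw [← hy, pow_orderOf_eq_one]
theorem pow_three {y : G} (hy : orderOf y = 3) : y ^ 3 = 1 := by rw [← hy, pow_orderOf_eq_one]

/-- **commuting elements of order 3 and 5** -/
theorem three_five {a y : G} (ha : orderOf a = 3) (hy : orderOf y = 5) (h : a * y = y * a) :
    (Nat.card (fx V y) = 1 ∧ Nat.card (fx V a) = 1) ∨
    (Nat.card (fx V y) = 16 ∧ Nat.card (fx V a) = 64 ∧ cm V y ≤ fx V a) := by
  have hfin := A.fin
  have ha3 := A.pow_three ha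
  have hy5 := A.pow_five hy
  rcases A.fx_five hy with h1 | h1
  · left
    refine ⟨h1, ?_⟩
    have hy0 : ∀ v : V, y • v = v → v = 0 := by
      intro v hv
      have h2 : (fx V y) = ⊥ := AddSubgroup.eq_bot_of_card_eq _ h1
      have h3 : v ∈ fx V y := hv
      rw [h2] at h3
      exact h3
    have h2 := A.card_mod (by norm_num) hy (fx V a) (fun v hv => smul_mem_fx h.symm hv)
    have h3 : (fx V a ⊓ fx V y : AddSubgroup V) = ⊥ := by
      rw [eq_bot_iff]
      intro v hv
      exact hy0 v hv.2
    rw [h3, AddSubgroup.card_bot] at h2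
    rcases A.fx_three ha with h4 | h4 | h4 | h4
    · exact h4
    · rw [h4] at h2; exact absurd h2 (by decide)
    · exfalso
      refine A.no_fifteen (R := fx V a) (fun u hu hw => A.nd_fx ha3 (by norm_num) hu hw) h4 ?_ ?_
      · exact A.dvd_sg_fx (by norm_num) ha (by norm_num)
      · exact A.dvd_sg (by norm_num) hy _ (fun v hv => smul_mem_fx h.symm hv) fun v _ hv => hy0 v hv
    · rw [h4] at h2; exact absurd h2 (by decide)
  · right
    have hcm : Nat.card (cm V y) = 16 := by
      have := A.card_mul y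
      rw [h1] at this
      omega
    have hycm : ∀ v ∈ cm V y, y • v = v → v = 0 := fun v hv h => A.fx_inf_cm hy5 (by norm_num) h hv
    -- `a` is trivial on `cm y`
    have h2 : cm V y ≤ fx V a := by
      have h3 := A.card_mod (by norm_num) hy (cm V y ⊓ fx V a : AddSubgroup V)
        (fun v hv => ⟨smul_mem_cm rfl hv.1, smul_mem_fx h.symm hv.2⟩)
      have h4 : ((cm V y ⊓ fx V a) ⊓ fx V y : AddSubgroup V) = ⊥ := by
        rw [eq_bot_iff]
        intro v hv
        exact hycm v hv.1.1 hv.2
      rw [h4, AddSubgroup.card_bot] at h3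
      obtain ⟨k, hk, hk2⟩ := A.exists_card (cm V y ⊓ fx V a : AddSubgroup V)
      have hle : Nat.card (cm V y ⊓ fx V a : AddSubgroup V) ≤ 16 := by
        rw [← hcm]
        exact AddSubgroup.card_le_of_le inf_le_left
      rw [hk2] at h3 hle
      have hk4 : k ≤ 4 := by
        by_contra hcon
        push Not at hcon
        have : 2 ^ 5 ≤ 2 ^ k := Nat.pow_le_pow_right (by norm_num) hcon
        omega
      have hk0 : k = 0 ∨ k = 4 := by
        unfold Nat.ModEq at h3
        interval_cases k <;> simp_all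
      rcases hk0 with rfl | rfl
      · exfalso
        have h5 : (cm V y ⊓ fx V a : AddSubgroup V) = ⊥ := AddSubgroup.eq_bot_of_card_eq _ (by rw [hk2, pow_zero])
        refine A.no_fifteen (R := cm V y) (fun u hu hw => A.nd_cm hy5 (by norm_num) hu hw) hcm ?_ ?_
        · refine A.dvd_sg (by norm_num) ha _ (fun v hv => smul_mem_cm h hv) fun v hv h6 => ?_
          have : v ∈ (cm V y ⊓ fx V a : AddSubgroup V) := ⟨hv, h6⟩
          rw [h5] at this
          exact this
        · exact A.dvd_sg (by norm_num) hy _ (fun v hv => smul_mem_cm rfl hv) hycm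
      · have h5 : (cm V y ⊓ fx V a : AddSubgroup V) = cm V y :=
          AddSubgroup.eq_of_le_of_card_ge inf_le_left (by rw [hk2, hcm]; norm_num)
        rw [← h5]
        exact inf_le_right
    refine ⟨h1, ?_, h2⟩
    have h16 : 16 ≤ Nat.card (fx V a) := by
      rw [← hcm]
      exact AddSubgroup.card_le_of_le h2
    rcases A.fx_three ha with h4 | h4 | h4 | h4
    · omega
    · omega
    · exfalso
      have h5 : cm V y = fx V a := AddSubgroup.eq_of_le_of_card_ge h2 (by rw [h4, hcm])
      refine A.no_fifteen (R := fx V y) (fun u hu hw => A.nd_fx hy5 (by norm_num) hu hw) h1 ?_ ?_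
      · refine A.dvd_sg (by norm_num) ha _ (fun v hv => smul_mem_fx h hv) fun v hv h6 => ?_
        have h7 : v ∈ cm V y := by rw [h5]; exact h6
        exact hycm v h7 hv
      · exact A.dvd_sg_fx (by norm_num) hy (by norm_num)
    · exact h4

/-- the element of order 3 does not commute with an involution with totally isotropic, non-singular fixed space -/
theorem no_comm_t {a y t : G} (ha : orderOf a = 3) (hy : orderOf y = 5) (h : a * y = y * a) (ht : orderOf t = 2)
    (hti : ∀ u ∈ fx V t, ∀ w ∈ fx V t, pol q u w = 0) (htq : ∃ u ∈ fx V t, q u ≠ 0) (hat : a * t = t * a) : False := by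
  have hfin := A.fin
  have ha3 := A.pow_three ha
  -- `q = 0` on the fixed vectors of `t` in `cm a`
  have h0 : ∀ u ∈ cm V a, u ∈ fx V t → q u = 0 := by
    intro u hu hut
    have h1 : a • u ∈ fx V t := smul_mem_fx hat hut
    have h2 : a • a • u = u + a • u := by
      obtain ⟨v, rfl⟩ := mem_cm.1 hu
      have h3 : a • a • a • v = v := by
        rw [smul_smul, smul_smul, ← pow_two, ← pow_succ, ha3, one_smul]
      rw [smul_add, smul_add, h3]
      have h4 : a • v + v + (a • a • v + a • v) = (a • v + a • v) + (v + a • a • v) := by abel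
      rw [h4, A.two, zero_add]
    have h3 : q (u + a • u) = q u := by rw [← h2, A.inv, A.inv]
    rw [q_add (q := q), A.inv, hti u hut _ h1, add_zero, CharTwo.add_self_eq_zero] at h3
    exact h3.symm
  rcases A.three_five ha hy h with ⟨-, h1⟩ | ⟨-, h1, -⟩
  · obtain ⟨u, hu, hqu⟩ := htq
    apply hqu
    refine h0 u ?_ hu
    have h2 : Nat.card (cm V a) = 256 := by
      have := A.card_mul a
      rw [h1] at this
      omega
    rw [A.eq_top_of_card h2]
    trivial
  · have h2 : Nat.card (cm V a) = 4 := by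
      have := A.card_mul a
      rw [h1] at this
      omega
    -- a fixed vector of `t` in `cm a`
    have h3 := A.card_mod (by norm_num) ht (cm V a) (fun v hv => smul_mem_cm hat.symm hv)
    rw [h2] at h3
    have h4 : ∃ u ∈ cm V a, u ∈ fx V t ∧ u ≠ 0 := by
      by_contra hcon
      push Not at hcon
      have h5 : (cm V a ⊓ fx V t : AddSubgroup V) = ⊥ := by
        rw [eq_bot_iff]
        intro v hv
        exact hcon v hv.1 hv.2
      rw [h5, AddSubgroup.card_bot] at h3
      exact absurd h3 (by decide)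
    obtain ⟨u, hu, hut, hu0⟩ := h4
    apply hu0
    have h5 : (cm V a ⊓ fx V t : AddSubgroup V) = cm V a := by
      refine AddSubgroup.eq_of_le_of_card_ge inf_le_left ?_
      rw [h2]
      have h6 : Nat.card ({0, u, a • u} : Set V) = 3 := by
        rw [Nat.card_coe_set_eq, Set.ncard_eq_three]
        refine ⟨0, u, a • u, hu0.symm, fun h => hu0 ((smul_eq_zero_iff_eq a).1 h.symm), fun h => hu0 ?_, rfl⟩
        exact A.fx_inf_cm ha3 (by norm_num) h.symm hu
      have h7 : ({0, u, a • u} : Set V) ⊆ (cm V a ⊓ fx V t : AddSubgroup V) := by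
        rintro v (rfl | rfl | rfl)
        · exact AddSubgroup.zero_mem _
        · exact ⟨hu, hut⟩
        · exact ⟨smul_mem_cm rfl hu, smul_mem_fx hat hut⟩
      have h8 : 3 ≤ Nat.card (cm V a ⊓ fx V t : AddSubgroup V) := by
        rw [← h6]
        exact Nat.card_le_card_of_injective (Set.inclusion h7) (Set.inclusion_injective h7)
      obtain ⟨k, hk, hk2⟩ := A.exists_card (cm V a ⊓ fx V t : AddSubgroup V)
      rw [hk2] at h8 ⊢
      by_contra hcon
      push Not at hcon
      have : k < 2 := by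
        by_contra hcon2
        push Not at hcon2
        have : 2 ^ 2 ≤ 2 ^ k := Nat.pow_le_pow_right (by norm_num) hcon2
        omega
      interval_cases k <;> omega
    refine A.nd_cm ha3 (by norm_num) hu fun w hw => hti u hut w ?_
    rw [← h5] at hw
    exact hw.2

end Oct

end Cfsg.Agent.H547.Der.Oc
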