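import Cfsg.Agent.H547.Der.OctB

/-!
# Quadratic space with 256 vectors: elements of order 9, subgroups of order 9 and 25, isotropic subspaces (helper547)
-/

set_option autoImplicit false

namespace Cfsg.Agent.H547.Der

open MulAction

/-- `y ^ (p ^ 2) = 1`, `y ^ p` without fixed points on the invariant set `Y`: `p ^ 2 ∣ |Y|` -/
theorem psq_dvd {G X : Type*} [Group G] [MulAction G X] {p : ℕ} (hp : p.Prime) {y : G} (hy : y ^ (p ^ 2) = 1) (Y : Set X)
    [Finite Y] (hinv : ∀ x ∈ Y, y • x ∈ Y) (hfix : ∀ x ∈ Y, y ^ p • x ≠ x) : p ^ 2 ∣ Nat.card Y := by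
  classical
  have hp2 : 0 < p ^ 2 := pow_pos hp.pos 2
  have hfo : IsOfFinOrder y := isOfFinOrder_iff_pow_eq_one.2 ⟨p ^ 2, hp2, hy⟩
  have hpow : ∀ n : ℕ, ∀ x ∈ Y, y ^ n • x ∈ Y := by
    intro n
    induction n with
    | zero => intro x hx; rwa [pow_zero, one_smul]
    | succ n ih => intro x hx; rw [pow_succ', mul_smul]; exact hinv _ (ih x hx)
  let : MulAction (Subgroup.zpowers y) Y := setAct (Subgroup.zpowers y) Y (by
    intro m hm x hx
    obtain ⟨n, rfl⟩ := hfo.mem_powers_iff_mem_zpowers.2 hm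
    exact hpow n x hx)
  refine dvd_card_of_orbits (M := Subgroup.zpowers y) fun x => ?_
  have hcy : Nat.card (Subgroup.zpowers y) ∣ p ^ 2 := by
    rw [Nat.card_zpowers]
    exact orderOf_dvd_of_pow_eq_one hy
  have : Finite (Subgroup.zpowers y) := Nat.finite_of_card_ne_zero fun h => by
    rw [h, zero_dvd_iff] at hcy
    exact hp2.ne' hcy
  set K := stabilizer (Subgroup.zpowers y) x with hK
  have h1 : K.index = Nat.card (orbit (Subgroup.zpowers y) x) := index_stabilizer _ x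
  rw [← h1]
  have h2 : K.index ∣ p ^ 2 := K.index_dvd_card.trans hcy
  obtain ⟨j, hj, hj2⟩ := (Nat.dvd_prime_pow hp).1 h2
  by_cases hj3 : j = 2
  · rw [hj2, hj3]
  exfalso
  have hn : K.Normal := by
    refine ⟨fun a ha g => ?_⟩
    have hc : g * a = a * g := by
      obtain ⟨_, i, rfl⟩ := g
      obtain ⟨_, k, rfl⟩ := a
      apply Subtype.ext
      show y ^ i * y ^ k = y ^ k * y ^ i
      rw [← zpow_add, ← zpow_add, add_comm]
    rw [hc, mul_inv_cancel_right]
    exact ha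
  have h3 : (⟨y, Subgroup.mem_zpowers y⟩ : Subgroup.zpowers y) ^ K.index ∈ K := Subgroup.pow_index_mem K _
  have h4 : (⟨y, Subgroup.mem_zpowers y⟩ : Subgroup.zpowers y) ^ p ∈ K := by
    have h5 : K.index ∣ p := by
      rw [hj2]
      calc p ^ j ∣ p ^ 1 := pow_dvd_pow p (by omega)
        _ = p := pow_one p
    obtain ⟨c, hc⟩ := h5
    rw [hc, pow_mul]
    exact K.pow_mem h3 c
  rw [hK, mem_stabilizer_iff] at h4
  exact hfix x x.2 (congrArg Subtype.val h4)

end Cfsg.Agent.H547.Der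

namespace Cfsg.Agent.H547.Der.Oc

open MulAction

variable {G V : Type*} [Group G] [AddCommGroup V] [DistribMulAction G V] {q : V → ZMod 2}

theorem exists_pow_three {r : G} (h : r ≠ 1) (h9 : r ^ 9 = 1) : ∃ k : ℕ, orderOf (r ^ k) = 3 := by
  have h1 : orderOf r ∣ 3 ^ 2 := orderOf_dvd_of_pow_eq_one (by norm_num; exact h9)
  obtain ⟨j, hj, hj2⟩ := (Nat.dvd_prime_pow Nat.prime_three).1 h1
  interval_cases j
  · exact absurd (orderOf_eq_one_iff.1 (by simpa using hj2)) h
  · exact ⟨1, by rw [pow_one, hj2, pow_one]⟩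
  · refine ⟨3, ?_⟩
    rw [orderOf_pow' r (by norm_num), hj2]
    decide

theorem num_a {j : ℕ} (hj : j ≤ 8) (h3 : 64 ≡ 2 ^ j [MOD 5]) (h4 : 5 ≤ 2 ^ j - 1) (h6 : 2 ^ j ≤ 16) : False := by
  unfold Nat.ModEq at h3
  interval_cases j <;> omega

namespace Oct

variable (A : Oct G V q)

include A

theorem card_ne_zero : Nat.card {v : V // v ≠ 0} = 255 := by
  have := A.fin
  have h1 : Nat.card ((Set.univ : Set V) \ {0} : Set V) = 255 := by
    rw [Nat.card_coe_set_eq, Set.ncard_sdiff_singleton_of_mem (Set.mem_univ _), Set.ncard_univ, A.card]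
  rw [← h1]
  exact Nat.card_congr (Equiv.subtypeEquivRight fun v => by simp)

/-- the complement of a subgroup -/
theorem card_compl (R : AddSubgroup V) : Nat.card ((R : Set V)ᶜ : Set V) = 256 - Nat.card R := by
  have := A.fin
  rw [Nat.card_coe_set_eq, Set.ncard_compl, A.card]
  rfl

/-- no subgroup of order 9 centralizes an element of order 5 -/
theorem no_nine {y : G} (hy : orderOf y = 5) (R : Subgroup G) (hR : Nat.card R = 9) (h : ∀ r ∈ R, r * y = y * r) :
    False := by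
  classical
  have hfin := A.fin
  have hfinR : Finite R := Nat.finite_of_card_ne_zero (by rw [hR]; norm_num)
  have h9 : ∀ r ∈ R, r ^ 9 = 1 := by
    intro r hr
    have h1 : (⟨r, hr⟩ : R) ^ Nat.card R = 1 := pow_card_eq_one'
    rw [hR] at h1
    exact congrArg Subtype.val h1
  have hy5 := A.pow_five hy
  have key : ∀ r ∈ R, r ≠ 1 → ∃ k : ℕ, orderOf (r ^ k) = 3 ∧ r ^ k * y = y * r ^ k := by
    intro r hr hr1
    obtain ⟨k, hk⟩ := exists_pow_three hr1 (h9 r hr)
    exact ⟨k, hk, h _ (pow_mem hr k)⟩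
  rcases A.fx_five hy with h1 | h1
  · -- semiregular
    have hsr : ∀ r ∈ R, r ≠ 1 → ∀ v : V, r • v = v → v = 0 := by
      intro r hr hr1 v hv
      obtain ⟨k, hk, hk2⟩ := key r hr hr1
      rcases A.three_five hk hy hk2 with ⟨-, h2⟩ | ⟨h2, -⟩
      · have h3 : fx V (r ^ k) = ⊥ := AddSubgroup.eq_bot_of_card_eq _ h2
        have h4 : v ∈ fx V (r ^ k) := pow_mem_fx hv k
        rw [h3] at h4
        exact h4
      · omega
    let : MulAction R {v : V | v ≠ 0} := setAct R {v : V | v ≠ 0} fun m _ v hv h => hv ((smul_eq_zero_iff_eq m).1 h)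
    have h2 : 9 ∣ Nat.card {v : V | v ≠ 0} := by
      refine dvd_card_of_orbits (M := R) fun x => ?_
      have h3 : stabilizer R x = ⊥ := by
        rw [eq_bot_iff]
        intro r hr
        rw [mem_stabilizer_iff] at hr
        by_contra hr1
        refine x.2 (hsr r r.2 (fun h => hr1 (Subtype.ext h)) x (congrArg Subtype.val hr))
      have h4 : (stabilizer R x).index = Nat.card (orbit R x) := index_stabilizer R x
      rw [h3, Subgroup.index_bot, hR] at h4
      rw [← h4]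
    rw [show Nat.card {v : V | v ≠ 0} = 255 from A.card_ne_zero] at h2
    exact absurd h2 (by norm_num)
  · -- five points
    set W := fx V y with hW
    have hnd : ∀ u ∈ W, (∀ w ∈ W, pol q u w = 0) → u = 0 := fun u hu hw => A.nd_fx hy5 (by norm_num) hu hw
    have h5 : 5 ∣ Nat.card (sg q W) := A.dvd_sg_fx (by norm_num) hy (by norm_num)
    have h16 : Nat.card ((W : Set V) \ {0} : Set V) = 15 := by
      rw [Nat.card_coe_set_eq, Set.ncard_sdiff_singleton_of_mem W.zero_mem, ← Nat.card_coe_set_eq]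
      have : Nat.card (W : Set V) = 16 := h1
      rw [this]
    have hsub : sg q W ⊆ (W : Set V) \ {0} := fun v hv => ⟨hv.1, hv.2.1⟩
    have hle : Nat.card (sg q W) ≤ 15 := by
      rw [← h16]
      exact Nat.card_le_card_of_injective (Set.inclusion hsub) (Set.inclusion_injective hsub)
    have hn0 : Nat.card (sg q W) ≠ 0 := fun h0 => A.no_fifteen hnd h1 (by rw [h0]; norm_num) (by rw [h0]; norm_num)
    have hn15 : Nat.card (sg q W) ≠ 15 := fun h0 => A.no_fifteen hnd h1 (by rw [h0]; norm_num) (by rw [h0]; norm_num)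
    have hset : ∃ S : Set V, Nat.card S = 5 ∧ (∀ v ∈ S, v ∈ W ∧ v ≠ 0) ∧ ∀ r ∈ R, ∀ v ∈ S, r • v ∈ S := by
      obtain ⟨k, hk⟩ := h5
      have hk2 : k = 1 ∨ k = 2 := by omega
      rcases hk2 with rfl | rfl
      · refine ⟨sg q W, by rw [hk], fun v hv => ⟨hv.1, hv.2.1⟩, ?_⟩
        rintro r hr v ⟨hv1, hv2, hv3⟩
        exact ⟨smul_mem_fx (h r hr) hv1, fun h => hv2 ((smul_eq_zero_iff_eq r).1 h), by rw [A.inv]; exact hv3⟩
      · refine ⟨((W : Set V) \ {0}) \ sg q W, ?_, fun v hv => ⟨hv.1.1, hv.1.2⟩, ?_⟩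
        · rw [Nat.card_coe_set_eq, Set.ncard_sdiff hsub, ← Nat.card_coe_set_eq, ← Nat.card_coe_set_eq, h16, hk]
        · rintro r hr v ⟨⟨hv1, hv2⟩, hv3⟩
          refine ⟨⟨smul_mem_fx (h r hr) hv1, fun h => hv2 ((smul_eq_zero_iff_eq r).1 h)⟩, fun h4 => hv3 ⟨hv1, hv2, ?_⟩⟩
          have := h4.2.2
          rwa [A.inv] at this
    obtain ⟨S, hS5, hSW, hSR⟩ := hset
    let : MulAction R S := setAct R S hSR
    have hinj : Function.Injective (MulAction.toPermHom R S) := by
      rw [injective_iff_map_eq_one]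
      intro r hr
      by_contra hr1
      obtain ⟨k, hk, hk2⟩ := key r r.2 (fun h => hr1 (Subtype.ext h))
      have hfix : ∀ v ∈ S, (r : G) • v = v := fun v hv =>
        congrArg Subtype.val (Equiv.congr_fun hr (⟨v, hv⟩ : S))
      rcases A.three_five hk hy hk2 with ⟨h2, -⟩ | ⟨-, h2, -⟩
      · rw [← hW, h1] at h2
        norm_num at h2
      · have h3 := A.card_mod (by norm_num) hy (fx V ((r : G) ^ k)) (fun v hv => smul_mem_fx hk2.symm hv)
        rw [h2] at h3
        have hS4 : S ⊆ ((fx V ((r : G) ^ k) ⊓ W : AddSubgroup V) : Set V) \ {0} := fun v hv =>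
          ⟨⟨pow_mem_fx (hfix v hv) k, (hSW v hv).1⟩, (hSW v hv).2⟩
        have h4 : 5 ≤ Nat.card (((fx V ((r : G) ^ k) ⊓ W : AddSubgroup V) : Set V) \ {0} : Set V) := by
          rw [← hS5]
          exact Nat.card_le_card_of_injective (Set.inclusion hS4) (Set.inclusion_injective hS4)
        rw [Nat.card_coe_set_eq, Set.ncard_sdiff_singleton_of_mem (AddSubgroup.zero_mem _), ← Nat.card_coe_set_eq] at h4
        have h5 : Nat.card ((fx V ((r : G) ^ k) ⊓ W : AddSubgroup V) : Set V) =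
          Nat.card (fx V ((r : G) ^ k) ⊓ W : AddSubgroup V) := rfl
        rw [h5] at h4
        have h6 : Nat.card (fx V ((r : G) ^ k) ⊓ W : AddSubgroup V) ≤ 16 := by
          rw [← h1]
          exact AddSubgroup.card_le_of_le inf_le_right
        obtain ⟨j, hj, hj2⟩ := A.exists_card (fx V ((r : G) ^ k) ⊓ W : AddSubgroup V)
        rw [← hW, hj2] at h3
        rw [hj2] at h4 h6
        exact num_a hj h3 h4 h6
    have h2 : Nat.card R ∣ Nat.card (Equiv.Perm S) := Subgroup.card_dvd_of_injective _ hinj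
    have h3 : Nat.card (Equiv.Perm S) = 120 := by
      have : Fintype S := Fintype.ofFinite S
      rw [Nat.card_eq_fintype_card, Fintype.card_perm, ← Nat.card_eq_fintype_card, hS5]
      rfl
    rw [hR, h3] at h2
    exact absurd h2 (by norm_num)

/-- cubes of elements of order 9 -/
theorem cube_nine {y : G} (hy : orderOf y = 9) :
    Nat.card (fx V (y ^ 3)) = 4 ∧ ∀ v ∈ fx V (y ^ 3), q v = 0 → v = 0 := by
  have hfin := A.fin
  have hy9 : y ^ (3 ^ 2) = 1 := by norm_num; rw [← hy]; exact pow_orderOf_eq_one y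
  have hz1 : y ^ 3 ≠ 1 := by
    intro h
    have := orderOf_dvd_of_pow_eq_one h
    rw [hy] at this
    norm_num at this
  have hcomm : ∀ v : V, y ^ 3 • y • v = y • y ^ 3 • v := by
    intro v
    rw [smul_smul, smul_smul, ← pow_succ, ← pow_succ']
  have hinv : ∀ v : V, v ∉ fx V (y ^ 3) → y • v ∉ fx V (y ^ 3) := by
    intro v hv h
    apply hv
    rw [mem_fx] at h ⊢
    rw [hcomm] at h
    exact smul_left_cancel y h
  have h9 : 3 ^ 2 ∣ Nat.card ((fx V (y ^ 3) : Set V)ᶜ : Set V) :=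
    psq_dvd Nat.prime_three hy9 _ (fun v hv => hinv v hv) fun v hv h => hv h
  rw [A.card_compl] at h9
  obtain ⟨c, hc, hc2⟩ := A.exists_card (fx V (y ^ 3))
  have hne := A.fx_ne hz1
  rw [hc2] at h9 hne
  have hc4 : c = 2 := by
    interval_cases c <;> first | rfl | (exfalso; revert h9; decide) | (exfalso; exact hne rfl)
  subst hc4
  refine ⟨hc2, ?_⟩
  have h9' : 3 ^ 2 ∣ Nat.card ({v : V | v ≠ 0 ∧ q v = 0} \ (fx V (y ^ 3) : Set V) : Set V) := by
    refine psq_dvd Nat.prime_three hy9 _ ?_ fun v hv h => hv.2 h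
    rintro v ⟨⟨hv1, hv2⟩, hv3⟩
    exact ⟨⟨fun h => hv1 ((smul_eq_zero_iff_eq y).1 h), by rw [A.inv]; exact hv2⟩, hinv v hv3⟩
  have h10 : Nat.card ({v : V | v ≠ 0 ∧ q v = 0} \ (fx V (y ^ 3) : Set V) : Set V) +
      Nat.card ({v : V | v ≠ 0 ∧ q v = 0} ∩ (fx V (y ^ 3) : Set V) : Set V) = 135 := by
    have h0 : Nat.card {v : V | v ≠ 0 ∧ q v = 0} = 135 := A.sing
    rw [← h0, Nat.card_coe_set_eq, Nat.card_coe_set_eq, Nat.card_coe_set_eq, add_comm]
    exact Set.ncard_inter_add_ncard_sdiff_eq_ncard _ _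
  have h11 : Nat.card ({v : V | v ≠ 0 ∧ q v = 0} ∩ (fx V (y ^ 3) : Set V) : Set V) ≤ 4 := by
    have h4 : Nat.card (fx V (y ^ 3)) = 4 := hc2
    rw [← h4, Nat.card_coe_set_eq]
    exact Set.ncard_le_ncard Set.inter_subset_right
  have h12 : Nat.card ({v : V | v ≠ 0 ∧ q v = 0} ∩ (fx V (y ^ 3) : Set V) : Set V) = 0 := by omega
  intro v hv hqv
  by_contra hv0
  rw [Nat.card_eq_zero] at h12
  rcases h12 with h | h
  · exact h.false ⟨v, ⟨hv0, hqv⟩, hv⟩
  · exact absurd (Set.toFinite _).to_subtype (not_finite_iff_infinite.2 h)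

/-- an invariant totally singular subspace excludes elements of order 9 -/
theorem no_order_nine {R : AddSubgroup V} (hR : R ≠ ⊥) (hti : ∀ u ∈ R, ∀ w ∈ R, pol q u w = 0)
    (hts : ∀ u ∈ R, q u = 0) {y : G} (hy : orderOf y = 9) (hinv : ∀ v ∈ R, y • v ∈ R) : False := by
  have hfin := A.fin
  have hy9 : y ^ (3 ^ 2) = 1 := by norm_num; rw [← hy]; exact pow_orderOf_eq_one y
  have h1 : 3 ^ 2 ∣ Nat.card ((R : Set V) \ {0} : Set V) := by
    refine psq_dvd Nat.prime_three hy9 _ ?_ ?_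
    · rintro v ⟨hv1, hv2⟩
      exact ⟨hinv v hv1, fun h => hv2 ((smul_eq_zero_iff_eq y).1 h)⟩
    · rintro v ⟨hv1, hv2⟩ h
      exact hv2 ((A.cube_nine hy).2 v h (hts v hv1))
  rw [Nat.card_coe_set_eq, Set.ncard_sdiff_singleton_of_mem R.zero_mem, ← Nat.card_coe_set_eq] at h1
  have h2 : Nat.card (R : Set V) = Nat.card R := rfl
  have h3 := A.iso_le R hti
  rw [h2] at h1
  obtain ⟨k, hk, hk2⟩ := A.exists_card R
  rw [hk2] at h1 h3
  have hk4 : k ≤ 4 := by
    by_contra hcon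
    push Not at hcon
    have : 2 ^ 5 ≤ 2 ^ k := Nat.pow_le_pow_right (by norm_num) hcon
    omega
  have hk0 : k ≠ 0 := by
    rintro rfl
    exact hR (AddSubgroup.eq_bot_of_card_eq _ (by rw [hk2, pow_zero]))
  interval_cases k <;> first | exact absurd rfl hk0 | (revert h1; decide)

end Oct

end Cfsg.Agent.H547.Der.Oc
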