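import Cfsg.Agent.S1545
import Cfsg.Agent.H547.Der.Gen

/-!
# Elements of order 5 acting on 3-groups of linear transformations of `F₂⁸` (helper547, for S3500)
-/

set_option autoImplicit false

namespace Cfsg.Agent.H547.Der.Wiel

open Subgroup Cfsg.Agent.H439.Der

theorem card_mul_relIndex {G : Type*} [Group G] {H K : Subgroup G} (h : H ≤ K) :
    Nat.card H * H.relIndex K = Nat.card K := by
  rw [Subgroup.relIndex, ← Nat.card_congr (Subgroup.subgroupOfEquivOfLe h).toEquiv]
  exact Subgroup.card_mul_index _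

/-- `|K H| |K ∩ H| = |K| |H|` -/
theorem card_sup_mul {G : Type*} [Group G] {K H : Subgroup G} (h : H ≤ normalizer (K : Set G)) :
    Nat.card (K ⊔ H : Subgroup G) * Nat.card (K ⊓ H : Subgroup G) = Nat.card K * Nat.card H := by
  have hKn : (K.subgroupOf (K ⊔ H)).Normal :=
    normal_subgroupOf_of_le_normalizer (sup_le le_normalizer h)
  have h1 := relIndex_sup_left (H.subgroupOf (K ⊔ H)) (K.subgroupOf (K ⊔ H))
  rw [← Subgroup.subgroupOf_sup le_sup_left le_sup_right, Subgroup.subgroupOf_self,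
    Subgroup.relIndex_subgroupOf le_sup_right, relIndex_top_right] at h1
  have h2 : Nat.card K * K.relIndex H = Nat.card (K ⊔ H : Subgroup G) := by
    rw [← h1]
    exact card_mul_relIndex le_sup_left
  have h3 : Nat.card (K ⊓ H : Subgroup G) * K.relIndex H = Nat.card H := by
    rw [← Subgroup.inf_relIndex_right K H]
    exact card_mul_relIndex inf_le_right
  calc _ = Nat.card (K ⊔ H : Subgroup G) * Nat.card (K ⊓ H : Subgroup G) := rfl
    _ = Nat.card K * (Nat.card (K ⊓ H : Subgroup G) * K.relIndex H) := by rw [← h2]; ring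
    _ = _ := by rw [h3]

variable {G V : Type*} [Group G] [Finite G] [CommGroup V] [Finite V] [MulDistribMulAction G V]

/-- the fixed vectors -/
def fxs (V : Type*) [CommGroup V] [MulDistribMulAction G V] (Q : Subgroup G) : Set V := {v | ∀ u ∈ Q, u • v = v}

/-- the semidirect product -/
abbrev X (G V : Type*) [Group G] [CommGroup V] [MulDistribMulAction G V] := V ⋊[MulDistribMulAction.toMulAut G V] G

theorem card_inf (Q : Subgroup G) :
    Nat.card ↥((SemidirectProduct.inl : V →* X G V).range ⊓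
      Subgroup.centralizer ((Q.map (SemidirectProduct.inr : G →* X G V) : Subgroup (X G V)) : Set (X G V))) =
      Nat.card (fxs V Q) := by
  have key : ∀ (v : V) (u : G), (SemidirectProduct.inr u : X G V) * SemidirectProduct.inl v =
      SemidirectProduct.inl v * SemidirectProduct.inr u ↔ u • v = v := by
    intro v u
    constructor
    · intro h
      have := congrArg (fun x : X G V => x.left) h
      simpa using this
    · intro h
      apply SemidirectProduct.ext
      · simpa using h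
      · simp
  refine Nat.card_congr
    { toFun := fun x => ⟨x.1.left, fun u hu => ?_⟩
      invFun := fun v => ⟨SemidirectProduct.inl v.1, ⟨v.1, rfl⟩, ?_⟩
      left_inv := fun x => ?_
      right_inv := fun v => ?_ }
  · obtain ⟨v, hv⟩ := x.2.1
    have h1 := mem_centralizer_iff.1 x.2.2 (SemidirectProduct.inr u) ⟨u, hu, rfl⟩
    rw [← hv] at h1 ⊢
    simpa using (key v u).1 h1
  · refine mem_centralizer_iff.2 ?_
    rintro _ ⟨u, hu, rfl⟩
    exact (key v.1 u).2 (v.2 u hu)
  · obtain ⟨v, hv⟩ := x.2.1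
    apply Subtype.ext
    show (SemidirectProduct.inl x.1.left : X G V) = x.1
    rw [← hv]
    rfl
  · rfl

/-- **Wielandt's formula for the linear action of a Frobenius group** -/
theorem formula (Q E : Subgroup G) (hQ1 : Q ≠ ⊥) (hE1 : E ≠ ⊥) (hQE : Q ⊓ E = ⊥) (hn : ∀ e ∈ E, ∀ u ∈ Q, e * u * e⁻¹ ∈ Q)
    (hf : ∀ e ∈ E, e ≠ 1 → ∀ u ∈ Q, e * u = u * e → u = 1)
    (hcop : Nat.Coprime (Nat.card V) (Nat.card ↥(Q ⊔ E))) :
    Nat.card (fxs V (Q ⊔ E)) ^ Nat.card E * Nat.card V = Nat.card (fxs V E) ^ Nat.card E * Nat.card (fxs V Q) := by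
  have hfin : Finite (X G V) := Finite.of_equiv _ SemidirectProduct.equivProd.symm
  have hinj : Function.Injective (SemidirectProduct.inr : G →* X G V) := SemidirectProduct.inr_injective
  have hsup : Q.map (SemidirectProduct.inr : G →* X G V) ⊔ E.map (SemidirectProduct.inr : G →* X G V) =
      (Q ⊔ E).map (SemidirectProduct.inr : G →* X G V) := (Subgroup.map_sup _ _ _).symm
  have hcH : Nat.card (SemidirectProduct.inl : V →* X G V).range = Nat.card V :=
    (Nat.card_congr (MonoidHom.ofInjective (SemidirectProduct.inl_injective)).toEquiv).symm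
  have h := Cfsg.Agent.S1545.result (X := X G V) (Q.map SemidirectProduct.inr) (E.map SemidirectProduct.inr)
    (SemidirectProduct.inl : V →* X G V).range
    (fun h => hQ1 ((Subgroup.map_eq_bot_iff_of_injective _ hinj).1 h))
    (fun h => hE1 ((Subgroup.map_eq_bot_iff_of_injective _ hinj).1 h))
    (by rw [← Subgroup.map_inf _ _ _ hinj, hQE, Subgroup.map_bot])
    (by
      rintro _ ⟨e, he, rfl⟩ _ ⟨u, hu, rfl⟩
      exact ⟨e * u * e⁻¹, hn e he u hu, by simp⟩)
    (by
      rintro _ ⟨e, he, rfl⟩ he1 _ ⟨u, hu, rfl⟩ hc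
      have h1 : e ≠ 1 := fun h => he1 (by rw [h, map_one])
      have h2 : e * u = u * e := hinj (by rw [map_mul, map_mul]; exact hc)
      rw [hf e he h1 u hu h2, map_one])
    (by
      rintro x _ _ ⟨v, rfl⟩
      refine ⟨(x * SemidirectProduct.inl v * x⁻¹).left, ?_⟩
      apply SemidirectProduct.ext
      · simp
      · simp)
    (by
      rw [hsup, eq_bot_iff]
      rintro x ⟨⟨v, hv⟩, ⟨g, hg, hgx⟩⟩
      rw [mem_bot]
      have h1 : (SemidirectProduct.inl v : X G V) = SemidirectProduct.inr g := by rw [hv, hgx]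
      have h2 := congrArg (fun x : X G V => x.left) h1
      rw [← hv]
      have h3 : v = 1 := by simpa using h2
      rw [h3, map_one])
    (Group.isSolvable_of_comm (by
      rintro ⟨_, ⟨a, rfl⟩⟩ ⟨_, ⟨b, rfl⟩⟩
      apply Subtype.ext
      show (SemidirectProduct.inl a : X G V) * SemidirectProduct.inl b = SemidirectProduct.inl b * SemidirectProduct.inl a
      rw [← map_mul, ← map_mul, mul_comm]))
    (by
      rw [hcH, hsup, ← Nat.card_congr ((Q ⊔ E).equivMapOfInjective _ hinj).toEquiv]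
      exact hcop)
  rw [hsup, card_inf, card_inf, card_inf, hcH, ← Nat.card_congr (E.equivMapOfInjective _ hinj).toEquiv] at h
  exact h

theorem num_b {g c k : ℕ} (h : 2 ^ (g * 5) * 2 ^ 8 = 2 ^ (c * 5) * 2 ^ k) (hk : k ≤ 8) : k = 3 ∨ k = 8 := by
  rw [← pow_add, ← pow_add] at h
  have : g * 5 + 8 = c * 5 + k := Nat.pow_right_injective (le_refl 2) h
  omega

/-- **no element of order 5 acts without fixed points on a nontrivial 3-group of linear transformations of `F₂⁸`** -/
theorem no_frob (hV : Nat.card V = 256) (hfaith : ∀ g : G, (∀ v : V, g • v = v) → g = 1) {Q : Subgroup G}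
    (hQ : IsPGroup 3 Q) (hQ1 : Q ≠ ⊥) {y : G} (hy : orderOf y = 5) (hn : ∀ u ∈ Q, y * u * y⁻¹ ∈ Q)
    (hf : ∀ u ∈ Q, y * u = u * y → u = 1) : False := by
  have h3 : Fact (Nat.Prime 3) := ⟨Nat.prime_three⟩
  have h5 : Fact (Nat.Prime 5) := ⟨by norm_num⟩
  have hcy : Nat.card (zpowers y) = 5 := by rw [Nat.card_zpowers, hy]
  have hyN : y ∈ normalizer (Q : Set G) := by
    have h1 : Q.map (MulAut.conj y).toMonoidHom = Q := by
      refine Subgroup.eq_of_le_of_card_ge ?_ ?_
      · rintro _ ⟨u, hu, rfl⟩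
        exact hn u hu
      · exact (Nat.card_congr ((MulAut.conj y).subgroupMap Q).toEquiv).le
    rw [mem_normalizer_iff]
    intro u
    constructor
    · exact hn u
    · intro hu
      have hu' : y * u * y⁻¹ ∈ Q.map (MulAut.conj y).toMonoidHom := by rw [h1]; exact hu
      obtain ⟨w, hw, hwu⟩ := hu'
      rwa [← (MulAut.conj y).injective hwu]
  have hEN : zpowers y ≤ normalizer (Q : Set G) := (zpowers_le).2 hyN
  obtain ⟨n, hn3⟩ := IsPGroup.iff_card.1 hQ
  have hinf : Q ⊓ zpowers y = ⊥ := by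
    have h1 : Nat.card (Q ⊓ zpowers y : Subgroup G) ∣ 5 := by
      rw [← hcy]; exact Subgroup.card_dvd_of_le inf_le_right
    have h2 : Nat.card (Q ⊓ zpowers y : Subgroup G) ∣ 3 ^ n := by
      rw [← hn3]; exact Subgroup.card_dvd_of_le inf_le_left
    have h4 : Nat.card (Q ⊓ zpowers y : Subgroup G) ∣ 1 := by
      have h6 : Nat.Coprime 5 (3 ^ n) := Nat.Coprime.pow_right _ (by norm_num)
      have := Nat.dvd_gcd h1 h2
      rwa [h6] at this
    exact Subgroup.eq_bot_of_card_eq _ (Nat.dvd_one.1 h4)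
  have hsup := card_sup_mul hEN
  rw [hinf, Subgroup.card_bot, mul_one, hn3, hcy] at hsup
  -- the numbers of fixed vectors are powers of two
  have hfx : ∀ R : Subgroup G, ∃ k ≤ 8, Nat.card (fxs V R) = 2 ^ k := by
    intro R
    let S : Subgroup V :=
      { carrier := fxs V R
        mul_mem' := fun {a b} ha hb u hu => by rw [smul_mul', ha u hu, hb u hu]
        one_mem' := fun u _ => smul_one u
        inv_mem' := fun {a} ha u hu => by rw [smul_inv', ha u hu] }
    have h1 : Nat.card S ∣ 2 ^ 8 := by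
      have := S.card_subgroup_dvd_card
      rw [hV] at this
      exact this
    exact (Nat.dvd_prime_pow Nat.prime_two).1 h1
  have hF := formula (V := V) Q (zpowers y) hQ1 (fun h => by
      rw [h, Subgroup.card_bot] at hcy; norm_num at hcy) hinf (fun e he u hu =>
        (mem_normalizer_iff.1 (hEN he) u).1 hu) (by
      intro e he he1 u hu hc
      apply hf u hu
      -- `e` generates `⟨y⟩`
      have h1 : orderOf e = 5 := by
        have h2 : orderOf e ∣ 5 := by rw [← hy]; exact orderOf_dvd_of_mem_zpowers he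
        rcases (Nat.dvd_prime (by norm_num)).1 h2 with h3 | h3
        · exact absurd (orderOf_eq_one_iff.1 h3) he1
        · exact h3
      have h2 : zpowers e = zpowers y := by
        refine Subgroup.eq_of_le_of_card_ge (zpowers_le.2 he) ?_
        rw [Nat.card_zpowers, Nat.card_zpowers, h1, hy]
      obtain ⟨k, hk⟩ := mem_zpowers_iff.1 (by rw [h2]; exact mem_zpowers y : y ∈ zpowers e)
      rw [← hk]
      exact (Commute.zpow_left (show Commute e u from hc) k).eq) (by
      rw [hV, hsup]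
      have h2 : Nat.Coprime 256 3 := by norm_num
      exact Nat.Coprime.mul_right (Nat.Coprime.pow_right _ h2) (by norm_num))
  obtain ⟨g, -, hg⟩ := hfx (Q ⊔ zpowers y)
  obtain ⟨c, -, hc⟩ := hfx (zpowers y)
  obtain ⟨k, hk8, hk⟩ := hfx Q
  rw [hg, hc, hk, hV, hcy, ← pow_mul, ← pow_mul, show (256 : ℕ) = 2 ^ 8 by norm_num] at hF
  rcases num_b hF hk8 with rfl | rfl
  · -- parity
    have h1 := hQ.card_modEq_card_fixedPoints V
    have h2 : Nat.card (MulAction.fixedPoints Q V) = Nat.card (fxs V Q) := by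
      refine Nat.card_congr (Equiv.subtypeEquivRight fun v => ?_)
      constructor
      · intro h u hu; exact h ⟨u, hu⟩
      · intro h u; exact h u u.2
    rw [h2, hk, hV] at h1
    exact absurd h1 (by decide)
  · apply hQ1
    rw [eq_bot_iff]
    intro u hu
    rw [mem_bot]
    refine hfaith u fun v => ?_
    have h1 : fxs V Q = Set.univ := by
      refine Set.eq_of_subset_of_ncard_le (Set.subset_univ _) ?_ (Set.toFinite _)
      rw [Set.ncard_univ, hV, ← Nat.card_coe_set_eq, hk]
      norm_num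
    have h2 : v ∈ fxs V Q := by rw [h1]; trivial
    exact h2 u hu

/-- **an element of order 5 centralizes every abelian 3-group of linear transformations of `F₂⁸` which it normalizes** -/
theorem comm_of_normalizes (hV : Nat.card V = 256) (hfaith : ∀ g : G, (∀ v : V, g • v = v) → g = 1) {Q : Subgroup G}
    (hQ : IsPGroup 3 Q) (hab : ∀ a ∈ Q, ∀ b ∈ Q, a * b = b * a) {y : G} (hy : orderOf y = 5)
    (hn : ∀ u ∈ Q, y * u * y⁻¹ ∈ Q) : ∀ u ∈ Q, y * u = u * y := by
  -- `Q₀ = {[y, u]}`
  let f : Q →* Q :=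
    { toFun := fun u => ⟨y * u * y⁻¹ * (u : G)⁻¹, Q.mul_mem (hn u u.2) (Q.inv_mem u.2)⟩
      map_one' := Subtype.ext (by simp)
      map_mul' := fun a b => by
        apply Subtype.ext
        show y * (a * b : G) * y⁻¹ * (a * b : G)⁻¹ = (y * a * y⁻¹ * (a : G)⁻¹) * (y * b * y⁻¹ * (b : G)⁻¹)
        have h1 : (a : G)⁻¹ * (y * b * y⁻¹ * (b : G)⁻¹) = (y * b * y⁻¹ * (b : G)⁻¹) * (a : G)⁻¹ :=
          hab _ (Q.inv_mem a.2) _ (Q.mul_mem (hn b b.2) (Q.inv_mem b.2))
        calc y * (a * b : G) * y⁻¹ * (a * b : G)⁻¹ = y * a * y⁻¹ * ((y * b * y⁻¹ * (b : G)⁻¹) * (a : G)⁻¹) := by group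
          _ = y * a * y⁻¹ * ((a : G)⁻¹ * (y * b * y⁻¹ * (b : G)⁻¹)) := by rw [h1]
          _ = _ := by group }
  have hfin : Finite Q := inferInstance
  -- the kernel and the range meet trivially
  have hdis : ∀ u ∈ Q, y * u = u * y → ∀ w ∈ Q, y * w * y⁻¹ * w⁻¹ = u → u = 1 := by
    intro u hu hc w hw hwu
    have hstep : ∀ n : ℕ, y ^ n * w * (y ^ n)⁻¹ = u ^ n * w := by
      intro n
      induction n with
      | zero => simp
      | succ n ih =>
        have h1 : y * w * y⁻¹ = u * w := by rw [← hwu]; group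
        have h2 : y ^ n * u * (y ^ n)⁻¹ = u := by
          have h3 : Commute (y ^ n) u := (show Commute y u from hc).pow_left n
          rw [h3.eq, mul_inv_cancel_right]
        calc y ^ (n + 1) * w * (y ^ (n + 1))⁻¹ = y ^ n * (y * w * y⁻¹) * (y ^ n)⁻¹ := by rw [pow_succ]; group
          _ = (y ^ n * u * (y ^ n)⁻¹) * (y ^ n * w * (y ^ n)⁻¹) := by rw [h1]; group
          _ = u * (u ^ n * w) := by rw [h2, ih]
          _ = u ^ (n + 1) * w := by rw [pow_succ', mul_assoc]
    have h5 := hstep 5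
    have hy5 : y ^ 5 = 1 := by rw [← hy]; exact pow_orderOf_eq_one y
    rw [hy5, one_mul, inv_one, mul_one] at h5
    have h6 : u ^ 5 = 1 := by
      have : u ^ 5 * w = 1 * w := by rw [← h5, one_mul]
      exact mul_right_cancel this
    obtain ⟨n, hn⟩ := hQ ⟨u, hu⟩
    have h7 : u ^ 3 ^ n = 1 := congrArg Subtype.val hn
    have h8 : orderOf u ∣ 5 := orderOf_dvd_of_pow_eq_one h6
    have h9 : orderOf u ∣ 3 ^ n := orderOf_dvd_of_pow_eq_one h7
    have h10 : orderOf u ∣ 1 := by
      have h11 : Nat.Coprime 5 (3 ^ n) := Nat.Coprime.pow_right _ (by norm_num)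
      have := Nat.dvd_gcd h8 h9
      rwa [h11] at this
    exact orderOf_eq_one_iff.1 (Nat.dvd_one.1 h10)
  by_contra hcon
  push Not at hcon
  obtain ⟨u, hu, hcu⟩ := hcon
  refine no_frob (V := V) hV hfaith (Q := (f.range).map Q.subtype) ?_ ?_ hy ?_ ?_
  · exact (hQ.to_subgroup _).map _
  · intro h
    have h1 : (f ⟨u, hu⟩ : G) ∈ (f.range).map Q.subtype := ⟨f ⟨u, hu⟩, ⟨_, rfl⟩, rfl⟩
    rw [h, mem_bot] at h1
    apply hcu
    have h2 : y * u * y⁻¹ * u⁻¹ = 1 := h1
    calc y * u = (y * u * y⁻¹ * u⁻¹) * (u * y) := by group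
      _ = u * y := by rw [h2, one_mul]
  · rintro _ ⟨_, ⟨w, rfl⟩, rfl⟩
    refine ⟨f ⟨y * w * y⁻¹, hn w w.2⟩, ⟨_, rfl⟩, ?_⟩
    show y * (y * w * y⁻¹) * y⁻¹ * (y * w * y⁻¹)⁻¹ = y * (y * w * y⁻¹ * (w : G)⁻¹) * y⁻¹
    group
  · rintro _ ⟨_, ⟨w, rfl⟩, rfl⟩ hc
    exact hdis _ (f w).2 hc w w.2 rfl

end Cfsg.Agent.H547.Der.Wiel
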