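import Cfsg.Agent.H547.Der.OctC
import Cfsg.Agent.H547.Der.Wiel

/-!
# Quadratic space with 256 vectors: invariant isotropic subspaces, subgroups of order 25 (helper547, for S3500)
-/

set_option autoImplicit false

namespace Cfsg.Agent.H547.Der.Oc

open MulAction

variable {G V : Type*} [Group G] [AddCommGroup V] [DistribMulAction G V] {q : V → ZMod 2}

theorem num_c {c : ℕ} (hc : c ≤ 8) (h : 256 ≡ 2 ^ c [MOD 7]) (hne : 2 ^ c ≠ 256) : c = 2 ∨ c = 5 := by
  unfold Nat.ModEq at h
  interval_cases c <;> first | exact Or.inl rfl | exact Or.inr rfl | (exfalso; revert h; decide) | exact absurd rfl hne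

theorem num_d {k : ℕ} (hk : k ≤ 8) (h0 : k ≠ 0) (h16 : 2 ^ k ≤ 16) (h3 : 3 ∣ 2 ^ k - 1) : k = 2 ∨ k = 4 := by
  interval_cases k <;> first | exact Or.inl rfl | exact Or.inr rfl | (exfalso; revert h3; decide) | (exfalso; omega)

theorem num_e {j : ℕ} (hj : j ≤ 8) (h : 4 ≡ 2 ^ j [MOD 7]) (hle : 2 ^ j ≤ 4) : j = 2 := by
  unfold Nat.ModEq at h
  interval_cases j <;> first | rfl | (exfalso; revert h; decide) | (exfalso; omega)

namespace Oct

variable (A : Oct G V q)

include A

/-- singular vectors in a nondegenerate subgroup with 8 elements and an element of order 7 -/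
theorem no_eight {x : G} (hx : orderOf x = 7) (h8 : Nat.card (cm V x) = 8) : False := by
  have hfin := A.fin
  have hx7 : x ^ 7 = 1 := by rw [← hx, pow_orderOf_eq_one]
  have hf : ∀ v ∈ cm V x, x • v = v → v = 0 := fun v hv h => A.fx_inf_cm hx7 (by norm_num) h hv
  have hnd : ∀ u ∈ cm V x, (∀ w ∈ cm V x, pol q u w = 0) → u = 0 := fun u hu hw => A.nd_cm hx7 (by norm_num) hu hw
  have h7 := A.dvd_sg (by norm_num) hx (cm V x) (fun v hv => smul_mem_cm rfl hv) hf
  have h16 : Nat.card ((cm V x : Set V) \ {0} : Set V) = 7 := by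
    rw [Nat.card_coe_set_eq, Set.ncard_sdiff_singleton_of_mem (AddSubgroup.zero_mem _), ← Nat.card_coe_set_eq]
    have : Nat.card (cm V x : Set V) = 8 := h8
    rw [this]
  have hsub : sg q (cm V x) ⊆ (cm V x : Set V) \ {0} := fun v hv => ⟨hv.1, hv.2.1⟩
  have hle : Nat.card (sg q (cm V x)) ≤ 7 := by
    rw [← h16]
    exact Nat.card_le_card_of_injective (Set.inclusion hsub) (Set.inclusion_injective hsub)
  obtain ⟨k, hk⟩ := h7
  have hk2 : k = 0 ∨ k = 1 := by omega
  rcases hk2 with rfl | rfl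
  · refine A.not_const hnd (by omega) (c := 1) fun v hv hv0 => ?_
    have h1 : IsEmpty (sg q (cm V x)) := by
      rw [mul_zero, Nat.card_eq_zero] at hk
      rcases hk with h | h
      · exact h
      · exact absurd (inferInstance : Finite (sg q (cm V x))) (not_finite_iff_infinite.2 h)
    have h2 : q v ≠ 0 := fun h => h1.false ⟨v, hv, hv0, h⟩
    have h3 : ∀ c : ZMod 2, c ≠ 0 → c = 1 := by decide
    exact h3 _ h2
  · refine A.not_const hnd (by omega) (c := 0) fun v hv hv0 => ?_
    have h1 : sg q (cm V x) = (cm V x : Set V) \ {0} := by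
      refine Set.eq_of_subset_of_ncard_le hsub ?_ (Set.toFinite _)
      rw [← Nat.card_coe_set_eq, ← Nat.card_coe_set_eq, h16, hk]
    have h2 : v ∈ sg q (cm V x) := by rw [h1]; exact ⟨hv, hv0⟩
    exact h2.2.2

/-- an invariant totally singular subspace, elements of order 7 and cubes of elements of order 9 -/
theorem no_seven_cube {R : AddSubgroup V} (hR : R ≠ ⊥) (hti : ∀ u ∈ R, ∀ w ∈ R, pol q u w = 0)
    (hts : ∀ u ∈ R, q u = 0) {x y : G} (hx : orderOf x = 7) (hy : orderOf y = 9) (hinvx : ∀ v ∈ R, x • v ∈ R)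
    (hinvz : ∀ v ∈ R, y ^ 3 • v ∈ R) : False := by
  have hfin := A.fin
  obtain ⟨hC4, hCs⟩ := A.cube_nine hy
  set z := y ^ 3 with hz
  have hzo : orderOf z = 3 := by
    rw [hz, orderOf_pow' y (by norm_num), hy]
    decide
  have hz3 : z ^ 3 = 1 := by rw [← hzo, pow_orderOf_eq_one]
  obtain ⟨k, hk, hk2⟩ := A.exists_card R
  have hle := A.iso_le R hti
  have h3 : 3 ∣ Nat.card ((R : Set V) \ {0} : Set V) := by
    refine prime_dvd Nat.prime_three hzo _ ?_ ?_
    · rintro v ⟨hv1, hv2⟩
      exact ⟨hinvz v hv1, fun h => hv2 ((smul_eq_zero_iff_eq z).1 h)⟩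
    · rintro v ⟨hv1, hv2⟩ h
      exact hv2 (hCs v h (hts v hv1))
  rw [Nat.card_coe_set_eq, Set.ncard_sdiff_singleton_of_mem R.zero_mem, ← Nat.card_coe_set_eq] at h3
  have h2 : Nat.card (R : Set V) = Nat.card R := rfl
  rw [h2, hk2] at h3
  rw [hk2] at hle
  have hk0 : k ≠ 0 := by
    rintro rfl
    exact hR (AddSubgroup.eq_bot_of_card_eq _ (by rw [hk2, pow_zero]))
  rcases num_d hk hk0 hle h3 with rfl | rfl
  · -- four vectors
    have hx7 : x ^ 7 = 1 := by rw [← hx, pow_orderOf_eq_one]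
    obtain ⟨c, hc, hc2⟩ := A.exists_card (fx V x)
    have h4 := A.card_fx_mod (by norm_num) hx
    have h5 := A.fx_ne (A.ne_one (by norm_num) hx)
    rw [hc2] at h4 h5
    rcases num_c hc h4 h5 with rfl | rfl
    · obtain ⟨j, hj, hj2⟩ := A.exists_card (R ⊓ fx V x : AddSubgroup V)
      have h6 := A.card_mod (by norm_num) hx R hinvx
      rw [hk2, hj2] at h6
      have h7 : Nat.card (R ⊓ fx V x : AddSubgroup V) ≤ Nat.card R := AddSubgroup.card_le_of_le inf_le_left
      rw [hj2, hk2] at h7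
      have h8 := num_e hj h6 h7
      subst h8
      have h9 : (R ⊓ fx V x : AddSubgroup V) = R := AddSubgroup.eq_of_le_of_card_ge inf_le_left (by rw [hj2, hk2])
      have h10 : (R ⊓ fx V x : AddSubgroup V) = fx V x :=
        AddSubgroup.eq_of_le_of_card_ge inf_le_right (by rw [hj2, hc2])
      apply hR
      rw [eq_bot_iff]
      intro u hu
      refine A.nd_fx hx7 (by norm_num) (u := u) ?_ fun w hw => hti u hu w ?_
      · have : u ∈ (R ⊓ fx V x : AddSubgroup V) := by rw [h9]; exact hu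
        exact this.2
      · have : w ∈ (R ⊓ fx V x : AddSubgroup V) := by rw [h10]; exact hw
        exact this.1
    · have h6 := A.card_mul x
      rw [hc2] at h6
      exact A.no_eight hx (by omega)
  · -- sixteen vectors
    have hw : ∃ w ∈ fx V z, w ≠ 0 := by
      by_contra hcon
      push Not at hcon
      have : fx V z = ⊥ := by rw [eq_bot_iff]; intro v hv; exact hcon v hv
      rw [this, AddSubgroup.card_bot] at hC4
      norm_num at hC4
    obtain ⟨w, hw, hw0⟩ := hw
    have hwR : w ∉ R := fun h => hw0 (hCs w hw (hts w h))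
    have hBw : ∀ r ∈ R, pol q w r = 0 := by
      intro r hr
      have h1 : r + z • r + z • z • r = 0 := by
        have h4 : r + z • r + z • z • r ∈ R := R.add_mem (R.add_mem hr (hinvz r hr)) (hinvz _ (hinvz r hr))
        refine hCs _ ?_ (hts _ h4)
        rw [mem_fx, smul_add, smul_add, smul_smul z z (z • r), smul_smul (z * z) z r, ← pow_two, ← pow_succ, hz3, one_smul]
        abel
      have h4 : ∀ v : V, pol q w (z • v) = pol q w v := by
        intro v
        conv_lhs => rw [← mem_fx.1 hw]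
        exact A.pol_smul z w v
      have h5 : pol q w (r + z • r + z • z • r) = pol q w r + pol q w r + pol q w r := by
        rw [A.add_right, A.add_right, h4, h4, h4]
      rw [h1, A.pol_zero_right] at h5
      have h6 : ∀ c : ZMod 2, 0 = c + c + c → c = 0 := by decide
      exact h6 _ h5
    -- a larger isotropic subgroup
    have hle2 := A.iso_le (R ⊔ AddSubgroup.zmultiples w) (by
      intro u hu v hv
      obtain ⟨a, ha, b, hb, rfl⟩ := AddSubgroup.mem_sup.1 hu
      obtain ⟨c, hc, d, hd, rfl⟩ := AddSubgroup.mem_sup.1 hv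
      obtain ⟨s, rfl⟩ := AddSubgroup.mem_zmultiples_iff.1 hb
      obtain ⟨t, rfl⟩ := AddSubgroup.mem_zmultiples_iff.1 hd
      have hs : ∀ s : ℤ, s • w = 0 ∨ s • w = w := by
        intro s
        rcases Int.even_or_odd' s with ⟨m, rfl | rfl⟩
        · left
          rw [mul_comm, mul_smul, two_smul, A.two, smul_zero]
        · right
          rw [add_smul, one_smul, mul_comm, mul_smul, two_smul, A.two, smul_zero, zero_add]
      rw [A.add, A.add_right, A.add_right, hti a ha c hc]
      rcases hs s with h | h <;> rcases hs t with h' | h' <;> rw [h, h']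
      · rw [A.pol_zero_right, A.pol_zero_left, A.pol_zero_left]; rfl
      · rw [pol_comm a w, hBw a ha, A.pol_zero_left, A.pol_zero_left]; rfl
      · rw [A.pol_zero_right, hBw c hc, A.pol_zero_right]; rfl
      · rw [pol_comm a w, hBw a ha, hBw c hc, A.pol_self]; rfl)
    have h4 : Nat.card R < Nat.card (R ⊔ AddSubgroup.zmultiples w : AddSubgroup V) := by
      have h5 : R < R ⊔ AddSubgroup.zmultiples w := lt_of_le_of_ne le_sup_left fun h => hwR (by
        rw [h]; exact AddSubgroup.mem_sup_right (AddSubgroup.mem_zmultiples w))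
      have := Set.ncard_lt_ncard (SetLike.coe_ssubset_coe.2 h5) (Set.toFinite _)
      exact this
    rw [hk2] at h4
    omega

/-- **a 2-local subgroup fixes a totally isotropic subspace** -/
theorem exists_ti {P M : Subgroup G} (hP : IsPGroup 2 P) (hP1 : P ≠ ⊥) (hM : ∀ g ∈ M, ∀ p ∈ P, g⁻¹ * p * g ∈ P) :
    ∃ R : AddSubgroup V, R ≠ ⊥ ∧ (∀ g ∈ M, ∀ v ∈ R, g • v ∈ R) ∧ ∀ u ∈ R, ∀ w ∈ R, pol q u w = 0 := by
  have hfin := A.fin
  have h2 : Fact (Nat.Prime 2) := ⟨Nat.prime_two⟩
  let C : AddSubgroup V :=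
    { carrier := {v | ∀ p ∈ P, p • v = v}
      add_mem' := fun {a b} ha hb p hp => by rw [smul_add, ha p hp, hb p hp]
      zero_mem' := fun p _ => smul_zero p
      neg_mem' := fun {a} ha p hp => by rw [smul_neg, ha p hp] }
  let D : AddSubgroup V :=
    { carrier := {v | ∀ c ∈ C, pol q v c = 0}
      add_mem' := fun {a b} ha hb c hc => by rw [A.add, ha c hc, hb c hc, add_zero]
      zero_mem' := fun c _ => A.pol_zero_left c
      neg_mem' := fun {a} ha c hc => by rw [A.neg]; exact ha c hc }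
  have hCinv : ∀ g ∈ M, ∀ v ∈ C, g • v ∈ C := by
    intro g hg v hv p hp
    have h1 := hv _ (hM g hg p hp)
    rw [mul_smul, mul_smul, inv_smul_eq_iff] at h1
    exact h1
  have hDinv : ∀ g : G, (∀ c ∈ C, g⁻¹ • c ∈ C) → ∀ v ∈ D, g • v ∈ D := by
    intro g hg v hv c hc
    have h1 := hv _ (hg c hc)
    rw [← A.pol_smul g, smul_inv_smul] at h1
    exact h1
  refine ⟨C ⊓ D, ?_, ?_, fun u hu w hw => hu.2 w hw.1⟩
  · -- `P` acts on `D ≠ 0`
    have hD : ∃ d ∈ D, d ≠ 0 := by
      obtain ⟨p, hp, hp1⟩ := (Subgroup.bot_or_exists_ne_one P).resolve_left hP1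
      have h3 : ∃ v : V, p • v ≠ v := by
        by_contra hcon
        push Not at hcon
        exact hp1 (A.faith p hcon)
      obtain ⟨v, hv⟩ := h3
      refine ⟨p • v + v, fun c hc => ?_, fun h => hv (A.add_eq_zero.1 h)⟩
      rw [pol_comm]
      exact A.pol_fx_cm (g := p) (mem_fx.2 (hc p hp)) (mem_cm.2 ⟨v, rfl⟩)
    have hPD : ∀ p ∈ P, ∀ v ∈ D, p • v ∈ D := fun p hp => hDinv p fun c hc => by
      rw [(hc _ (P.inv_mem hp))]
      exact hc
    let : MulAction P (D : Set V) := setAct P (D : Set V) hPD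
    have hcard : 2 ∣ Nat.card (D : Set V) := by
      obtain ⟨k, hk, hk2⟩ := A.exists_card D
      have h4 : Nat.card (D : Set V) = Nat.card D := rfl
      rw [h4, hk2]
      refine dvd_pow_self 2 ?_
      rintro rfl
      obtain ⟨d, hd, hd0⟩ := hD
      have : D = ⊥ := AddSubgroup.eq_bot_of_card_eq _ (by rw [hk2, pow_zero])
      rw [this] at hd
      exact hd0 hd
    obtain ⟨b, hb, hb0⟩ := hP.exists_fixed_point_of_prime_dvd_card_of_fixed_point (D : Set V) hcard
      (a := ⟨0, D.zero_mem⟩) (fun p => Subtype.ext (smul_zero (p : G)))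
    intro h
    have h5 : (b : V) ∈ (C ⊓ D : AddSubgroup V) := by
      refine ⟨fun p hp => ?_, b.2⟩
      exact congrArg Subtype.val (hb ⟨p, hp⟩)
    rw [h] at h5
    exact hb0 (Subtype.ext h5.symm)
  · intro g hg v hv
    exact ⟨hCinv g hg v hv.1, hDinv g (fun c hc => hCinv g⁻¹ (M.inv_mem hg) c hc) v hv.2⟩

end Oct

end Cfsg.Agent.H547.Der.Oc
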