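import Cfsg.Agent.H547.Der.OctC
import Mathlib.GroupTheory.GroupAction.ConjAct

/-!
# Quadratic space with 256 vectors: subgroups of order 25 (helper547, for S3500)

`no_E` : no element of order 3 normalizes a subgroup of order 25.
-/

set_option autoImplicit false

namespace Cfsg.Agent.H547.Der.Oc

open MulAction

variable {G V : Type*} [Group G] [AddCommGroup V] [DistribMulAction G V] {q : V → ZMod 2}

theorem fx_le_pow (g : G) (n : ℕ) : fx V g ≤ fx V (g ^ n) := fun _ hv => Oct.pow_mem_fx hv n

theorem card_fx_conj (g h : G) : Nat.card (fx V (g * h * g⁻¹)) = Nat.card (fx V h) := by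
  refine Nat.card_congr
    { toFun := fun v => ⟨g⁻¹ • (v : V), ?_⟩
      invFun := fun v => ⟨g • (v : V), ?_⟩
      left_inv := fun v => Subtype.ext (smul_inv_smul _ _)
      right_inv := fun v => Subtype.ext (inv_smul_smul _ _) }
  · have h1 := mem_fx.1 v.2
    rw [mem_fx]
    rw [mul_smul, mul_smul] at h1
    rw [eq_inv_smul_iff]
    exact h1
  · have h1 := mem_fx.1 v.2
    rw [mem_fx, mul_smul, mul_smul, inv_smul_smul, h1]

namespace Oct

variable (A : Oct G V q)

include A

theorem finG : Finite G := by
  have := A.fin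
  refine Finite.of_injective (fun (g : G) (v : V) => g • v) fun g h hgh => ?_
  have h1 : g⁻¹ * h = 1 := A.faith _ fun v => by
    have h2 : g • v = h • v := congrFun hgh v
    rw [mul_smul, ← h2, inv_smul_smul]
  rwa [inv_mul_eq_one] at h1

/-- no elements of order 25 -/
theorem order_twentyfive {y : G} (hy : orderOf y = 25) : False := by
  have hfin := A.fin
  have hz : orderOf (y ^ 5) = 5 := by
    rw [orderOf_pow' y (by norm_num), hy]
    decide
  have h1 : 5 ^ 2 ∣ Nat.card ((fx V (y ^ 5) : Set V)ᶜ : Set V) := by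
    refine psq_dvd (p := 5) (by norm_num) (y := y) ?_ _ ?_ ?_
    · rw [← orderOf_dvd_iff_pow_eq_one, hy]; norm_num
    · intro v hv hv2
      apply hv
      have h2 : y ^ 5 • y • v = y • v := hv2
      have h3 : y ^ 5 • y • v = y • y ^ 5 • v := by
        rw [smul_smul, smul_smul, ← pow_succ, ← pow_succ']
      rw [h3] at h2
      exact MulAction.injective y h2
    · intro v hv hv2
      exact hv hv2
  rw [A.card_compl] at h1
  rcases A.fx_five hz with h | h <;> rw [h] at h1 <;> norm_num at h1

theorem order_of_mem {E : Subgroup G} (hE : Nat.card E = 25) {e : G} (he : e ∈ E) (he1 : e ≠ 1) : orderOf e = 5 := by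
  have h1 : orderOf e ∣ 5 ^ 2 := by
    have := Subgroup.orderOf_dvd_natCard E he
    rw [hE] at this
    simpa using this
  obtain ⟨k, hk, hk2⟩ := (Nat.dvd_prime_pow (by norm_num)).1 h1
  interval_cases k
  · rw [pow_zero, orderOf_eq_one_iff] at hk2
    exact absurd hk2 he1
  · rw [hk2]; norm_num
  · exact (A.order_twentyfive (by rw [hk2]; norm_num)).elim

/-- the number of elements of a subgroup of order 25 with 16 fixed vectors -/
theorem card_F {E : Subgroup G} (hE : Nat.card E = 25) :
    Nat.card {e : G // e ∈ E ∧ Nat.card (fx V e) = 16} = 8 ∧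
    Nat.card {e : G // e ∈ E ∧ e ≠ 1 ∧ Nat.card (fx V e) = 1} = 16 := by
  classical
  have hfin := A.fin
  have hfE : Finite E := Nat.finite_of_card_ne_zero (by rw [hE]; norm_num)
  have : Fintype E := Fintype.ofFinite E
  have : Fintype V := Fintype.ofFinite V
  have ho := fun {e : G} => A.order_of_mem (e := e) hE
  have hc1 : Nat.card (fx V (1 : G)) = 256 := by
    rw [← A.card]
    refine Nat.card_congr (Equiv.subtypeUnivEquiv fun v => ?_)
    exact one_smul G v
  -- the sets
  set F := {e : E | Nat.card (fx V (e : G)) = 16} with hF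
  set F1 := {e : E | (e : G) ≠ 1 ∧ Nat.card (fx V (e : G)) = 1} with hF1
  have hFc : Nat.card {e : G // e ∈ E ∧ Nat.card (fx V e) = 16} = Nat.card F := by
    refine Nat.card_congr
      { toFun := fun e => ⟨⟨e, e.2.1⟩, e.2.2⟩
        invFun := fun e => ⟨e.1, e.1.2, e.2⟩
        left_inv := fun _ => rfl
        right_inv := fun _ => rfl }
  have hF1c : Nat.card {e : G // e ∈ E ∧ e ≠ 1 ∧ Nat.card (fx V e) = 1} = Nat.card F1 := by
    refine Nat.card_congr
      { toFun := fun e => ⟨⟨e, e.2.1⟩, e.2.2⟩
        invFun := fun e => ⟨e.1, e.1.2, e.2⟩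
        left_inv := fun _ => rfl
        right_inv := fun _ => rfl }
  -- Burnside
  have hb := MulAction.sum_card_fixedBy_eq_card_orbits_mul_card_group E V
  have hb1 : ∀ e : E, Fintype.card (fixedBy V e) =
      1 + 15 * (if Nat.card (fx V (e : G)) = 16 then 1 else 0) + (if e = 1 then 255 else 0) := by
    intro e
    have h1 : Fintype.card (fixedBy V e) = Nat.card (fx V (e : G)) := by
      rw [← Nat.card_eq_fintype_card]
      rfl
    rw [h1]
    by_cases he : e = 1
    · subst he
      rw [show ((1 : E) : G) = 1 from rfl, hc1]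
      simp
    · have h2 : (e : G) ≠ 1 := fun h => he (Subtype.ext h)
      rcases A.fx_five (ho e.2 h2) with h | h <;> rw [h] <;> simp [he]
  have hsum : ∑ e : E, Fintype.card (fixedBy V e) = 280 + 15 * Nat.card F := by
    rw [Finset.sum_congr rfl fun e _ => hb1 e, Finset.sum_add_distrib, Finset.sum_add_distrib, ← Finset.mul_sum,
      Finset.sum_ite_eq' Finset.univ (1 : E)]
    have h2 : ∑ e : E, (if Nat.card (fx V (e : G)) = 16 then 1 else 0) = Nat.card F := by
      rw [← Finset.card_filter, ← Fintype.card_subtype, ← Nat.card_eq_fintype_card]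
      rfl
    rw [h2]
    simp only [Finset.sum_const, Finset.card_univ, smul_eq_mul, mul_one, Finset.mem_univ, if_true]
    rw [← Nat.card_eq_fintype_card, hE]
    omega
  rw [hsum] at hb
  have h25 : 25 ∣ 280 + 15 * Nat.card F := by
    rw [hb, ← Nat.card_eq_fintype_card (α := E), hE]
    exact Dvd.intro_left _ rfl
  -- the squaring map
  have h5 : ∀ e : E, e ^ 5 = 1 := by
    intro e
    by_cases he : e = 1
    · rw [he, one_pow]
    · have h2 : (e : G) ≠ 1 := fun h => he (Subtype.ext h)
      apply Subtype.ext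
      show (e : G) ^ 5 = 1
      rw [← ho e.2 h2, pow_orderOf_eq_one]
  let σ : Equiv.Perm E :=
    { toFun := fun e => e ^ 2
      invFun := fun e => e ^ 3
      left_inv := fun e => by
        show (e ^ 2) ^ 3 = e
        rw [← pow_mul, show 2 * 3 = 5 + 1 from rfl, pow_succ, h5, one_mul]
      right_inv := fun e => by
        show (e ^ 3) ^ 2 = e
        rw [← pow_mul, show 3 * 2 = 5 + 1 from rfl, pow_succ, h5, one_mul] }
  have hσ : ∀ e : E, σ e = e ^ 2 := fun _ => rfl
  have h4 : 2 ^ 2 ∣ Nat.card F := by
    refine psq_dvd (G := Equiv.Perm E) Nat.prime_two (y := σ) ?_ F ?_ ?_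
    · ext e
      have h6 : (σ ^ (2 ^ 2)) e = e := by
        show σ (σ (σ (σ e))) = e
        rw [hσ, hσ, hσ, hσ, ← pow_mul, ← pow_mul, ← pow_mul, show 2 * 2 * 2 * 2 = 5 * 3 + 1 from rfl, pow_succ, pow_mul,
          h5, one_pow, one_mul]
      rw [h6]
      rfl
    · intro e he
      have h6 : Nat.card (fx V (e : G)) = 16 := he
      have h7 : (e : G) ≠ 1 := by
        intro h
        rw [h, hc1] at h6
        norm_num at h6
      have h8 : (e : G) ^ 2 ≠ 1 := by
        intro h
        have := orderOf_dvd_of_pow_eq_one h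
        rw [ho e.2 h7] at this
        norm_num at this
      have h9 : Nat.card (fx V ((e : G) ^ 2)) = 16 := by
        rcases A.fx_five (ho (E.pow_mem e.2 2) h8) with h | h
        · have h10 : Nat.card (fx V (e : G)) ≤ Nat.card (fx V ((e : G) ^ 2)) :=
            Nat.card_le_card_of_injective (AddSubgroup.inclusion (fx_le_pow (e : G) 2))
              (AddSubgroup.inclusion_injective _)
          omega
        · exact h
      exact h9
    · intro e he hfix
      have h6 : Nat.card (fx V (e : G)) = 16 := he
      have h7 : (e : G) ≠ 1 := by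
        intro h
        rw [h, hc1] at h6
        norm_num at h6
      have h8 : σ (σ e) = e := hfix
      rw [hσ, hσ, ← pow_mul] at h8
      have h9 : e ^ 3 = 1 := by
        have h10 : e ^ (3 + 1) = e := h8
        rw [pow_succ] at h10
        exact mul_eq_right.1 h10
      have h10 : (e : G) ^ 3 = 1 := congrArg Subtype.val h9
      have := orderOf_dvd_of_pow_eq_one h10
      rw [ho e.2 h7] at this
      norm_num at this
  -- total
  have htot : Nat.card F + Nat.card F1 = 24 := by
    have h6 : Nat.card F + Nat.card F1 = Nat.card ({1}ᶜ : Set E) := by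
      have h7 : ({1}ᶜ : Set E) = F ∪ F1 := by
        ext e
        simp only [Set.mem_compl_iff, Set.mem_singleton_iff, Set.mem_union]
        constructor
        · intro he
          have h2 : (e : G) ≠ 1 := fun h => he (Subtype.ext h)
          rcases A.fx_five (ho e.2 h2) with h | h
          · exact Or.inr ⟨h2, h⟩
          · exact Or.inl h
        · rintro (he | he) h
          · have h8 : Nat.card (fx V (e : G)) = 16 := he
            rw [h, show ((1 : E) : G) = 1 from rfl, hc1] at h8
            norm_num at h8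
          · exact he.1 (by rw [h]; rfl)
      rw [h7, Nat.card_coe_set_eq, Nat.card_coe_set_eq, Nat.card_coe_set_eq, Set.ncard_union_eq]
      rw [Set.disjoint_left]
      intro e he he2
      have h8 : Nat.card (fx V (e : G)) = 16 := he
      rw [he2.2] at h8
      norm_num at h8
    rw [h6, Nat.card_coe_set_eq, Set.ncard_compl, Set.ncard_singleton, hE]
  rw [hFc, hF1c]
  obtain ⟨k, hk⟩ := h4
  obtain ⟨l, hl⟩ := h25
  constructor
  · omega
  · omega

/-- **no element of order 3 normalizes a subgroup of order 25** -/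
theorem no_E {E : Subgroup G} (hE : Nat.card E = 25) {g : G} (hg : orderOf g = 3) (hn : ∀ e ∈ E, g * e * g⁻¹ ∈ E) :
    False := by
  classical
  have hfin := A.fin
  obtain ⟨hF, hF1⟩ := A.card_F hE
  have hgc : orderOf (ConjAct.toConjAct g) = 3 := by
    rw [← hg]
    exact MulEquiv.orderOf_eq ConjAct.toConjAct g
  have hfG : Finite G := A.finG
  -- a fixed element in a subset of size prime to 3
  have key : ∀ (Y : Set G), Y ⊆ E → (∀ e ∈ Y, g * e * g⁻¹ ∈ Y) → ¬ 3 ∣ Nat.card Y → ∃ e ∈ Y, g * e = e * g := by
    intro Y hYE hY h3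
    by_contra hcon
    push Not at hcon
    apply h3
    refine prime_dvd Nat.prime_three hgc Y ?_ ?_
    · intro e he
      rw [ConjAct.smul_def]
      exact hY e he
    · intro e he h
      apply hcon e he
      rw [ConjAct.smul_def, ConjAct.ofConjAct_toConjAct, mul_inv_eq_iff_eq_mul] at h
      exact h
  obtain ⟨e, he, hge⟩ := key {e | e ∈ E ∧ Nat.card (fx V e) = 16} (fun e he => he.1)
    (fun e he => ⟨hn e he.1, by rw [card_fx_conj]; exact he.2⟩) (by
      have : Nat.card ({e | e ∈ E ∧ Nat.card (fx V e) = 16} : Set G) = 8 := hF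
      rw [this]; norm_num)
  obtain ⟨f, hf, hgf⟩ := key {e | e ∈ E ∧ e ≠ 1 ∧ Nat.card (fx V e) = 1} (fun e he => he.1)
    (fun e he => ⟨hn e he.1, by
      intro h
      apply he.2.1
      rw [conj_eq_one_iff] at h
      exact h, by rw [card_fx_conj]; exact he.2.2⟩) (by
      have : Nat.card ({e | e ∈ E ∧ e ≠ 1 ∧ Nat.card (fx V e) = 1} : Set G) = 16 := hF1
      rw [this]; norm_num)
  have h1 : e ≠ 1 := by
    rintro rfl
    have h2 : Nat.card (fx V (1 : G)) = 16 := he.2
    have hc1 : Nat.card (fx V (1 : G)) = 256 := by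
      rw [← A.card]
      exact Nat.card_congr (Equiv.subtypeUnivEquiv fun v => one_smul G v)
    rw [hc1] at h2
    norm_num at h2
  rcases A.three_five hg (A.order_of_mem hE he.1 h1) hge with ⟨h, -⟩ | ⟨-, h, -⟩
  · rw [he.2] at h
    norm_num at h
  · rcases A.three_five hg (A.order_of_mem hE hf.1 hf.2.1) hgf with ⟨-, h2⟩ | ⟨h2, -, -⟩
    · rw [h] at h2
      norm_num at h2
    · rw [hf.2.2] at h2
      norm_num at h2

end Oct

end Cfsg.Agent.H547.Der.Oc
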