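import Cfsg.Agent.H547.Der.OctInst

/-!
# `Ω⁺₈(2)`: the explicit elements (helper547, for S3500)

`z1` (order 15, `z1 ^ 3` fixes 16 vectors), `z2` (order 15, `z2 ^ 3` fixes only 0), `g4` (order 4, `g4 ^ 2` has a
totally isotropic, nonsingular fixed space), `w9` (order 9).
-/

set_option autoImplicit false

namespace Cfsg.Agent.H547.Der.Eight

open Subgroup Cfsg Cfsg.Agent.H503.El.O8 Cfsg.Agent.H547.Der.Oc

/-- elements -/
def z1 : S8 := comOf Za Zb Za_sq Zb_sq Za_iso Zb_iso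
/-- elements -/
def z2 : S8 := comOf Wa Wb Wa_sq Wb_sq Wa_iso Wb_iso
/-- elements -/
def g4 : S8 := comOf Ga Gb Ga_sq Gb_sq Ga_iso Gb_iso
/-- elements -/
def w9 : S8 := comOf Na Nb Na_sq Nb_sq Na_iso Nb_iso

theorem rho_z1 : rho z1 = Z1 := by
  have h : rho z1 = Za * Zb * Za * Zb := rho_comOf _ _ _ _ _ _
  rw [h, mul_assoc (Za * Zb), Z_ab, Z_cc]

theorem rho_z2 : rho z2 = W1 := by
  have h : rho z2 = Wa * Wb * Wa * Wb := rho_comOf _ _ _ _ _ _
  rw [h, mul_assoc (Wa * Wb), W_ab, W_cc]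

theorem rho_g4 : rho g4 = G1 := by
  have h : rho g4 = Ga * Gb * Ga * Gb := rho_comOf _ _ _ _ _ _
  rw [h, mul_assoc (Ga * Gb), G_ab, G_cc]

theorem rho_w9 : rho w9 = N1 := by
  have h : rho w9 = Na * Nb * Na * Nb := rho_comOf _ _ _ _ _ _
  rw [h, mul_assoc (Na * Nb), N_ab, N_cc]

theorem orderOf_of {z : S8} {A2 A3 A5 A6 A9 A10 : M8} (h1 : rho z * rho z = A2 ∧ rho z * A2 = A3 ∧ A2 * A3 = A5)
    (h2 : A3 * A3 = A6 ∧ A3 * A6 = A9 ∧ A6 * A9 = 1 ∧ A5 * A5 = A10 ∧ A5 * A10 = 1) (h3 : A3 ≠ 1 ∧ A5 ≠ 1) :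
    orderOf z = 15 ∧ rho (z ^ 3) = A3 := by
  have e2 : rho (z ^ 2) = A2 := by rw [pow_two, map_mul, h1.1]
  have e3 : rho (z ^ 3) = A3 := by rw [pow_succ', map_mul, e2, h1.2.1]
  have e5 : rho (z ^ 5) = A5 := by rw [show 5 = 2 + 3 from rfl, pow_add, map_mul, e2, e3, h1.2.2]
  have e10 : rho (z ^ 10) = A10 := by rw [show 10 = 5 + 5 from rfl, pow_add, map_mul, e5, h2.2.2.2.1]
  have e15 : rho (z ^ 15) = 1 := by rw [show 15 = 5 + 10 from rfl, pow_add, map_mul, e5, e10, h2.2.2.2.2]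
  refine ⟨?_, e3⟩
  refine orderOf_eq_of_pow_and_pow_div_prime (by norm_num) (rho_injective (by rw [e15, map_one])) ?_
  intro p hp hpd h
  have hp' : p = 3 ∨ p = 5 := by
    have h4 : p ∣ 3 * 5 := hpd
    rcases (Nat.Prime.dvd_mul hp).1 h4 with h5 | h5
    · exact Or.inl ((Nat.prime_dvd_prime_iff_eq hp Nat.prime_three).1 h5)
    · exact Or.inr ((Nat.prime_dvd_prime_iff_eq hp Nat.prime_five).1 h5)
  rcases hp' with rfl | rfl
  · apply h3.2
    rw [← e5, show 5 = 15 / 3 by norm_num, h, map_one]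
  · apply h3.1
    rw [← e3, show 3 = 15 / 5 by norm_num, h, map_one]

theorem order_z1 : orderOf z1 = 15 := (orderOf_of (by rw [rho_z1]; exact Z_eq) Z_eq2 Z_ne).1
theorem order_z2 : orderOf z2 = 15 := (orderOf_of (by rw [rho_z2]; exact W_eq) W_eq2 W_ne).1

theorem card_fx_eq {g : S8} {A : M8} (h : rho g = A) {n : ℕ}
    (hn : (Finset.univ.filter fun v : I8 → ZMod 2 => A.mulVec v = v).card = n) : Nat.card (fx V8 g) = n := by
  have h1 : Nat.card (fx V8 g) = Nat.card {v : I8 → ZMod 2 // A.mulVec v = v} := by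
    rw [← h]
    rfl
  rw [h1, Nat.card_eq_fintype_card, Fintype.card_subtype]
  exact hn

theorem card_z1 : Nat.card (fx V8 (z1 ^ 3)) = 16 :=
  card_fx_eq (orderOf_of (by rw [rho_z1]; exact Z_eq) Z_eq2 Z_ne).2 Z_card

theorem card_z2 : Nat.card (fx V8 (z2 ^ 3)) = 1 :=
  card_fx_eq (orderOf_of (by rw [rho_z2]; exact W_eq) W_eq2 W_ne).2 W_card

theorem rho_g4_sq : rho (g4 ^ 2) = G2 := by rw [pow_two, map_mul, rho_g4, G_eq.1]

theorem order_g4 : orderOf g4 = 4 := by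
  have h4' : g4 ^ (2 + 2) = 1 := rho_injective (by
    rw [pow_add, map_mul, rho_g4_sq, G_eq.2.1, map_one])
  have h4 : g4 ^ 4 = 1 := h4'
  have h2 : g4 ^ 2 ≠ 1 := fun h => G_eq.2.2 (by rw [← rho_g4_sq, h, map_one])
  exact orderOf_eq_prime_pow (p := 2) (n := 1) (by simpa using h2) (by simpa using h4)

theorem order_g4_sq : orderOf (g4 ^ 2) = 2 := by
  rw [orderOf_pow' g4 (by norm_num), order_g4]
  decide

theorem order_w9 : orderOf w9 = 9 := by
  have e2 : rho (w9 ^ 2) = N2 := by rw [pow_two, map_mul, rho_w9, N_eq.1]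
  have e3 : rho (w9 ^ 3) = N3 := by rw [pow_succ', map_mul, e2, rho_w9, N_eq.2.1]
  have e6 : rho (w9 ^ 6) = N6 := by rw [show 6 = 3 + 3 from rfl, pow_add, map_mul, e3, N_eq.2.2.1]
  have e9 : w9 ^ 9 = 1 := rho_injective (by
    rw [show 9 = 3 + 6 from rfl, pow_add, map_mul, e3, e6, N_eq.2.2.2.1, map_one])
  have h3 : w9 ^ 3 ≠ 1 := fun h => N_eq.2.2.2.2 (by rw [← e3, h, map_one])
  exact orderOf_eq_prime_pow (p := 3) (n := 1) (by simpa using h3) (by simpa using e9)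

/-- the fixed space of the involution `g4 ^ 2` -/
theorem fx_t : (∀ u ∈ fx V8 (g4 ^ 2), ∀ w ∈ fx V8 (g4 ^ 2), pol q8 u w = 0) ∧ ∃ u ∈ fx V8 (g4 ^ 2), q8 u ≠ 0 := by
  have h16 : Nat.card (fx V8 (g4 ^ 2)) = 16 := card_fx_eq rho_g4_sq G_card
  constructor
  · have h1 := oct.card_mul (g4 ^ 2)
    rw [h16] at h1
    have h2 : Nat.card (cm V8 (g4 ^ 2)) = 16 := by omega
    have h3 : cm V8 (g4 ^ 2) ≤ fx V8 (g4 ^ 2) := by
      intro u hu
      obtain ⟨v, rfl⟩ := mem_cm.1 hu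
      rw [mem_fx, smul_add, smul_smul, ← pow_two, ← pow_mul, show 2 * 2 = orderOf g4 by rw [order_g4],
        pow_orderOf_eq_one, one_smul, add_comm]
    have h4 : cm V8 (g4 ^ 2) = fx V8 (g4 ^ 2) := by
      apply SetLike.coe_injective
      refine Set.eq_of_subset_of_ncard_le h3 ?_ (Set.toFinite _)
      rw [← Nat.card_coe_set_eq, ← Nat.card_coe_set_eq]
      have e1 : Nat.card (fx V8 (g4 ^ 2) : Set V8) = Nat.card (fx V8 (g4 ^ 2)) := rfl
      have e2 : Nat.card (cm V8 (g4 ^ 2) : Set V8) = Nat.card (cm V8 (g4 ^ 2)) := rfl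
      rw [e1, e2, h16, h2]
    intro u hu w hw
    rw [← h4] at hw
    exact oct.pol_fx_cm hu hw
  · obtain ⟨v, hv, hq⟩ := G_q
    refine ⟨show V8 from v, ?_, hq⟩
    have h1 : mv (rho (g4 ^ 2)) (show V8 from v) = (show V8 from v) := by
      rw [rho_g4_sq]
      exact hv
    exact h1

end Cfsg.Agent.H547.Der.Eight
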