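import Cfsg.Agent.H547.Der.OctL

/-!
# Quadratic space with 256 vectors: 2-local subgroups, centralizers of elements of order 4, subgroups of order 9 (helper547)
-/

set_option autoImplicit false

namespace Cfsg.Agent.H547.Der.Oc

open MulAction Subgroup

variable {G V : Type*} [Group G] [AddCommGroup V] [DistribMulAction G V] {q : V → ZMod 2}

theorem z_aux : ∀ a b : ZMod 2, b ≠ 0 → (a + b + 0 = 0 ↔ a ≠ 0) := by decide

namespace Oct

variable (A : Oct G V q)

include A

/-- **a 2-local subgroup leaves a totally singular subspace invariant** (no transvections) -/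
theorem exists_ts {P M : Subgroup G} (hP : IsPGroup 2 P) (hPM : P ≤ M) (hP1 : P ≠ ⊥)
    (hM : ∀ g ∈ M, ∀ p ∈ P, g⁻¹ * p * g ∈ P) (h128 : ∀ p ∈ P, Nat.card (fx V p) ≠ 128) :
    ∃ U : AddSubgroup V, U ≠ ⊥ ∧ (∀ g ∈ M, ∀ v ∈ U, g • v ∈ U) ∧ ∀ u ∈ U, q u = 0 := by
  have hfin := A.fin
  have h2 : Fact (Nat.Prime 2) := ⟨Nat.prime_two⟩
  obtain ⟨R, hR, hinv, hti⟩ := A.exists_ti (P := P) (M := M) hP hP1 hM
  set R0 := A.sing0 R hti with hR0
  have hinv0 : ∀ g ∈ M, ∀ v ∈ R0, g • v ∈ R0 := fun g hg v hv => ⟨hinv g hg v hv.1, by rw [A.inv]; exact hv.2⟩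
  by_cases h0 : R0 ≠ ⊥
  · exact ⟨R0, h0, hinv0, fun u hu => hu.2⟩
  push Not at h0
  obtain ⟨d, hd, hd0⟩ := R.ne_bot_iff_exists_ne_zero.1 hR |> fun ⟨d, hd⟩ =>
    (⟨d.1, d.2, fun h => hd (Subtype.ext h)⟩ : ∃ d : V, d ∈ R ∧ d ≠ 0)
  have hqd : q d ≠ 0 := fun h => hd0 (by
    have h1 : d ∈ R0 := ⟨hd, h⟩
    rw [h0] at h1
    exact h1)
  have hMd : ∀ g ∈ M, g • d = d := by
    intro g hg
    have h1 : g • d + d ∈ R0 := by
      refine ⟨R.add_mem (hinv g hg d hd) hd, ?_⟩
      rw [q_add (q := q), A.inv, hti _ (hinv g hg d hd) d hd, add_zero]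
      exact zmod_ne hqd hqd
    rw [h0] at h1
    exact A.add_eq_zero.1 h1
  let C : AddSubgroup V :=
    { carrier := {v | (∀ p ∈ P, p • v = v) ∧ pol q v d = 0}
      add_mem' := fun {a b} ha hb => ⟨fun p hp => by rw [smul_add, ha.1 p hp, hb.1 p hp], by
        rw [A.add, ha.2, hb.2, add_zero]⟩
      zero_mem' := ⟨fun p _ => smul_zero p, A.pol_zero_left d⟩
      neg_mem' := fun {a} ha => ⟨fun p hp => by rw [smul_neg, ha.1 p hp], by rw [A.neg]; exact ha.2⟩ }
  have hdC : d ∈ C := ⟨fun p hp => hMd p (hPM hp), A.pol_self d⟩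
  have hCinv : ∀ g ∈ M, ∀ v ∈ C, g • v ∈ C := by
    intro g hg v hv
    refine ⟨fun p hp => ?_, ?_⟩
    · have h1 := hv.1 _ (hM g hg p hp)
      rw [mul_smul, mul_smul, inv_smul_eq_iff] at h1
      exact h1
    · have h1 := A.pol_smul g v d
      rw [hMd g hg] at h1
      rw [h1]
      exact hv.2
  set E := A.perp C with hE
  have hEinv : ∀ g ∈ M, ∀ v ∈ E, g • v ∈ E := fun g hg v hv =>
    A.smul_mem_perp (fun w hw => hCinv g⁻¹ (M.inv_mem hg) w hw) hv
  have hEd : ∀ v ∈ E, pol q v d = 0 := fun v hv => hv d hdC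
  -- the invariant subgroup
  let U : AddSubgroup V :=
    { carrier := {v | v ∈ C ∧ v ∈ E ∧ q v = 0}
      add_mem' := fun {a b} ha hb => ⟨C.add_mem ha.1 hb.1, E.add_mem ha.2.1 hb.2.1, by
        rw [q_add (q := q), ha.2.2, hb.2.2, ha.2.1 b hb.1]; rfl⟩
      zero_mem' := ⟨C.zero_mem, E.zero_mem, A.zero⟩
      neg_mem' := fun {a} ha => by rw [A.neg]; exact ha }
  refine ⟨U, ?_, fun g hg v hv => ⟨hCinv g hg v hv.1, hEinv g hg v hv.2.1, by rw [A.inv]; exact hv.2.2⟩,
    fun u hu => hu.2.2⟩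
  intro hU
  set E0 : Set V := {v | v ∈ E ∧ q v = 0} with hE0
  have hPE0 : ∀ p ∈ P, ∀ v ∈ E0, p • v ∈ E0 := fun p hp v hv =>
    ⟨hEinv p (hPM hp) v hv.1, by rw [A.inv]; exact hv.2⟩
  let : MulAction P E0 := setAct P E0 hPE0
  have hodd : ¬ 2 ∣ Nat.card E0 := by
    intro hcard
    obtain ⟨b, hb, hb0⟩ := hP.exists_fixed_point_of_prime_dvd_card_of_fixed_point E0 hcard
      (a := ⟨0, E.zero_mem, A.zero⟩) (fun p => Subtype.ext (smul_zero (p : G)))
    have h5 : (b : V) ∈ U := by
      refine ⟨⟨fun p hp => ?_, hEd _ b.2.1⟩, b.2.1, b.2.2⟩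
      exact congrArg Subtype.val (hb ⟨p, hp⟩)
    rw [hU] at h5
    exact hb0 (Subtype.ext h5.symm)
  have hdE : d ∈ E := fun w hw => by rw [pol_comm]; exact hw.2
  have h3 : Nat.card E0 + Nat.card E0 = Nat.card E := by
    have h4 : Nat.card E0 = Nat.card {v : V | v ∈ E ∧ q v ≠ 0} := by
      refine Nat.card_congr
        { toFun := fun v => ⟨v + d, E.add_mem v.2.1 hdE, ?_⟩
          invFun := fun v => ⟨v + d, E.add_mem v.2.1 hdE, ?_⟩
          left_inv := fun v => Subtype.ext (by
            show (v : V) + d + d = v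
            rw [add_assoc, A.two, add_zero])
          right_inv := fun v => Subtype.ext (by
            show (v : V) + d + d = v
            rw [add_assoc, A.two, add_zero]) }
      · rw [q_add (q := q), hEd _ v.2.1]
        intro h
        exact (z_aux _ _ hqd).1 h v.2.2
      · rw [q_add (q := q), hEd _ v.2.1]
        exact (z_aux _ _ hqd).2 v.2.2
    have h5 : Nat.card E0 + Nat.card {v : V | v ∈ E ∧ q v ≠ 0} = Nat.card (E : Set V) := by
      rw [Nat.card_coe_set_eq, Nat.card_coe_set_eq, Nat.card_coe_set_eq, ← Set.ncard_union_eq]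
      · congr 1
        ext v
        simp only [Set.mem_union, Set.mem_ofPred_eq, hE0, SetLike.mem_coe]
        tauto
      · rw [Set.disjoint_left]
        rintro v ⟨-, h⟩ ⟨-, h'⟩
        exact h' h
    rw [← h4] at h5
    exact h5
  have h4 : Nat.card E = 2 := by
    obtain ⟨k, hk, hk2⟩ := A.exists_card E
    rw [hk2] at h3 ⊢
    have : k = 1 := by
      rcases Nat.lt_or_ge k 2 with h | h
      · interval_cases k
        · omega
        · rfl
      · exfalso
        apply hodd
        obtain ⟨j, rfl⟩ := Nat.exists_eq_add_of_le h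
        rw [pow_add] at h3
        omega
    rw [this]
    norm_num
  have h5 := A.card_perp C
  rw [← hE, h4] at h5
  obtain ⟨p, hp, hp1⟩ := (Subgroup.bot_or_exists_ne_one P).resolve_left hP1
  have h6 : Nat.card C ≤ Nat.card (fx V p) := AddSubgroup.card_le_of_le fun v hv => hv.1 p hp
  have h7 := A.fx_ne hp1
  obtain ⟨k, hk, hk2⟩ := A.exists_card (fx V p)
  refine h128 p hp ?_
  rw [hk2] at h6 h7 ⊢
  interval_cases k <;> omega

theorem uni {a : G} (ha : orderOf a = 3) {w : V} (h : a • (a • w + w) = a • w + w) : a • w = w := by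
  have ha3 := A.pow_three ha
  have h1 : a • a • w = w := by
    rw [smul_add] at h
    have h2 : a • a • w + a • w + (a • w + w) = 0 := by rw [h, A.two]
    have h3 : a • a • w + w = 0 := by
      calc a • a • w + w = a • a • w + a • w + (a • w + w) + -(a • w + a • w) := by abel
        _ = 0 := by rw [h2, A.two, neg_zero, add_zero]
    exact A.add_eq_zero.1 h3
  have h2 : a • a • a • w = w := by rw [smul_smul, smul_smul, ← pow_two, ← pow_succ, ha3, one_smul]
  rw [h1] at h2
  exact h2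

theorem card_four {a : G} (ha : orderOf a = 3) {J : AddSubgroup V} (hJ : Nat.card J = 4) (hinv : ∀ v ∈ J, a • v ∈ J)
    {w : V} (hw : w ∈ J) (hw0 : w ≠ 0) (haw : a • w = w) : J ≤ fx V a := by
  have hfin := A.fin
  have h1 := A.card_mod (by norm_num) ha J hinv
  rw [hJ] at h1
  have h2 : Nat.card (J ⊓ fx V a : AddSubgroup V) ≤ 4 := by
    rw [← hJ]
    exact AddSubgroup.card_le_of_le inf_le_left
  have h3 : Nat.card (J ⊓ fx V a : AddSubgroup V) ≠ 1 := by
    intro h
    have h4 : (J ⊓ fx V a : AddSubgroup V) = ⊥ := AddSubgroup.eq_bot_of_card_eq _ h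
    have h5 : w ∈ (J ⊓ fx V a : AddSubgroup V) := ⟨hw, haw⟩
    rw [h4] at h5
    exact hw0 h5
  have h4 : Nat.card (J ⊓ fx V a : AddSubgroup V) = 4 := by
    unfold Nat.ModEq at h1
    omega
  have h5 : (J ⊓ fx V a : AddSubgroup V) = J := AddSubgroup.eq_of_le_of_card_ge inf_le_left (by rw [h4, hJ])
  rw [← h5]
  exact inf_le_right

/-- **no element of order 3 commutes with `u`** -/
theorem no_comm_u {u a : G} (ha : orderOf a = 3) (h : a * u = u * a) (h1 : Nat.card (fx V u) = 16)
    (h2 : ¬ 3 ∣ Nat.card {v : V | u • v = v ∧ q v ≠ 0})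
    (h3 : ∀ v : V, u • (u • v + v) = u • v + v → q (u • v + v) = 0)
    (h4 : ¬ 3 ∣ Nat.card {v : V | q (u • v + v) ≠ 0})
    (h5 : Nat.card {v : V | u • (u • v + v) = u • v + v} = 64)
    (h6 : ∀ v : V, u • (u • (u • v + v) + (u • v + v)) = u • (u • v + v) + (u • v + v)) : False := by
  have hfin := A.fin
  have hau : ∀ v : V, a • u • v = u • a • v := fun v => by rw [smul_smul, h, mul_smul]
  have han : ∀ v : V, a • (u • v + v) = u • (a • v) + a • v := fun v => by rw [smul_add, hau]
  -- fixed vectors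
  obtain ⟨f, hfu, hfq, hfa⟩ : ∃ f : V, u • f = f ∧ q f ≠ 0 ∧ a • f = f := by
    by_contra hcon
    push Not at hcon
    apply h2
    refine prime_dvd (by norm_num) ha _ ?_ ?_
    · rintro v ⟨hv1, hv2⟩
      exact ⟨by rw [← hau, hv1], by rw [A.inv]; exact hv2⟩
    · rintro v ⟨hv1, hv2⟩ hv3
      exact hcon v hv1 hv2 hv3
  obtain ⟨v0, hv0q, hv0a⟩ : ∃ v0 : V, q (u • v0 + v0) ≠ 0 ∧ a • v0 = v0 := by
    by_contra hcon
    push Not at hcon
    apply h4
    refine prime_dvd (by norm_num) ha _ ?_ ?_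
    · intro v hv
      show q (u • (a • v) + a • v) ≠ 0
      rw [← han, A.inv]
      exact hv
    · intro v hv hv3
      exact hcon v hv hv3
  -- the image of `n²`
  set J : AddSubgroup V := ((cmHom V u).comp (cmHom V u)).range with hJ
  have hJm : ∀ v : V, u • (u • v + v) + (u • v + v) ∈ J := fun v => ⟨v, rfl⟩
  have hJ4 : Nat.card J = 4 := by
    have e1 := AddSubgroup.card_eq_card_quotient_mul_card_addSubgroup ((cmHom V u).comp (cmHom V u)).ker
    rw [Nat.card_congr (QuotientAddGroup.quotientKerEquivRange ((cmHom V u).comp (cmHom V u))).toEquiv, A.card] at e1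
    have e2 : Nat.card ((cmHom V u).comp (cmHom V u)).ker = 64 := by
      rw [← h5]
      refine Nat.card_congr (Equiv.subtypeEquivRight fun v => ?_)
      rw [AddMonoidHom.mem_ker]
      exact A.add_eq_zero
    rw [e2] at e1
    have e3 : Nat.card J = Nat.card ((cmHom V u).comp (cmHom V u)).range := rfl
    omega
  have hJa : J ≤ fx V a := by
    refine A.card_four ha hJ4 ?_ (hJm v0) ?_ ?_
    · rintro _ ⟨v, rfl⟩
      refine ⟨a • v, ?_⟩
      show u • (u • (a • v) + a • v) + (u • (a • v) + a • v) = a • (u • (u • v + v) + (u • v + v))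
      rw [han, han]
    · intro h7
      exact hv0q (h3 v0 (A.add_eq_zero.1 h7))
    · rw [han, han, hv0a]
  have hFa : fx V u ≤ fx V a := by
    have e1 := A.card_mod (by norm_num) ha (fx V u) (fun v hv => smul_mem_fx h hv)
    rw [h1] at e1
    have e2 : J < (fx V u ⊓ fx V a : AddSubgroup V) := by
      refine lt_of_le_of_ne (le_inf ?_ hJa) ?_
      · rintro _ ⟨v, rfl⟩
        exact h6 v
      · intro e3
        have e4 : f ∈ J := by rw [e3]; exact ⟨hfu, hfa⟩
        obtain ⟨v, rfl⟩ := e4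
        exact hfq (h3 _ (h6 v))
    have e3 : Nat.card J < Nat.card (fx V u ⊓ fx V a : AddSubgroup V) :=
      Set.ncard_lt_ncard (SetLike.coe_ssubset_coe.2 e2) (Set.toFinite _)
    have e4 : Nat.card (fx V u ⊓ fx V a : AddSubgroup V) ≤ 16 := by
      rw [← h1]
      exact AddSubgroup.card_le_of_le inf_le_left
    obtain ⟨k, hk, hk2⟩ := A.exists_card (fx V u ⊓ fx V a)
    have e5 : (fx V u ⊓ fx V a : AddSubgroup V) = fx V u := by
      refine AddSubgroup.eq_of_le_of_card_ge inf_le_left ?_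
      rw [h1]
      rw [hk2] at e1 e3 e4 ⊢
      rw [hJ4] at e3
      unfold Nat.ModEq at e1
      interval_cases k <;> omega
    rw [← e5]
    exact inf_le_right
  have hI : ∀ v : V, a • (u • v + v) = u • v + v := by
    intro v
    refine A.uni ha (hFa (A.add_eq_zero.1 ?_))
    have e1 : a • (u • (u • v + v) + (u • v + v)) = u • (u • v + v) + (u • v + v) := hJa (hJm v)
    rw [han] at e1
    have e2 : u • (a • (u • v + v)) + a • (u • v + v) + (u • (u • v + v) + (u • v + v)) = 0 := by rw [e1, A.two]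
    rw [smul_add]
    calc u • (a • (u • v + v)) + u • (u • v + v) + (a • (u • v + v) + (u • v + v)) =
        u • (a • (u • v + v)) + a • (u • v + v) + (u • (u • v + v) + (u • v + v)) := by abel
      _ = 0 := e2
  have hall : ∀ v : V, a • v = v := by
    intro v
    refine A.uni ha (hFa (A.add_eq_zero.1 ?_))
    have e1 := hI v
    rw [han] at e1
    have e2 : u • (a • v) + a • v + (u • v + v) = 0 := by rw [e1, A.two]
    rw [smul_add]
    calc u • (a • v) + u • v + (a • v + v) = u • (a • v) + a • v + (u • v + v) := by abel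
      _ = 0 := e2
  have := A.faith a hall
  rw [this, orderOf_one] at ha
  norm_num at ha

/-- **Burnside's lemma for two commuting elements of order 3** -/
theorem sum_nine {a b : G} (hab : a * b = b * a) (ha : a ^ 3 = 1) (hb : b ^ 3 = 1) :
    9 ∣ 256 + 2 * (Nat.card (fx V a) + Nat.card (fx V b) + Nat.card (fx V (a * b)) + Nat.card (fx V (a * b ^ 2))) := by
  classical
  have hfin := A.fin
  have : Fintype V := Fintype.ofFinite V
  have hpow : ∀ (c : G) (_ : c ^ 3 = 1) (i j : ZMod 3), c ^ (i + j).val = c ^ i.val * c ^ j.val := by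
    intro c hc i j
    rw [ZMod.val_add, ← pow_eq_pow_mod _ hc, pow_add]
  let K := Multiplicative (ZMod 3 × ZMod 3)
  let act : MulAction K V :=
    { smul := fun x v => (a ^ (Multiplicative.toAdd x).1.val * b ^ (Multiplicative.toAdd x).2.val) • v
      one_smul := fun v => by
        show (a ^ (0 : ZMod 3).val * b ^ (0 : ZMod 3).val) • v = v
        rw [ZMod.val_zero, pow_zero, pow_zero, one_mul, one_smul]
      mul_smul := fun x y v => by
        show (a ^ ((Multiplicative.toAdd x).1 + (Multiplicative.toAdd y).1).val *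
          b ^ ((Multiplicative.toAdd x).2 + (Multiplicative.toAdd y).2).val) • v =
          (a ^ (Multiplicative.toAdd x).1.val * b ^ (Multiplicative.toAdd x).2.val) •
            (a ^ (Multiplicative.toAdd y).1.val * b ^ (Multiplicative.toAdd y).2.val) • v
        rw [hpow a ha, hpow b hb, smul_smul]
        congr 1
        have hc : Commute (a ^ (Multiplicative.toAdd y).1.val) (b ^ (Multiplicative.toAdd x).2.val) :=
          (show Commute a b from hab).pow_pow _ _
        calc a ^ (Multiplicative.toAdd x).1.val * a ^ (Multiplicative.toAdd y).1.val *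
            (b ^ (Multiplicative.toAdd x).2.val * b ^ (Multiplicative.toAdd y).2.val) =
            a ^ (Multiplicative.toAdd x).1.val * (a ^ (Multiplicative.toAdd y).1.val *
            b ^ (Multiplicative.toAdd x).2.val) * b ^ (Multiplicative.toAdd y).2.val := by group
          _ = _ := by rw [hc.eq]; group }
  have hb' := MulAction.sum_card_fixedBy_eq_card_orbits_mul_card_group K V
  have hK : Fintype.card K = 9 := rfl
  rw [hK] at hb'
  have hsum : ∑ x : K, Fintype.card (fixedBy V x) =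
      ∑ i : Fin 3, ∑ j : Fin 3, Nat.card (fx V (a ^ (i : ℕ) * b ^ (j : ℕ))) := by
    have e1 : ∑ x : K, Fintype.card (fixedBy V x) =
        ∑ p : ZMod 3 × ZMod 3, Nat.card (fx V (a ^ p.1.val * b ^ p.2.val)) := by
      refine Fintype.sum_equiv Multiplicative.toAdd _ _ fun x => ?_
      rw [← Nat.card_eq_fintype_card]
      rfl
    rw [e1, Fintype.sum_prod_type]
    rfl
  rw [hsum] at hb'
  have hinv2 : ∀ g : G, g ^ 3 = 1 → Nat.card (fx V (g ^ 2)) = Nat.card (fx V g) := by
    intro g hg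
    have e1 : fx V (g ^ 2) = fx V g := by
      apply le_antisymm
      · intro v hv
        have e2 : v ∈ fx V ((g ^ 2) ^ 2) := pow_mem_fx hv 2
        rw [← pow_mul, show 2 * 2 = 3 + 1 from rfl, pow_succ, hg, one_mul] at e2
        exact e2
      · exact fun v hv => pow_mem_fx hv 2
    rw [e1]
  have hc1 : Nat.card (fx V (1 : G)) = 256 := by
    rw [← A.card]
    exact Nat.card_congr (Equiv.subtypeUnivEquiv fun v => one_smul G v)
  have hC : Commute a b := hab
  have p1 : a ^ 2 * b ^ 2 = (a * b) ^ 2 := (hC.mul_pow 2).symm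
  have p2 : a ^ 2 * b = (a * b ^ 2) ^ 2 := by
    rw [(hC.pow_right 2).mul_pow, ← pow_mul, show 2 * 2 = 3 + 1 from rfl, pow_succ b 3, hb, one_mul]
  have p3 : (a * b) ^ 3 = 1 := by rw [hC.mul_pow, ha, hb, one_mul]
  have p4 : (a * b ^ 2) ^ 3 = 1 := by
    rw [(hC.pow_right 2).mul_pow, ha, ← pow_mul, mul_comm 2 3, pow_mul, hb, one_pow, one_mul]
  simp only [Fin.sum_univ_three, Fin.val_zero, Fin.val_one, Fin.val_two, pow_zero, pow_one, one_mul, mul_one] at hb'
  rw [hc1, hinv2 b hb, hinv2 a ha, p1, hinv2 _ p3, p2, hinv2 _ p4] at hb'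
  refine ⟨Fintype.card (Quotient (orbitRel K V)), ?_⟩
  rw [mul_comm 9, ← hb']
  ring

end Oct

end Cfsg.Agent.H547.Der.Oc
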