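import Cfsg.Agent.H547.Der.OctMat

/-!
# `Ω⁺₈(2)`: more explicit elements (helper547, for S3502)
-/

set_option autoImplicit false
set_option maxRecDepth 100000

namespace Cfsg.Agent.H547.Der.Eight

open Cfsg Cfsg.Agent.H503.El.O8

/-- matrix -/
def TA1 : M8 := Matrix.fromBlocks !![0,1,1,0; 0,0,1,0; 0,1,0,0; 0,0,1,0] !![0,1,1,0; 1,1,0,1; 0,0,1,0; 1,1,0,0] !![1,1,0,0; 0,0,0,1; 1,1,1,0; 1,0,0,1] !![0,0,0,0; 0,0,0,0; 0,0,0,0; 0,0,0,0]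
/-- matrix -/
def TA2 : M8 := Matrix.fromBlocks !![1,0,0,1; 0,0,0,0; 1,1,0,0; 1,0,0,1] !![1,1,1,1; 0,0,1,0; 1,1,0,1; 0,0,1,0] !![0,1,0,0; 0,0,1,0; 0,0,0,0; 0,1,0,0] !![1,0,1,1; 1,1,0,0; 1,0,0,1; 1,0,1,0]
/-- matrix -/
def TA4 : M8 := Matrix.fromBlocks !![0,0,1,0; 0,0,0,0; 1,0,1,1; 0,0,0,0] !![1,0,0,1; 1,0,0,1; 0,0,0,0; 0,1,0,0] !![0,0,0,0; 1,0,1,0; 0,0,0,0; 0,1,0,0] !![1,0,1,0; 1,0,1,0; 0,0,0,1; 0,0,0,0]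
/-- matrix -/
def TA5 : M8 := Matrix.fromBlocks !![0,0,0,1; 0,1,0,1; 0,0,0,0; 0,0,0,1] !![0,0,1,0; 0,0,0,0; 1,0,0,0; 0,0,0,0] !![0,0,1,0; 0,0,0,0; 1,0,0,1; 0,0,1,0] !![0,0,0,0; 0,1,0,0; 0,0,0,0; 1,1,0,1]
theorem TA_eq : Z1 * G1 = TA1 ∧ TA1 * TA1 = TA2 ∧ TA2 * TA2 = TA4 ∧ TA1 * TA4 = TA5 ∧ TA5 * TA5 = 1 ∧ TA2 ≠ 1 ∧ TA5 ≠ 1 := by decide +kernel
/-- matrix -/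
def TB1 : M8 := Matrix.fromBlocks !![0,1,1,1; 1,1,1,0; 1,1,0,1; 1,0,1,1] !![1,0,1,1; 1,0,1,1; 1,0,1,1; 0,1,0,0] !![0,1,0,1; 0,0,0,1; 0,1,0,1; 0,1,0,0] !![1,0,0,0; 1,0,1,0; 0,0,1,0; 0,0,0,0]
/-- matrix -/
def TB2 : M8 := Matrix.fromBlocks !![1,1,0,0; 0,0,0,0; 0,1,1,0; 0,0,0,0] !![1,1,1,0; 0,0,0,1; 1,1,1,0; 1,1,1,0] !![0,0,0,0; 1,0,1,1; 0,0,0,0; 1,1,1,0] !![0,1,1,1; 1,1,1,0; 1,1,0,1; 1,0,1,1]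
theorem TB_eq : W1 * N3 = TB1 ∧ TB1 * TB1 = TB2 ∧ TB1 * TB2 = 1 ∧ TB1 ≠ 1 := by decide +kernel
theorem TB_card : (Finset.univ.filter fun v : I8 → ZMod 2 => TB1.mulVec v = v).card = 16 := by decide +kernel
/-- matrix -/
def TC1 : M8 := Matrix.fromBlocks !![0,0,1,0; 1,0,0,0; 0,1,1,0; 0,1,0,1] !![0,1,0,0; 0,1,0,1; 1,1,1,1; 0,1,1,1] !![0,0,1,1; 0,1,1,0; 1,0,1,0; 0,0,1,0] !![1,1,1,1; 0,1,1,1; 0,1,0,0; 0,1,0,1]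
/-- matrix -/
def TC2 : M8 := Matrix.fromBlocks !![1,0,0,0; 0,0,1,0; 0,0,0,0; 0,0,1,0] !![0,0,1,0; 1,1,0,1; 0,0,0,1; 1,0,0,0] !![0,0,1,0; 0,1,1,0; 0,1,1,1; 1,1,1,0] !![0,0,0,0; 1,0,0,1; 1,1,0,1; 1,1,0,1]
/-- matrix -/
def TC3 : M8 := Matrix.fromBlocks !![1,1,1,1; 1,0,1,0; 1,1,1,0; 0,0,1,0] !![1,1,1,1; 0,1,0,1; 1,1,0,1; 0,0,0,1] !![0,0,0,0; 1,1,1,0; 1,0,1,0; 0,0,0,0] !![0,0,0,1; 0,0,0,1; 0,0,0,0; 1,0,1,0]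
/-- matrix -/
def TC4 : M8 := Matrix.fromBlocks !![0,1,0,1; 0,0,0,0; 0,0,0,0; 1,1,1,0] !![1,1,1,1; 0,1,1,1; 1,0,1,0; 1,1,0,0] !![1,1,1,0; 0,1,0,0; 1,0,0,0; 0,1,0,1] !![1,1,0,1; 0,0,1,1; 0,0,1,1; 1,1,0,1]
/-- matrix -/
def TC5 : M8 := Matrix.fromBlocks !![1,0,0,1; 1,0,0,1; 0,1,1,0; 1,1,1,1] !![1,0,1,1; 1,1,0,1; 1,1,1,0; 1,1,0,0] !![1,0,1,0; 1,1,0,1; 1,0,0,0; 0,0,0,1] !![0,0,0,1; 1,0,0,1; 0,0,0,1; 1,0,0,0]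
theorem TC_eq : W1 * N1 = TC1 ∧ TC1 * G2 = TC2 ∧ TC2 * TC2 = TC3 ∧ TC2 * TC3 = TC4 ∧ TC4 * TC4 = TC5 ∧ TC4 * TC5 = 1 ∧ TC4 ≠ 1 := by decide +kernel
theorem TC_card : (Finset.univ.filter fun v : I8 → ZMod 2 => TC2.mulVec v = v).card = 4 := by decide +kernel
theorem N1_card : (Finset.univ.filter fun v : I8 → ZMod 2 => N1.mulVec v = v).card = 1 := by decide +kernel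
/-- matrix -/
def TD1 : M8 := Matrix.fromBlocks !![1,0,1,0; 0,1,1,1; 1,1,0,0; 1,1,1,0] !![0,0,0,1; 0,1,1,0; 0,0,0,1; 0,0,0,0] !![0,0,0,0; 1,1,1,0; 0,0,0,0; 0,1,1,1] !![1,1,0,1; 0,0,0,1; 1,0,1,1; 1,0,0,0]
/-- matrix -/
def TD2 : M8 := Matrix.fromBlocks !![1,1,0,0; 1,0,1,0; 1,0,0,1; 0,1,1,1] !![1,1,1,1; 0,0,0,0; 1,1,1,1; 0,1,0,1] !![1,0,1,0; 1,0,1,1; 0,0,0,0; 1,0,1,0] !![1,0,1,1; 0,1,1,1; 1,1,1,0; 1,1,1,1]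
/-- matrix -/
def TD3 : M8 := Matrix.fromBlocks !![1,1,0,1; 0,1,0,1; 0,0,0,0; 0,1,0,1] !![0,0,1,0; 0,0,0,0; 0,1,1,1; 0,0,1,0] !![0,1,0,1; 0,0,1,1; 0,0,0,1; 1,1,1,0] !![1,0,1,0; 0,0,1,1; 0,0,1,0; 1,1,0,1]
/-- matrix -/
def TD4 : M8 := Matrix.fromBlocks !![1,1,0,0; 0,0,0,0; 1,1,0,0; 0,0,0,1] !![0,0,1,0; 0,0,1,0; 1,1,0,0; 0,0,0,0] !![0,1,0,0; 1,0,1,0; 0,1,0,0; 0,0,0,0] !![1,0,1,0; 1,0,1,0; 0,0,0,0; 0,0,0,1]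
/-- matrix -/
def TDn : M8 := Matrix.fromBlocks !![0,1,0,1; 0,0,0,1; 0,0,1,0; 0,1,0,0] !![0,0,1,0; 0,0,0,0; 0,1,1,1; 0,0,1,0] !![0,1,0,1; 0,0,1,1; 0,0,0,1; 1,1,1,0] !![0,0,1,0; 0,1,1,1; 0,0,0,0; 1,1,0,0]
/-- matrix -/
def TDm : M8 := Matrix.fromBlocks !![0,1,0,0; 0,1,0,0; 1,1,1,0; 0,0,0,0] !![0,0,1,0; 0,0,1,0; 1,1,0,0; 0,0,0,0] !![0,1,0,0; 1,0,1,0; 0,1,0,0; 0,0,0,0] !![0,0,1,0; 1,1,1,0; 0,0,1,0; 0,0,0,0]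
theorem TD_eq : Z1 * W1 = TD1 ∧ TD1 * N1 = TD2 ∧ TD2 * TD2 = TD3 ∧ TD3 * TD3 = TD4 ∧ TD4 * TD4 = 1 ∧ TD4 ≠ 1 := by decide +kernel
theorem TD_eq2 : TD3 + 1 = TDn ∧ TDn * TDn = TDm ∧ TDn * TDm = 0 := by decide +kernel
theorem TD_card1 : (Finset.univ.filter fun v : I8 → ZMod 2 => TD3.mulVec v = v).card = 16 := by decide +kernel
theorem TD_card2 : (Finset.univ.filter fun v : I8 → ZMod 2 => TD3.mulVec v = v ∧ Q8 v ≠ 0).card = 4 := by decide +kernel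
theorem TD_ts : ∀ v : I8 → ZMod 2, TDm.mulVec v = 0 → Q8 (TDn.mulVec v) = 0 := by decide +kernel
theorem TD_card4 : (Finset.univ.filter fun v : I8 → ZMod 2 => Q8 (TDn.mulVec v) ≠ 0).card = 64 := by decide +kernel
theorem TD_card5 : (Finset.univ.filter fun v : I8 → ZMod 2 => TDm.mulVec v = 0).card = 64 := by decide +kernel
/-- matrix -/
def TE1 : M8 := Matrix.fromBlocks !![0,1,0,0; 1,0,0,1; 1,1,0,1; 1,1,0,1] !![0,0,0,1; 0,1,0,0; 0,1,1,1; 1,1,1,0] !![1,0,1,1; 0,1,1,0; 0,1,1,1; 0,1,0,1] !![1,0,0,1; 1,0,0,1; 0,1,0,1; 0,1,0,1]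
/-- matrix -/
def TE2 : M8 := Matrix.fromBlocks !![0,1,1,1; 0,0,1,1; 0,1,0,0; 0,1,1,1] !![0,1,1,0; 1,1,0,0; 1,0,0,1; 1,1,1,0] !![1,1,0,1; 0,0,0,1; 0,0,0,1; 1,1,0,0] !![1,0,1,1; 0,1,1,0; 1,0,0,0; 1,1,1,1]
/-- matrix -/
def TE3 : M8 := Matrix.fromBlocks !![1,0,1,0; 0,0,0,1; 0,0,0,1; 0,0,0,0] !![0,0,0,0; 0,1,0,0; 0,0,0,0; 1,0,1,0] !![0,0,0,0; 1,1,1,1; 1,1,1,1; 1,0,0,1] !![0,1,1,0; 0,0,0,0; 1,1,1,1; 0,0,0,0]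
/-- matrix -/
def TE4 : M8 := Matrix.fromBlocks !![0,0,1,0; 1,0,0,0; 0,0,1,0; 1,0,0,0] !![1,0,0,0; 0,1,1,1; 1,0,0,1; 0,0,1,1] !![0,0,1,1; 0,1,0,0; 0,0,1,1; 0,1,0,0] !![0,0,1,1; 0,0,0,0; 0,0,0,0; 1,0,0,0]
/-- matrix -/
def TE5 : M8 := Matrix.fromBlocks !![0,0,0,1; 0,0,0,1; 0,1,0,1; 0,1,0,1] !![1,0,1,0; 0,0,0,0; 0,0,1,0; 0,0,0,0] !![1,1,0,1; 1,0,0,0; 1,0,1,0; 1,0,1,1] !![0,0,1,0; 0,1,1,1; 1,0,1,0; 0,1,0,0]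
/-- matrix -/
def TE6 : M8 := Matrix.fromBlocks !![0,0,1,0; 0,1,0,1; 1,1,1,0; 0,1,0,0] !![1,0,0,0; 0,0,0,0; 1,0,1,0; 0,0,0,0] !![1,1,1,1; 1,0,0,0; 0,0,1,1; 1,0,0,1] !![0,0,0,0; 0,0,1,1; 0,0,0,0; 1,1,1,1]
/-- matrix -/
def TE7 : M8 := Matrix.fromBlocks !![1,0,0,0; 1,0,0,0; 0,0,1,1; 0,0,0,0] !![0,0,0,0; 0,0,1,1; 0,1,0,0; 0,1,0,0] !![0,0,0,1; 0,0,0,1; 0,0,0,0; 1,1,0,0] !![1,1,0,0; 0,0,0,0; 0,0,1,0; 0,0,1,0]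
theorem TE_eq : W1 * G1 = TE1 ∧ TE1 * W1 = TE2 ∧ TE2 * N1 = TE3 ∧ TE3 * Z1 = TE4 := by decide +kernel
theorem TE_eq2 : TE4 * TE4 = TE5 ∧ TE5 * TE5 = TE6 ∧ TE4 * TE5 = TE7 ∧ TE5 * TE6 = 1 ∧ TE5 ≠ 1 ∧ TE7 ≠ 1 := by decide +kernel
/-- matrix -/
def TH1 : M8 := Matrix.fromBlocks !![1,0,0,1; 1,0,1,1; 0,0,0,1; 0,1,0,0] !![0,0,1,0; 1,0,1,0; 0,0,0,0; 0,0,0,0] !![0,1,0,1; 0,0,0,0; 1,1,0,1; 1,0,0,0] !![1,0,1,0; 0,0,1,0; 1,0,1,1; 0,1,1,0]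
/-- matrix -/
def TH2 : M8 := Matrix.fromBlocks !![1,1,0,1; 1,0,0,0; 0,0,1,0; 0,1,0,0] !![0,1,0,1; 0,0,1,0; 1,0,0,1; 0,0,0,1] !![1,1,1,0; 1,0,0,1; 1,1,0,1; 0,1,0,1] !![1,0,1,1; 1,1,0,1; 0,1,1,1; 0,0,1,0]
/-- matrix -/
def TH3 : M8 := Matrix.fromBlocks !![1,0,1,0; 0,0,1,0; 0,0,1,0; 0,0,1,0] !![1,0,1,0; 1,0,0,0; 1,1,0,0; 1,1,0,1] !![0,0,1,0; 1,1,1,0; 1,1,0,1; 1,0,0,1] !![0,0,0,1; 0,0,0,0; 0,1,1,1; 0,1,1,0]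
/-- matrix -/
def TH4 : M8 := Matrix.fromBlocks !![1,1,1,0; 0,1,1,0; 0,1,1,0; 1,1,1,0] !![0,1,1,0; 0,0,0,0; 0,1,1,1; 0,1,1,1] !![0,1,0,1; 1,0,1,0; 0,1,0,0; 0,0,1,1] !![0,1,1,1; 0,1,0,0; 1,0,0,1; 1,1,1,1]
/-- matrix -/
def TH5 : M8 := Matrix.fromBlocks !![0,1,0,1; 0,0,0,0; 0,1,1,0; 0,0,0,0] !![1,0,1,0; 1,0,0,0; 0,1,1,0; 0,1,1,1] !![0,0,0,0; 1,0,0,0; 0,0,0,0; 0,0,0,1] !![0,1,1,0; 0,1,1,0; 0,0,1,0; 0,0,0,0]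
/-- matrix -/
def TH6 : M8 := Matrix.fromBlocks !![1,1,1,1; 0,1,1,0; 0,0,0,0; 0,1,1,0] !![1,0,0,1; 1,1,1,1; 1,1,1,1; 1,0,0,1] !![0,1,1,0; 0,0,1,1; 0,1,1,1; 1,1,0,0] !![0,0,0,1; 0,1,0,0; 1,1,0,1; 1,1,1,0]
/-- matrix -/
def TH7 : M8 := Matrix.fromBlocks !![0,1,1,0; 0,0,0,0; 1,0,0,0; 0,1,1,0] !![1,1,1,0; 0,1,1,0; 0,1,0,1; 1,1,1,1] !![1,1,1,1; 0,1,0,0; 0,1,1,0; 0,1,1,1] !![0,0,0,0; 1,0,1,0; 0,1,1,0; 0,1,1,0]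
theorem TH_eq : Z1 * N1 = TH1 ∧ TH1 * Z1 = TH2 ∧ TH2 * G1 = TH3 ∧ TH3 * W1 = TH4 ∧ TH4 * Z1 = TH5 ∧ TH5 * G1 = TH6 := by decide +kernel
theorem TH_eq2 : TE6 * TH6 = TH7 ∧ TH6 * N3 = TH7 := by decide +kernel

end Cfsg.Agent.H547.Der.Eight
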