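import Cfsg.Agent.H547.Der.OctJ
import Cfsg.Agent.H547.Der.OctM
import Cfsg.Agent.H547.Der.OctMat2

/-!
# `Ω⁺₈(2)`: more explicit elements (helper547, for S3502)

`t10` (order 10), `b3` (order 3, 16 fixed vectors), `v9` (order 9, 4 fixed vectors), `w9` (order 9, 1 fixed vector),
`g8` (order 8, no element of order 3 commutes with `g8 ^ 2`), `s6` (order 6, a power is conjugate to `w9 ^ 3`).
-/

set_option autoImplicit false

namespace Cfsg.Agent.H547.Der.Eight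

open Subgroup Cfsg Cfsg.Agent.H503.El.O8 Cfsg.Agent.H547.Der.Oc

theorem order_two_primes {G : Type*} [Group G] {x : G} {p r : ℕ} (hp : p.Prime) (hr : r.Prime)
    (h : x ^ (p * r) = 1) (hx : x ^ p ≠ 1) (hx2 : x ^ r ≠ 1) : orderOf x = p * r := by
  refine orderOf_eq_of_pow_and_pow_div_prime (Nat.mul_pos hp.pos hr.pos) h ?_
  intro s hs hsd h1
  rcases (Nat.Prime.dvd_mul hs).1 hsd with h2 | h2
  · have h3 := (Nat.prime_dvd_prime_iff_eq hs hp).1 h2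
    rw [h3, Nat.mul_div_cancel_left _ hp.pos] at h1
    exact hx2 h1
  · have h3 := (Nat.prime_dvd_prime_iff_eq hs hr).1 h2
    rw [h3, Nat.mul_div_cancel _ hr.pos] at h1
    exact hx h1

/-! ### order 10 -/

def s10 : S8 := z1 * g4

theorem order_s10 : orderOf s10 = 10 := by
  have e1 : rho s10 = TA1 := by
    show rho (z1 * g4) = TA1
    rw [map_mul, rho_z1, rho_g4, TA_eq.1]
  have e2 : rho (s10 ^ 2) = TA2 := by rw [pow_two, map_mul, e1, TA_eq.2.1]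
  have e4 : rho (s10 ^ 4) = TA4 := by rw [show s10 ^ 4 = s10 ^ 2 * s10 ^ 2 from pow_add s10 2 2, map_mul, e2, TA_eq.2.2.1]
  have e5 : rho (s10 ^ 5) = TA5 := by rw [show 5 = 1 + 4 from rfl, pow_add, map_mul, pow_one, e1, e4, TA_eq.2.2.2.1]
  refine order_two_primes (p := 2) (r := 5) (by norm_num) (by norm_num) ?_ ?_ ?_
  · refine rho_injective ?_
    rw [show 2 * 5 = 5 + 5 from rfl, pow_add, map_mul, e5, TA_eq.2.2.2.2.1, map_one]
  · intro h
    exact TA_eq.2.2.2.2.2.1 (by rw [← e2, h, map_one])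
  · intro h
    exact TA_eq.2.2.2.2.2.2 (by rw [← e5, h, map_one])

noncomputable def t10 : T8 := e8 s10

theorem order_t10 : orderOf t10 = 10 := (MulEquiv.orderOf_eq e8 s10).trans order_s10

/-! ### order 3 -/

def s3 : S8 := z2 * w9 ^ 3

theorem rho_w9_3 : rho (w9 ^ 3) = N3 := by
  rw [pow_succ, pow_two, map_mul, map_mul, rho_w9, mul_assoc, N_eq.1, N_eq.2.1]

theorem rho_s3 : rho s3 = TB1 := by
  show rho (z2 * w9 ^ 3) = TB1
  rw [map_mul, rho_z2, rho_w9_3, TB_eq.1]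

theorem order_s3 : orderOf s3 = 3 := by
  have e2 : rho (s3 ^ 2) = TB2 := by rw [pow_two, map_mul, rho_s3, TB_eq.2.1]
  have h3 : Fact (Nat.Prime 3) := ⟨Nat.prime_three⟩
  refine orderOf_eq_prime (rho_injective ?_) fun h => TB_eq.2.2.2 (by rw [← rho_s3, h, map_one])
  rw [show 3 = 1 + 2 from rfl, pow_add, map_mul, pow_one, rho_s3, e2, TB_eq.2.2.1, map_one]

noncomputable def b3 : T8 := e8 s3

theorem order_b3 : orderOf b3 = 3 := (MulEquiv.orderOf_eq e8 s3).trans order_s3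

theorem card_b3 : Nat.card (fx V8 b3) = 16 := by
  show Nat.card (fx V8 (e8 s3)) = 16
  rw [fx_e8]
  exact card_fx_eq rho_s3 TB_card

/-! ### order 9 -/

def s9 : S8 := z2 * w9 * g4 ^ 2

theorem rho_s9 : rho s9 = TC2 := by
  show rho (z2 * w9 * g4 ^ 2) = TC2
  rw [map_mul, map_mul, rho_z2, rho_w9, TC_eq.1, rho_g4_sq, TC_eq.2.1]

theorem order_s9 : orderOf s9 = 9 := by
  have e2 : rho (s9 ^ 2) = TC3 := by rw [pow_two, map_mul, rho_s9, TC_eq.2.2.1]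
  have e3 : rho (s9 ^ 3) = TC4 := by
    rw [show 3 = 1 + 2 from rfl, pow_add, map_mul, pow_one, rho_s9, e2, TC_eq.2.2.2.1]
  have e6 : rho (s9 ^ 6) = TC5 := by rw [show 6 = 3 + 3 from rfl, pow_add, map_mul, e3, TC_eq.2.2.2.2.1]
  have e9 : s9 ^ 9 = 1 := rho_injective (by
    rw [show 9 = 3 + 6 from rfl, pow_add, map_mul, e3, e6, TC_eq.2.2.2.2.2.1, map_one])
  have h3 : s9 ^ 3 ≠ 1 := fun h => TC_eq.2.2.2.2.2.2 (by rw [← e3, h, map_one])
  exact orderOf_eq_prime_pow (p := 3) (n := 1) (by simpa using h3) (by simpa using e9)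

noncomputable def v9 : T8 := e8 s9

theorem order_v9 : orderOf v9 = 9 := (MulEquiv.orderOf_eq e8 s9).trans order_s9

theorem card_v9 : Nat.card (fx V8 v9) = 4 := by
  show Nat.card (fx V8 (e8 s9)) = 4
  rw [fx_e8]
  exact card_fx_eq rho_s9 TC_card

theorem card_tw9 : Nat.card (fx V8 tw9) = 1 := by
  show Nat.card (fx V8 (e8 w9)) = 1
  rw [fx_e8]
  exact card_fx_eq rho_w9 N1_card

/-! ### order 8 -/

def s8 : S8 := z1 * z2 * w9

theorem rho_s8 : rho s8 = TD2 := by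
  show rho (z1 * z2 * w9) = TD2
  rw [map_mul, map_mul, rho_z1, rho_z2, TD_eq.1, rho_w9, TD_eq.2.1]

theorem rho_s8_2 : rho (s8 ^ 2) = TD3 := by rw [pow_two, map_mul, rho_s8, TD_eq.2.2.1]

theorem order_s8 : orderOf s8 = 8 := by
  have e4 : rho (s8 ^ 4) = TD4 := by rw [show s8 ^ 4 = s8 ^ 2 * s8 ^ 2 from pow_add s8 2 2, map_mul, rho_s8_2, TD_eq.2.2.2.1]
  have e8' : s8 ^ 8 = 1 := rho_injective (by
    rw [show 8 = 4 + 4 from rfl, pow_add, map_mul, e4, TD_eq.2.2.2.2.1, map_one])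
  have h4 : s8 ^ 4 ≠ 1 := fun h => TD_eq.2.2.2.2.2 (by rw [← e4, h, map_one])
  exact orderOf_eq_prime_pow (p := 2) (n := 2) (by simpa using h4) (by simpa using e8')

noncomputable def g8 : T8 := e8 s8

theorem order_g8 : orderOf g8 = 8 := (MulEquiv.orderOf_eq e8 s8).trans order_s8

theorem smul_g8 (v : V8) : g8 ^ 2 • v = mv TD3 v := by
  have h : g8 ^ 2 = e8 (s8 ^ 2) := (map_pow e8 s8 2).symm
  rw [h, smul_e8, vsmul_def, rho_s8_2]

theorem mv_add_one (v : V8) : mv TD3 v + v = mv TDn v := by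
  have h : mv (TD3 + 1) v = mv TD3 v + mv 1 v := Matrix.add_mulVec TD3 1 (show I8 → ZMod 2 from v)
  rw [← TD_eq2.1, h, mv_one]

theorem nn_eq (v : V8) : mv TD3 (mv TDn v) + mv TDn v = mv TDm v := by
  rw [mv_add_one, ← mv_mul, TD_eq2.2.1]

theorem u_iff (v : V8) : mv TD3 (mv TDn v) = mv TDn v ↔ mv TDm v = 0 := by
  rw [← nn_eq]
  exact octT.add_eq_zero.symm

/-- **no element of order 3 commutes with `g8 ^ 2`** -/
theorem no_comm_g8 {a : T8} (ha : orderOf a = 3) (h : a * g8 ^ 2 = g8 ^ 2 * a) : False := by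
  refine octT.no_comm_u ha h ?_ ?_ ?_ ?_ ?_ ?_
  · have h1 : g8 ^ 2 = e8 (s8 ^ 2) := (map_pow e8 s8 2).symm
    rw [h1, fx_e8]
    exact card_fx_eq rho_s8_2 TD_card1
  · have h1 : Nat.card {v : V8 | g8 ^ 2 • v = v ∧ q8 v ≠ 0} =
        Nat.card {v : I8 → ZMod 2 // TD3.mulVec v = v ∧ Q8 v ≠ 0} := by
      refine Nat.card_congr (Equiv.subtypeEquivRight fun v => ?_)
      show g8 ^ 2 • v = v ∧ q8 v ≠ 0 ↔ _
      rw [smul_g8]
      exact Iff.rfl
    rw [h1, Nat.card_eq_fintype_card, Fintype.card_subtype, TD_card2]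
    norm_num
  · intro v hv
    rw [smul_g8, smul_g8, mv_add_one] at hv
    rw [smul_g8, mv_add_one]
    exact TD_ts v ((u_iff v).1 hv)
  · have h1 : Nat.card {v : V8 | q8 (g8 ^ 2 • v + v) ≠ 0} = Nat.card {v : I8 → ZMod 2 // Q8 (TDn.mulVec v) ≠ 0} := by
      refine Nat.card_congr (Equiv.subtypeEquivRight fun v => ?_)
      show q8 (g8 ^ 2 • v + v) ≠ 0 ↔ _
      rw [smul_g8, mv_add_one]
      exact Iff.rfl
    rw [h1, Nat.card_eq_fintype_card, Fintype.card_subtype, TD_card4]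
    norm_num
  · have h1 : Nat.card {v : V8 | g8 ^ 2 • (g8 ^ 2 • v + v) = g8 ^ 2 • v + v} =
        Nat.card {v : I8 → ZMod 2 // TDm.mulVec v = 0} := by
      refine Nat.card_congr (Equiv.subtypeEquivRight fun v => ?_)
      show g8 ^ 2 • (g8 ^ 2 • v + v) = g8 ^ 2 • v + v ↔ _
      rw [smul_g8 v, mv_add_one, smul_g8]
      exact u_iff v
    rw [h1, Nat.card_eq_fintype_card, Fintype.card_subtype, TD_card5]
  · intro v
    rw [smul_g8 v, mv_add_one, smul_g8 (mv TDn v), nn_eq, smul_g8]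
    have h1 : mv TD3 (mv TDm v) + mv TDm v = 0 := by
      rw [mv_add_one, ← mv_mul, TD_eq2.2.2]
      exact Matrix.zero_mulVec (show I8 → ZMod 2 from v)
    exact octT.add_eq_zero.1 h1

/-! ### order 6 -/

def s6 : S8 := z2 * g4 * z2 * w9 * z1

theorem rho_s6 : rho s6 = TE4 := by
  show rho (z2 * g4 * z2 * w9 * z1) = TE4
  rw [map_mul, map_mul, map_mul, map_mul, rho_z2, rho_g4, TE_eq.1, TE_eq.2.1, rho_w9, TE_eq.2.2.1, rho_z1, TE_eq.2.2.2]

theorem rho_s6_2 : rho (s6 ^ 2) = TE5 := by rw [pow_two, map_mul, rho_s6, TE_eq2.1]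

theorem rho_s6_4 : rho (s6 ^ 4) = TE6 := by rw [show s6 ^ 4 = s6 ^ 2 * s6 ^ 2 from pow_add s6 2 2, map_mul, rho_s6_2, TE_eq2.2.1]

theorem order_s6 : orderOf s6 = 6 := by
  have e3 : rho (s6 ^ 3) = TE7 := by
    rw [show 3 = 1 + 2 from rfl, pow_add, map_mul, pow_one, rho_s6, rho_s6_2, TE_eq2.2.2.1]
  refine order_two_primes (p := 2) (r := 3) (by norm_num) (by norm_num) ?_ ?_ ?_
  · refine rho_injective ?_
    rw [show 2 * 3 = 2 + 4 from rfl, pow_add, map_mul, rho_s6_2, rho_s6_4, TE_eq2.2.2.2.1, map_one]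
  · intro h
    exact TE_eq2.2.2.2.2.1 (by rw [← rho_s6_2, h, map_one])
  · intro h
    exact TE_eq2.2.2.2.2.2 (by rw [← e3, h, map_one])

def h6 : S8 := z1 * w9 * z1 * g4 * z2 * z1 * g4

theorem rho_h6 : rho h6 = TH6 := by
  show rho (z1 * w9 * z1 * g4 * z2 * z1 * g4) = TH6
  rw [map_mul, map_mul, map_mul, map_mul, map_mul, map_mul, rho_z1, rho_w9, TH_eq.1, TH_eq.2.1, rho_g4,
    TH_eq.2.2.1, rho_z2, TH_eq.2.2.2.1, TH_eq.2.2.2.2.1, TH_eq.2.2.2.2.2]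

theorem s6_conj : s6 ^ 4 = h6 * w9 ^ 3 * h6⁻¹ := by
  rw [eq_mul_inv_iff_mul_eq]
  refine rho_injective ?_
  rw [map_mul, map_mul, rho_s6_4, rho_h6, rho_w9_3, TH_eq2.1, TH_eq2.2]

noncomputable def t6 : T8 := e8 s6

theorem order_t6 : orderOf t6 = 6 := (MulEquiv.orderOf_eq e8 s6).trans order_s6

theorem t6_conj : t6 ^ 4 = e8 h6 * tw9 ^ 3 * (e8 h6)⁻¹ := by
  show e8 s6 ^ 4 = e8 h6 * e8 w9 ^ 3 * (e8 h6)⁻¹
  rw [← map_pow, s6_conj, map_mul, map_mul, map_inv, map_pow]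

end Cfsg.Agent.H547.Der.Eight
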