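import Cfsg.Agent.H547.Der.OctE
import Cfsg.Agent.H547.Der.OctD
import Cfsg.Agent.H547.Der.Wiel
import Cfsg.Agent.Lib.Cores
import Cfsg.Agent.S0721

/-!
# Quadratic space with 256 vectors: local subgroups (helper547, for S3500)
-/

set_option autoImplicit false

namespace Cfsg.Agent.H547.Der.Oc

open MulAction Subgroup

variable {G V : Type*} [Group G] [AddCommGroup V] [DistribMulAction G V] {q : V → ZMod 2}

namespace Oct

variable (A : Oct G V q)

include A

/-- a group centralizing an element of order 5 has no subgroup of order 9 -/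
theorem not_nine_dvd {y : G} (hy : orderOf y = 5) {H : Type*} [Group H] (f : H →* G)
    (hf : Function.Injective f) (h : ∀ x, f x * y = y * f x) : ¬ 9 ∣ Nat.card H := by
  intro h9
  have := A.finG
  have : Finite H := Finite.of_injective f hf
  have h3 : Fact (Nat.Prime 3) := ⟨Nat.prime_three⟩
  obtain ⟨K, hK⟩ := Sylow.exists_subgroup_card_pow_prime (G := H) 3 (n := 2) (by norm_num; exact h9)
  refine A.no_nine hy (K.map f) ?_ ?_
  · rw [← Nat.card_congr (K.equivMapOfInjective f hf).toEquiv, hK]
    norm_num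
  · rintro _ ⟨x, -, rfl⟩
    exact h x

/-- **normal subgroups of order divisible by 25** -/
theorem no_normal25 {M : Subgroup G} (K : Subgroup M) [hKn : K.Normal] (h25 : 25 ∣ Nat.card K)
    (h125 : ¬ 125 ∣ Nat.card M) (h27 : ¬ 27 ∣ Nat.card K) (hM : 27 ∣ Nat.card M) : False := by
  have := A.finG
  have h5 : Fact (Nat.Prime 5) := ⟨by norm_num⟩
  have h3 : Fact (Nat.Prime 3) := ⟨Nat.prime_three⟩
  have P : Sylow 5 K := default
  have hP : Nat.card P = 25 := by
    have h1 := P.card_eq_multiplicity
    have h2 : 2 ≤ (Nat.card K).factorization 5 :=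
      (Nat.Prime.pow_dvd_iff_le_factorization (by norm_num) Nat.card_pos.ne').1 (by simpa using h25)
    have h4 : ¬ 3 ≤ (Nat.card K).factorization 5 := fun h => h125
      (((by simpa using (Nat.Prime.pow_dvd_iff_le_factorization (p := 5) (by norm_num) Nat.card_pos.ne').2 h) :
        125 ∣ Nat.card K).trans (Subgroup.card_subgroup_dvd_card K))
    have h6 : (Nat.card K).factorization 5 = 2 := by omega
    rw [h1, h6]
    norm_num
  have hfr := Sylow.normalizer_sup_eq_top P
  set E := (P : Subgroup K).map K.subtype with hE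
  have hEc : Nat.card E = 25 := by
    rw [hE, ← Nat.card_congr ((P : Subgroup K).equivMapOfInjective _ K.subtype_injective).toEquiv]
    exact hP
  have h6 : K.index ∣ Nat.card (normalizer (E : Set M)) := by
    have h7 := relIndex_sup_right (normalizer (E : Set M)) K
    rw [hfr, relIndex_top_right] at h7
    rw [h7]
    exact relIndex_dvd_card _ _
  have h7 : 3 ∣ K.index := by
    by_contra hcon
    apply h27
    have h8 : Nat.Coprime 27 K.index := by
      rw [show 27 = 3 ^ 3 by norm_num]
      exact Nat.Coprime.pow_left _ ((Nat.Prime.coprime_iff_not_dvd Nat.prime_three).2 hcon)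
    rw [← K.card_mul_index] at hM
    exact h8.dvd_of_dvd_mul_right hM
  obtain ⟨g, hg⟩ := exists_prime_orderOf_dvd_card' (G := normalizer (E : Set M)) 3 (h7.trans h6)
  have hgo : orderOf ((g : M) : G) = 3 := by rw [Subgroup.orderOf_coe, Subgroup.orderOf_coe, hg]
  refine A.no_E (E := E.map M.subtype) ?_ hgo ?_
  · rw [← Nat.card_congr (E.equivMapOfInjective _ M.subtype_injective).toEquiv, hEc]
  · rintro _ ⟨e, he, rfl⟩
    exact ⟨(g : M) * e * (g : M)⁻¹, (mem_normalizer_iff.1 g.2 e).1 he, rfl⟩

/-- **normal 5-subgroups** -/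
theorem no_normal5 {M : Subgroup G} (P : Subgroup M) [hPn : P.Normal] (hP : IsPGroup 5 P) (hP1 : P ≠ ⊥)
    (h125 : ¬ 125 ∣ Nat.card M) (hM : 27 ∣ Nat.card M) : False := by
  classical
  have := A.finG
  have h5 : Fact (Nat.Prime 5) := ⟨by norm_num⟩
  obtain ⟨j, hj⟩ := IsPGroup.iff_card.1 hP
  have hj0 : j ≠ 0 := by
    rintro rfl
    exact hP1 (Subgroup.eq_bot_of_card_eq _ (by rw [hj, pow_zero]))
  have hj3 : j < 3 := by
    by_contra hcon
    push Not at hcon
    apply h125
    have h1 : 5 ^ 3 ∣ 5 ^ j := pow_dvd_pow 5 hcon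
    rw [← hj] at h1
    exact (by simpa using h1 : 125 ∣ Nat.card P).trans (Subgroup.card_subgroup_dvd_card P)
  let Y : Set P := {1}ᶜ
  let act : MulAction M Y :=
    { smul := fun m e => ⟨⟨m * (e : P) * m⁻¹, hPn.conj_mem _ (e : P).2 m⟩, fun h => e.2 (by
        have h1 : m * ((e : P) : M) * m⁻¹ = 1 := congrArg Subtype.val h
        rw [conj_eq_one_iff] at h1
        exact Subtype.ext h1)⟩
      one_smul := fun e => Subtype.ext (Subtype.ext (by
        show (1 : M) * ((e : P) : M) * 1⁻¹ = _
        simp))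
      mul_smul := fun a b e => Subtype.ext (Subtype.ext (by
        show (a * b) * ((e : P) : M) * (a * b)⁻¹ = a * (b * ((e : P) : M) * b⁻¹) * a⁻¹
        group)) }
  have h9 : 9 ∣ Nat.card Y := by
    refine dvd_card_of_orbits (M := M) fun e => ?_
    have h1 : (stabilizer M e).index = Nat.card (orbit M e) := index_stabilizer M e
    rw [← h1]
    -- the element of order 5
    have he1 : ((e : P) : M) ≠ 1 := fun h => e.2 (Subtype.ext h)
    obtain ⟨k, hk⟩ : ∃ k : ℕ, orderOf (((e : P) : M) ^ k) = 5 := by
      have h2 : 5 ∣ orderOf ((e : P) : M) := by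
        have h3 : orderOf (e : P) ∣ 5 ^ j := by rw [← hj]; exact orderOf_dvd_natCard _
        obtain ⟨i, -, hi⟩ := (Nat.dvd_prime_pow (by norm_num)).1 h3
        rw [Subgroup.orderOf_coe, hi]
        refine dvd_pow_self 5 ?_
        rintro rfl
        rw [pow_zero, orderOf_eq_one_iff] at hi
        exact e.2 hi
      obtain ⟨c, hc⟩ := h2
      refine ⟨c, ?_⟩
      have h3 : 0 < orderOf ((e : P) : M) := orderOf_pos _
      have h4 : c ≠ 0 := by rintro rfl; omega
      rw [orderOf_pow' _ h4, hc, Nat.gcd_eq_right (Dvd.intro_left _ rfl)]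
      exact Nat.mul_div_cancel _ (Nat.pos_of_ne_zero h4)
    have h2 : ¬ 9 ∣ Nat.card (stabilizer M e) := by
      refine A.not_nine_dvd (y := ((((e : P) : M) ^ k : M) : G)) (by rw [Subgroup.orderOf_coe, hk])
        (M.subtype.comp (stabilizer M e).subtype)
        (M.subtype_injective.comp (stabilizer M e).subtype_injective) ?_
      intro x
      have h3 : (x : M) * ((e : P) : M) * (x : M)⁻¹ = ((e : P) : M) := by
        have h4 : (x : M) • e = e := x.2
        exact congrArg (fun z : Y => ((z : P) : M)) h4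
      have h4 : Commute (x : M) ((e : P) : M) := mul_inv_eq_iff_eq_mul.1 h3
      exact congrArg (fun z : M => (z : G)) (h4.pow_right k).eq
    rw [← (stabilizer M e).card_mul_index] at hM
    -- numbers
    have h3 : Nat.card (stabilizer M e) ≠ 0 := Nat.card_pos.ne'
    have h4 : (stabilizer M e).index ≠ 0 := index_ne_zero_of_finite
    have h6 : 3 ≤ (Nat.card (stabilizer M e) * (stabilizer M e).index).factorization 3 :=
      (Nat.Prime.pow_dvd_iff_le_factorization Nat.prime_three (mul_ne_zero h3 h4)).1 (by simpa using hM)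
    rw [Nat.factorization_mul h3 h4, Finsupp.add_apply] at h6
    have h7 : ¬ 2 ≤ (Nat.card (stabilizer M e)).factorization 3 := fun h => h2
      (by simpa using (Nat.Prime.pow_dvd_iff_le_factorization Nat.prime_three h3).2 h)
    have h8 : 2 ≤ ((stabilizer M e).index).factorization 3 := by omega
    simpa using (Nat.Prime.pow_dvd_iff_le_factorization Nat.prime_three h4).2 h8
  have hY : Nat.card Y = 5 ^ j - 1 := by
    show Nat.card (({1}ᶜ : Set P) : Set P) = _
    rw [Nat.card_coe_set_eq, Set.ncard_compl, Set.ncard_singleton, hj]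
  rw [hY] at h9
  have h10 : j = 1 ∨ j = 2 := by omega
  rcases h10 with rfl | rfl <;> norm_num at h9

end Oct

end Cfsg.Agent.H547.Der.Oc
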