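import Cfsg.Agent.H547.Der.OctF

/-!
# Quadratic space with 256 vectors: normal 3-subgroups, subgroups without solvable normal subgroups (helper547)
-/

set_option autoImplicit false

namespace Cfsg.Agent.H547.Der.Oc

open MulAction Subgroup

variable {G V : Type*} [Group G] [AddCommGroup V] [DistribMulAction G V] {q : V → ZMod 2}

/-- the multiplicative version of the action -/
@[reducible] def mact (G V : Type*) [Group G] [AddCommGroup V] [DistribMulAction G V] :
    MulDistribMulAction G (Multiplicative V) where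
  smul g v := Multiplicative.ofAdd (g • Multiplicative.toAdd v)
  one_smul v := one_smul G (Multiplicative.toAdd v)
  mul_smul a b v := mul_smul a b (Multiplicative.toAdd v)
  smul_mul g v w := smul_add g (Multiplicative.toAdd v) (Multiplicative.toAdd w)
  smul_one g := smul_zero (A := V) g

namespace Oct

variable (A : Oct G V q)

include A

/-- an element of order 5 centralizes the abelian 3-groups which it normalizes -/
theorem comm_three {Q : Subgroup G} (hQ : IsPGroup 3 Q) (hab : ∀ a ∈ Q, ∀ b ∈ Q, a * b = b * a) {y : G}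
    (hy : orderOf y = 5) (hn : ∀ u ∈ Q, y * u * y⁻¹ ∈ Q) : ∀ u ∈ Q, y * u = u * y := by
  have := A.finG
  have := A.fin
  have : Finite (Multiplicative V) := inferInstanceAs (Finite V)
  let := mact G V
  exact Wiel.comm_of_normalizes (V := Multiplicative V) A.card (fun g h => A.faith g h) hQ hab hy hn

/-- **normal 3-subgroups** -/
theorem no_normal3 {M : Subgroup G} (P : Subgroup M) [hPn : P.Normal] (hP : IsPGroup 3 P) (hP1 : P ≠ ⊥)
    (h5 : 5 ∣ Nat.card M) {g : G} (hgM : g ∈ M)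
    (hbad : ∀ a y : G, orderOf a = 3 → orderOf y = 5 → a * y = y * a → a * g ^ 2 ≠ g ^ 2 * a) : False := by
  classical
  have := A.finG
  have h5p : Fact (Nat.Prime 5) := ⟨by norm_num⟩
  have h3p : Fact (Nat.Prime 3) := ⟨Nat.prime_three⟩
  have hnt : Nontrivial P := (Subgroup.nontrivial_iff_ne_bot P).2 hP1
  have hcn : Nontrivial (center P) := hP.center_nontrivial
  obtain ⟨y, hy⟩ := exists_prime_orderOf_dvd_card' (G := M) 5 h5
  set Z : Subgroup M := (center P).map P.subtype with hZ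
  have hZn : Z.Normal := by
    have : (center P).Characteristic := inferInstance
    exact inferInstance
  set Q : Subgroup G := Z.map M.subtype with hQ
  have hQc : Nat.card Q = Nat.card (center P) := by
    rw [hQ, ← Nat.card_congr (Z.equivMapOfInjective _ M.subtype_injective).toEquiv, hZ,
      ← Nat.card_congr ((center P).equivMapOfInjective _ P.subtype_injective).toEquiv]
  have hQ3 : IsPGroup 3 Q := ((hP.to_subgroup (center P)).map P.subtype).map M.subtype
  have hab : ∀ a ∈ Q, ∀ b ∈ Q, a * b = b * a := by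
    rintro _ ⟨_, ⟨a, ha, rfl⟩, rfl⟩ _ ⟨_, ⟨b, hb, rfl⟩, rfl⟩
    exact congrArg (fun z : P => ((z : M) : G)) ((mem_center_iff.1 hb) a)
  have hnorm : ∀ m ∈ M, ∀ u ∈ Q, m * u * m⁻¹ ∈ Q := by
    rintro m hm _ ⟨u, hu, rfl⟩
    exact ⟨(⟨m, hm⟩ : M) * u * (⟨m, hm⟩ : M)⁻¹, hZn.conj_mem u hu _, rfl⟩
  have hyo : orderOf (y : G) = 5 := by rw [Subgroup.orderOf_coe, hy]
  have hcy := A.comm_three hQ3 hab hyo (hnorm y y.2)
  have h9 : ¬ 9 ∣ Nat.card Q := A.not_nine_dvd hyo Q.subtype Q.subtype_injective fun x => (hcy x x.2).symm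
  have hQ3c : Nat.card Q = 3 := by
    obtain ⟨k, hk⟩ := IsPGroup.iff_card.1 hQ3
    have hk1 : k < 2 := by
      by_contra hcon
      push Not at hcon
      apply h9
      rw [hk]
      exact (by norm_num : 9 = 3 ^ 2) ▸ pow_dvd_pow 3 hcon
    have hk0 : k ≠ 0 := by
      rintro rfl
      rw [pow_zero, hQc] at hk
      exact (Finite.one_lt_card_iff_nontrivial.2 hcn).ne' hk
    have : k = 1 := by omega
    rw [hk, this, pow_one]
  obtain ⟨a, ha⟩ := exists_prime_orderOf_dvd_card' (G := Q) 3 (by rw [hQ3c])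
  have hao : orderOf (a : G) = 3 := by rw [Subgroup.orderOf_coe, ha]
  refine hbad a y hao hyo (hcy a a.2).symm ?_
  -- `g a g⁻¹` is `a` or `a⁻¹`
  have hz : zpowers (a : G) = Q := by
    refine Subgroup.eq_of_le_of_card_ge (zpowers_le.2 a.2) ?_
    rw [Nat.card_zpowers, hao, hQ3c]
  have h1 : g * (a : G) * g⁻¹ ∈ zpowers (a : G) := by
    rw [hz]
    exact hnorm g hgM a a.2
  obtain ⟨k, hk⟩ := mem_zpowers_iff.1 h1
  have h2 : g ^ 2 * (a : G) * (g ^ 2)⁻¹ = (a : G) ^ (k * k) := by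
    calc g ^ 2 * (a : G) * (g ^ 2)⁻¹ = g * (g * a * g⁻¹) * g⁻¹ := by rw [pow_two, mul_inv_rev]; group
      _ = g * (a : G) ^ k * g⁻¹ := by rw [hk]
      _ = (g * a * g⁻¹) ^ k := by rw [conj_zpow]
      _ = _ := by rw [← hk, ← zpow_mul]
  have h3 : (a : G) ^ (k * k) = a := by
    have h4 : ¬ (3 : ℤ) ∣ k := by
      rintro ⟨l, rfl⟩
      have h5 : (a : G) ^ (3 * l) = 1 := by
        rw [zpow_mul]
        have : (a : G) ^ (3 : ℤ) = 1 := by
          have h6 : (a : G) ^ 3 = 1 := by rw [← hao, pow_orderOf_eq_one]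
          exact_mod_cast h6
        rw [this, one_zpow]
      rw [h5] at hk
      have h6 : (a : G) = 1 := conj_eq_one_iff.1 hk.symm
      rw [h6, orderOf_one] at hao
      norm_num at hao
    have h5 : (3 : ℤ) ∣ k * k - 1 := by
      have h6 : k % 3 = 1 ∨ k % 3 = 2 := by omega
      rcases h6 with h6 | h6
      · exact Int.dvd_of_emod_eq_zero (by rw [Int.sub_emod, Int.mul_emod, h6]; rfl)
      · exact Int.dvd_of_emod_eq_zero (by rw [Int.sub_emod, Int.mul_emod, h6]; rfl)
    obtain ⟨l, hl⟩ := h5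
    have h6 : k * k = 3 * l + 1 := by omega
    rw [h6, zpow_add, zpow_mul, zpow_one]
    have : (a : G) ^ (3 : ℤ) = 1 := by
      have h6 : (a : G) ^ 3 = 1 := by rw [← hao, pow_orderOf_eq_one]
      exact_mod_cast h6
    rw [this, one_zpow, one_mul]
  rw [h3] at h2
  exact (mul_inv_eq_iff_eq_mul.1 h2).symm

end Oct

/-- a minimal normal subgroup below a normal subgroup -/
theorem exists_minimal {H : Type*} [Group H] [Finite H] (C : Subgroup H) (hC : C.Normal) (hC1 : C ≠ ⊥) :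
    ∃ N : Subgroup H, N.Normal ∧ N ≤ C ∧ N ≠ ⊥ ∧ ∀ K : Subgroup H, K.Normal → K ≤ N → K = ⊥ ∨ K = N := by
  have hfin : {T : Subgroup H | T.Normal ∧ T ≤ C ∧ T ≠ ⊥}.Finite := Set.toFinite _
  obtain ⟨N, ⟨hN, hNC, hN1⟩, hmin⟩ := hfin.exists_minimal ⟨C, hC, le_rfl, hC1⟩
  refine ⟨N, hN, hNC, hN1, fun K hK hKN => ?_⟩
  by_cases h : K = ⊥
  · exact Or.inl h
  · exact Or.inr (le_antisymm hKN (hmin ⟨hK, hKN.trans hNC, h⟩ hKN))

/-- a minimal normal subgroup of a group without normal `p`-subgroups -/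
theorem exists_simple {H : Type*} [Group H] [Finite H] (hO : ∀ p : ℕ, p.Prime → pCore p H = ⊥) (C : Subgroup H)
    (hC : C.Normal) (hC1 : C ≠ ⊥) :
    ∃ N : Subgroup H, N.Normal ∧ N ≤ C ∧ ∃ (X : Type) (_ : Group X) (m : ℕ), IsSimpleGroup X ∧ Finite X ∧
      (¬ ∀ a b : X, a * b = b * a) ∧ 0 < m ∧ Nonempty (N ≃* (Fin m → X)) := by
  obtain ⟨N, hN, hNC, hN1, hmin⟩ := exists_minimal C hC hC1
  obtain ⟨X, hX, m, hs, hm, ⟨e⟩⟩ := Cfsg.Agent.S0721.result N hN1 hmin
  have hfX : Finite X := by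
    have : Finite (Fin m → X) := Finite.of_equiv _ e.toEquiv
    exact Finite.of_injective (fun (x : X) (_ : Fin m) => x) fun a b h => congrFun h ⟨0, hm⟩
  refine ⟨N, hN, hNC, X, hX, m, hs, hfX, ?_, hm, ⟨e⟩⟩
  intro hab
  let cX : CommGroup X := { hX with mul_comm := hab }
  have hp : (Nat.card X).Prime := IsSimpleGroup.prime_card (α := X)
  have hc : Nat.card N = Nat.card X ^ m := by
    rw [Nat.card_congr e.toEquiv, Nat.card_fun, Nat.card_eq_fintype_card (α := Fin m), Fintype.card_fin]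
  have hfp : Fact (Nat.card X).Prime := ⟨hp⟩
  have h1 : N ≤ pCore (Nat.card X) H := Cfsg.Agent.Lib.Cores.le_pCore hN (IsPGroup.of_card hc)
  rw [hO _ hp, le_bot_iff] at h1
  exact hN1 h1

end Cfsg.Agent.H547.Der.Oc
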