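import Cfsg.Agent.H547.Der.OctG

/-!
# Quadratic space with 256 vectors: subgroups without solvable normal subgroups (helper547)
-/

set_option autoImplicit false

namespace Cfsg.Agent.H547.Der.Oc

open MulAction Subgroup

/-- the simple groups of order 60, 360, 25920 and their automorphism groups -/
def Tab (X : Type) [Group X] : Prop :=
  (Nat.card X = 60 ∧ Nat.card (MulAut X) ∣ 120) ∨ (Nat.card X = 360 ∧ Nat.card (MulAut X) ∣ 1440) ∨
    (Nat.card X = 25920 ∧ Nat.card (MulAut X) ∣ 51840)

theorem Tab.five {X : Type} [Group X] (h : Tab X) : 5 ∣ Nat.card X := by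
  rcases h with h | h | h <;> rw [h.1] <;> norm_num

theorem Tab.sixty {X : Type} [Group X] (h : Tab X) (h9 : ¬ 9 ∣ Nat.card X) : Nat.card X = 60 := by
  rcases h with h | h | h
  · exact h.1
  · exact absurd (by rw [h.1]; norm_num) h9
  · exact absurd (by rw [h.1]; norm_num) h9

variable {G V : Type*} [Group G] [AddCommGroup V] [DistribMulAction G V] {q : V → ZMod 2}

namespace Oct

variable (A : Oct G V q)

include A

theorem exists_pCore {M : Subgroup G} (h27 : 27 ∣ Nat.card M) (h125 : ¬ 125 ∣ Nat.card M)
    (tab : ∀ (X : Type) [Group X] [Finite X], IsSimpleGroup X → (¬ ∀ a b : X, a * b = b * a) →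
      Nat.card X ∣ Nat.card M → Tab X)
    (hbig : 25 ∣ Nat.card M ∨ 4096 ∣ Nat.card M ∨ 243 ∣ Nat.card M) : ∃ p : ℕ, p.Prime ∧ pCore p M ≠ ⊥ := by
  classical
  by_contra hcon
  push Not at hcon
  have := A.finG
  have h5p : Fact (Nat.Prime 5) := ⟨by norm_num⟩
  have hcN : ∀ (N : Subgroup M) (X : Type) [Group X] (m : ℕ) (_ : N ≃* (Fin m → X)), Nat.card N = Nat.card X ^ m := by
    intro N X _ m e
    rw [Nat.card_congr e.toEquiv, Nat.card_fun, Nat.card_eq_fintype_card (α := Fin m), Fintype.card_fin]
  have c1 : ∀ C : Subgroup M, C.Normal → C ≠ ⊥ → 5 ∣ Nat.card C := by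
    intro C hC hC1
    obtain ⟨N, hN, hNC, X, _, m, hs, hf, hna, hm, ⟨e⟩⟩ := exists_simple hcon C hC hC1
    have h1 := hcN N X m e
    have h2 : Nat.card X ∣ Nat.card N := by rw [h1]; exact dvd_pow_self _ hm.ne'
    exact ((tab X hs hna (h2.trans (card_subgroup_dvd_card N))).five).trans (h2.trans (card_dvd_of_le hNC))
  have htop : (⊤ : Subgroup M) ≠ ⊥ := by
    intro h
    have h1 : Nat.card (⊤ : Subgroup M) = 1 := by rw [h]; exact Subgroup.card_bot
    rw [Subgroup.card_top] at h1
    rw [h1] at h27
    norm_num at h27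
  obtain ⟨N, hN, -, X, _, m, hs, hf, hna, hm, ⟨e⟩⟩ := exists_simple hcon ⊤ inferInstance htop
  have hNX := hcN N X m e
  have hXN : Nat.card X ∣ Nat.card N := by rw [hNX]; exact dvd_pow_self _ hm.ne'
  have hT := tab X hs hna (hXN.trans (card_subgroup_dvd_card N))
  obtain ⟨x5, hx5⟩ := exists_prime_orderOf_dvd_card' (G := X) 5 hT.five
  by_cases hm1 : m = 1
  · subst hm1
    have e1 : N ≃* X := e.trans (MulEquiv.funUnique (Fin 1) X)
    rw [pow_one] at hNX
    set C : Subgroup M := centralizer (N : Set M) with hC
    have hCn : C.Normal := Subgroup.normal_centralizer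
    obtain ⟨y', hy'⟩ := exists_prime_orderOf_dvd_card' (G := N) 5 (by rw [hNX]; exact hT.five)
    by_cases h5C : 5 ∣ Nat.card C
    · obtain ⟨y, hy⟩ := exists_prime_orderOf_dvd_card' (G := C) 5 h5C
      have h9N : ¬ 9 ∣ Nat.card N := by
        refine A.not_nine_dvd (y := ((y : M) : G)) (by rw [Subgroup.orderOf_coe, Subgroup.orderOf_coe, hy])
          (M.subtype.comp N.subtype) (M.subtype_injective.comp N.subtype_injective) fun x => ?_
        exact congrArg (fun z : M => (z : G)) ((mem_centralizer_iff.1 y.2) x x.2)
      have h9C : ¬ 9 ∣ Nat.card C := by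
        refine A.not_nine_dvd (y := ((y' : M) : G)) (by rw [Subgroup.orderOf_coe, Subgroup.orderOf_coe, hy'])
          (M.subtype.comp C.subtype) (M.subtype_injective.comp C.subtype_injective) fun x => ?_
        exact congrArg (fun z : M => (z : G)) ((mem_centralizer_iff.1 x.2) y' y'.2).symm
      have h60 : Nat.card N = 60 := by
        rw [hNX] at h9N ⊢
        exact hT.sixty h9N
      have hNC : N ⊓ C = ⊥ := by
        rw [eq_bot_iff]
        rintro x ⟨hx1, hx2⟩
        have h1 : (⟨x, hx1⟩ : N) ∈ center N := mem_center_iff.2 fun z => Subtype.ext ((mem_centralizer_iff.1 hx2) z z.2)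
        have h2 : center X = ⊥ := by
          rcases hs.eq_bot_or_eq_top_of_normal (center X) inferInstance with h | h
          · exact h
          · exfalso
            apply hna
            intro a b
            have h3 : b ∈ center X := by rw [h]; trivial
            exact mem_center_iff.1 h3 a
        have h3 : e1 ⟨x, hx1⟩ ∈ center X := mem_center_iff.2 fun z => by
          obtain ⟨w, rfl⟩ := e1.surjective z
          rw [← map_mul, ← map_mul, mem_center_iff.1 h1 w]
        rw [h2, mem_bot, map_eq_one_iff e1 e1.injective] at h3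
        exact mem_bot.2 (congrArg Subtype.val h3)
      have hK : Nat.card (N ⊔ C : Subgroup M) = 60 * Nat.card C := by
        have h1 := Wiel.card_sup_mul (K := N) (H := C) (by rw [normalizer_eq_top]; exact le_top)
        rw [hNC, Subgroup.card_bot, mul_one, h60] at h1
        exact h1
      have hKn : (N ⊔ C : Subgroup M).Normal := inferInstance
      refine A.no_normal25 (N ⊔ C) ?_ h125 ?_ h27
      · rw [hK]
        obtain ⟨c, hc⟩ := h5C
        rw [hc]
        exact ⟨12 * c, by ring⟩
      · rw [hK]
        intro h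
        apply h9C
        omega
    · have hCb : C = ⊥ := by
        by_contra h
        exact h5C (c1 C hCn h)
      have hinj : Function.Injective (MulAut.conjNormal (H := N)) := by
        rw [← MonoidHom.ker_eq_bot_iff, eq_bot_iff]
        intro x hx
        rw [← hCb, hC, mem_centralizer_iff]
        intro z hz
        have h1 : (MulAut.conjNormal x : MulAut N) ⟨z, hz⟩ = ⟨z, hz⟩ := by
          rw [MonoidHom.mem_ker.1 hx]; rfl
        have h2 := congrArg Subtype.val h1
        rw [MulAut.conjNormal_apply] at h2
        exact (mul_inv_eq_iff_eq_mul.1 h2).symm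
      have h1 : Nat.card M ∣ Nat.card (MulAut X) := by
        have h2 := Subgroup.card_dvd_of_injective _ hinj
        rwa [Nat.card_congr (MulAut.congr e1).toEquiv] at h2
      rcases hT with ⟨-, h2⟩ | ⟨-, h2⟩ | ⟨-, h2⟩
      · have h3 := h27.trans (h1.trans h2)
        norm_num at h3
      · have h3 := h27.trans (h1.trans h2)
        norm_num at h3
      · rcases hbig with h | h | h
        · have h3 := h.trans (h1.trans h2)
          norm_num at h3
        · have h3 := h.trans (h1.trans h2)
          norm_num at h3
        · have h3 := h.trans (h1.trans h2)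
          norm_num at h3
  · -- two factors
    have hm2 : 2 ≤ m := by omega
    set i0 : Fin m := ⟨0, by omega⟩
    set i1 : Fin m := ⟨1, by omega⟩
    have hne : i0 ≠ i1 := by
      intro h
      have := congrArg Fin.val h
      norm_num [i0, i1] at this
    have hsi : ∀ i : Fin m, Function.Injective (MonoidHom.mulSingle (fun _ : Fin m => X) i) := fun i a b hab => by
      have h1 := congrFun (show Pi.mulSingle (M := fun _ : Fin m => X) i a = Pi.mulSingle i b from hab) i
      rwa [Pi.mulSingle_eq_same, Pi.mulSingle_eq_same] at h1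
    have h9X : ¬ 9 ∣ Nat.card X := by
      refine A.not_nine_dvd (y := (((e.symm (Pi.mulSingle i1 x5) : N) : M) : G)) ?_
        ((M.subtype.comp N.subtype).comp (e.symm.toMonoidHom.comp (MonoidHom.mulSingle (fun _ => X) i0)))
        ((M.subtype_injective.comp N.subtype_injective).comp (e.symm.injective.comp (hsi i0)))
        fun x => ?_
      · rw [Subgroup.orderOf_coe, Subgroup.orderOf_coe, MulEquiv.orderOf_eq, ← hx5]
        exact orderOf_injective (MonoidHom.mulSingle (fun _ => X) i1) (hsi i1) x5
      · have h1 : Commute (Pi.mulSingle i0 x : Fin m → X) (Pi.mulSingle i1 x5) := by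
          funext j
          rw [Pi.mul_apply, Pi.mul_apply]
          by_cases hj : j = i0
          · subst hj
            rw [Pi.mulSingle_eq_of_ne hne, mul_one, one_mul]
          · rw [Pi.mulSingle_eq_of_ne hj, mul_one, one_mul]
        have h2 := h1.map e.symm
        exact congrArg (fun z : N => ((z : M) : G)) h2.eq
    have h60 := hT.sixty h9X
    rw [h60] at hNX
    have hm3 : m < 3 := by
      by_contra h
      push Not at h
      apply h125
      have h1 : 60 ^ 3 ∣ Nat.card N := by rw [hNX]; exact pow_dvd_pow 60 h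
      exact ((by norm_num : 125 ∣ 60 ^ 3).trans h1).trans (card_subgroup_dvd_card N)
    have hm4 : m = 2 := by omega
    subst hm4
    refine A.no_normal25 N ?_ h125 ?_ h27 <;> rw [hNX] <;> norm_num

end Oct

end Cfsg.Agent.H547.Der.Oc
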