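import Cfsg.Agent.H547.Der.OctG
import Cfsg.Agent.H547.Der.FourRow

/-!
# Quadratic space with 256 vectors: 2-local subgroups and stabilizers (helper547, for S3500)
-/

set_option autoImplicit false

namespace Cfsg.Agent.H547.Der.Oc

open MulAction Subgroup

variable {G V : Type*} [Group G] [AddCommGroup V] [DistribMulAction G V] {q : V → ZMod 2}

theorem zmod_ne {a b : ZMod 2} (ha : a ≠ 0) (hb : b ≠ 0) : a + b = 0 := by
  revert ha hb
  revert a b
  decide

namespace Oct

variable (A : Oct G V q)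

include A

theorem card_nonsing : Nat.card {v : V | q v ≠ 0} = 120 := by
  have := A.fin
  have h1 : ({v : V | v ≠ 0 ∧ q v = 0} ∪ {v : V | q v ≠ 0}) ∪ {0} = Set.univ := by
    ext v
    simp only [Set.mem_union, Set.mem_ofPred_eq, Set.mem_singleton_iff, Set.mem_univ, iff_true]
    tauto
  have h2 := congrArg Set.ncard h1
  rw [Set.ncard_union_eq (Set.disjoint_left.2 (by
    rintro v (hv | hv) (h0 : v = 0)
    · exact hv.1 h0
    · exact hv (by rw [h0, A.zero]))) (Set.toFinite _) (Set.toFinite _),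
    Set.ncard_union_eq (Set.disjoint_left.2 (by
      rintro v hv hv2
      exact hv2 hv.2)) (Set.toFinite _) (Set.toFinite _), Set.ncard_singleton, Set.ncard_univ, A.card,
      ← Nat.card_coe_set_eq, ← Nat.card_coe_set_eq] at h2
  have h3 : Nat.card ({v : V | v ≠ 0 ∧ q v = 0} : Set V) = 135 := A.sing
  rw [h3] at h2
  omega

/-- the index of the stabilizer of a nonsingular vector -/
theorem index_le {d : V} (hd : q d ≠ 0) : (stabilizer G d).index ≤ 120 := by
  have := A.fin
  rw [index_stabilizer, ← A.card_nonsing, Nat.card_coe_set_eq]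
  refine Set.ncard_le_ncard ?_ (Set.toFinite _)
  rintro _ ⟨g, rfl⟩
  show q (g • d) ≠ 0
  rw [A.inv]
  exact hd

/-- the singular vectors of a totally isotropic subgroup -/
def _root_.Cfsg.Agent.H547.Der.Oc.Oct.sing0 (A : Oct G V q) (R : AddSubgroup V) (h : ∀ u ∈ R, ∀ w ∈ R, pol q u w = 0) :
    AddSubgroup V where
  carrier := {u | u ∈ R ∧ q u = 0}
  add_mem' := fun {a b} ha hb => ⟨R.add_mem ha.1 hb.1, by
    rw [q_add (q := q), ha.2, hb.2, h a ha.1 b hb.1]; rfl⟩
  zero_mem' := ⟨R.zero_mem, A.zero⟩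
  neg_mem' := fun {a} ha => by rw [A.neg]; exact ha

/-- **2-local subgroups** -/
theorem two_local {M : Subgroup G} (hO : pCore 2 M ≠ ⊥) :
    (∃ d : V, q d ≠ 0 ∧ M ≤ stabilizer G d) ∨
    ((∀ y ∈ M, orderOf y ≠ 9) ∧ ∀ x ∈ M, ∀ y : G, orderOf x = 7 → orderOf y = 9 → y ^ 3 ∉ M) := by
  have := A.finG
  have := A.fin
  have h2 : Fact (Nat.Prime 2) := ⟨Nat.prime_two⟩
  obtain ⟨R, hR, hinv, hti⟩ := A.exists_ti (P := (pCore 2 M).map M.subtype) (M := M)
    ((Cfsg.Agent.Lib.Cores.pCore_isPGroup 2).map M.subtype) (by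
      rw [Ne, Subgroup.map_eq_bot_iff_of_injective _ M.subtype_injective]
      exact hO) (by
      rintro g hg _ ⟨x, hx, rfl⟩
      refine ⟨(⟨g, hg⟩ : M)⁻¹ * x * (⟨g, hg⟩ : M), ?_, rfl⟩
      have h3 := (Cfsg.Agent.Lib.Cores.pCore_normal (G := M) 2).conj_mem x hx (⟨g, hg⟩ : M)⁻¹
      rwa [inv_inv] at h3)
  set R0 := A.sing0 R hti with hR0
  have hinv0 : ∀ g ∈ M, ∀ v ∈ R0, g • v ∈ R0 := fun g hg v hv => ⟨hinv g hg v hv.1, by rw [A.inv]; exact hv.2⟩
  by_cases h0 : R0 = ⊥
  · left
    obtain ⟨d, hd, hd0⟩ := R.ne_bot_iff_exists_ne_zero.1 hR |> fun ⟨d, hd⟩ =>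
      (⟨d.1, d.2, fun h => hd (Subtype.ext h)⟩ : ∃ d : V, d ∈ R ∧ d ≠ 0)
    have hqd : q d ≠ 0 := fun h => hd0 (by
      have h1 : d ∈ R0 := ⟨hd, h⟩
      rw [h0] at h1
      exact h1)
    refine ⟨d, hqd, fun g hg => ?_⟩
    have h1 : g • d + d ∈ R0 := by
      refine ⟨R.add_mem (hinv g hg d hd) hd, ?_⟩
      rw [q_add (q := q), A.inv, hti _ (hinv g hg d hd) d hd, add_zero]
      exact zmod_ne hqd hqd
    rw [h0] at h1
    exact A.add_eq_zero.1 h1
  · right
    have hti0 : ∀ u ∈ R0, ∀ w ∈ R0, pol q u w = 0 := fun u hu w hw => hti u hu.1 w hw.1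
    have hts : ∀ u ∈ R0, q u = 0 := fun u hu => hu.2
    refine ⟨fun y hy hyo => A.no_order_nine h0 hti0 hts hyo (hinv0 y hy), ?_⟩
    intro x hx y hxo hyo hy3
    exact A.no_seven_cube h0 hti0 hts hxo hyo (hinv0 x hx) (hinv0 _ hy3)

/-- no element of order 5 commutes with an involution with totally isotropic nonsingular fixed space -/
theorem no_five_t {t y : G} (ht : orderOf t = 2) (hti : ∀ u ∈ fx V t, ∀ w ∈ fx V t, pol q u w = 0)
    (htq : ∃ u ∈ fx V t, q u ≠ 0) (hy : orderOf y = 5) (h : y * t = t * y) : False := by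
  have := A.fin
  obtain ⟨u0, hu0, hq0⟩ := htq
  have ht2 : t * t = 1 := by rw [← pow_two, ← ht, pow_orderOf_eq_one]
  have h16 : Nat.card (fx V t) = 16 := by
    have h1 := A.card_mul t
    have h2 : Nat.card (cm V t) ≤ Nat.card (fx V t) := by
      have h3 : cm V t ≤ fx V t := by
        intro u hu
        obtain ⟨v, rfl⟩ := mem_cm.1 hu
        rw [mem_fx, smul_add, smul_smul, ht2, one_smul, add_comm]
      exact Nat.card_le_card_of_injective (AddSubgroup.inclusion h3) (AddSubgroup.inclusion_injective _)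
    have h3 := A.iso_le (fx V t) hti
    have h4 : 16 ≤ Nat.card (fx V t) := by
      by_contra hcon
      push Not at hcon
      have h5 : Nat.card (fx V t) * Nat.card (cm V t) ≤ 15 * 15 := Nat.mul_le_mul (by omega) (by omega)
      omega
    omega
  have hinv : ∀ v ∈ fx V t, y • v ∈ fx V t := fun v hv => smul_mem_fx h hv
  have hmod := A.card_mod (by norm_num) hy (fx V t) hinv
  rw [h16] at hmod
  obtain ⟨k, hk, hk2⟩ := A.exists_card (fx V t ⊓ fx V y)
  have hle : Nat.card (fx V t ⊓ fx V y : AddSubgroup V) ≤ 16 := by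
    rw [← h16]
    exact Nat.card_le_card_of_injective (AddSubgroup.inclusion inf_le_left) (AddSubgroup.inclusion_injective _)
  have hk3 : k = 0 ∨ k = 4 := by
    rw [hk2] at hmod hle
    unfold Nat.ModEq at hmod
    interval_cases k <;> simp_all
  rcases hk3 with rfl | rfl
  · -- `y` acts freely
    have hb : fx V t ⊓ fx V y = ⊥ := AddSubgroup.eq_bot_of_card_eq _ (by rw [hk2, pow_zero])
    have h5 : 5 ∣ Nat.card {v : V | v ∈ fx V t ∧ q v ≠ 0} := by
      refine prime_dvd (by norm_num) hy _ ?_ ?_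
      · rintro v ⟨h1, h2⟩
        exact ⟨hinv v h1, by rw [A.inv]; exact h2⟩
      · rintro v ⟨h1, h2⟩ h3
        have h4 : v ∈ fx V t ⊓ fx V y := ⟨h1, h3⟩
        rw [hb] at h4
        have h6 : v = 0 := h4
        exact h2 (by rw [h6, A.zero])
    have h8 : Nat.card {v : V | v ∈ fx V t ∧ q v ≠ 0} = Nat.card {v : V | v ∈ fx V t ∧ q v = 0} := by
      refine Nat.card_congr
        { toFun := fun v => ⟨v + u0, (fx V t).add_mem v.2.1 hu0, ?_⟩
          invFun := fun v => ⟨v + u0, (fx V t).add_mem v.2.1 hu0, ?_⟩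
          left_inv := fun v => Subtype.ext (by
            show (v : V) + u0 + u0 = v
            rw [add_assoc, A.two, add_zero])
          right_inv := fun v => Subtype.ext (by
            show (v : V) + u0 + u0 = v
            rw [add_assoc, A.two, add_zero]) }
      · rw [q_add (q := q), hti _ v.2.1 _ hu0, add_zero]
        exact zmod_ne v.2.2 hq0
      · rw [q_add (q := q), hti _ v.2.1 _ hu0, add_zero, v.2.2, zero_add]
        exact hq0
    have h9 : Nat.card {v : V | v ∈ fx V t ∧ q v ≠ 0} + Nat.card {v : V | v ∈ fx V t ∧ q v = 0} = 16 := by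
      rw [← h16, Nat.card_coe_set_eq, Nat.card_coe_set_eq, ← Set.ncard_union_eq (Set.disjoint_left.2 (by
        rintro v hv hv2
        exact hv.2 hv2.2)) (Set.toFinite _) (Set.toFinite _), ← Nat.card_coe_set_eq]
      refine congrArg (fun s : Set V => Nat.card s) ?_
      ext v
      simp only [Set.mem_union, Set.mem_ofPred_eq, SetLike.mem_coe]
      tauto
    omega
  · have h1 : fx V t ≤ fx V y := by
      have h2 : fx V t ⊓ fx V y = fx V t := by
        apply SetLike.coe_injective
        refine Set.eq_of_subset_of_ncard_le (fun v hv => hv.1) ?_ (Set.toFinite _)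
        rw [← Nat.card_coe_set_eq, ← Nat.card_coe_set_eq]
        show Nat.card (fx V t) ≤ Nat.card (fx V t ⊓ fx V y : AddSubgroup V)
        rw [h16, hk2]
        norm_num
      rw [← h2]
      exact inf_le_right
    have h2 : Nat.card (fx V y) = 16 := by
      rcases A.fx_five hy with h3 | h3
      · have h4 : Nat.card (fx V t) ≤ Nat.card (fx V y) :=
          Nat.card_le_card_of_injective (AddSubgroup.inclusion h1) (AddSubgroup.inclusion_injective _)
        omega
      · exact h3
    have h3 : fx V t = fx V y := by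
      apply SetLike.coe_injective
      refine Set.eq_of_subset_of_ncard_le h1 ?_ (Set.toFinite _)
      rw [← Nat.card_coe_set_eq, ← Nat.card_coe_set_eq]
      show Nat.card (fx V y) ≤ Nat.card (fx V t)
      rw [h16, h2]
    have h4 : u0 = 0 := A.nd_fx (A.pow_five hy) (by norm_num) (by rw [← h3]; exact hu0) fun w hw =>
      hti u0 hu0 w (by rw [h3]; exact hw)
    exact hq0 (by rw [h4, A.zero])

end Oct

end Cfsg.Agent.H547.Der.Oc
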