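import Cfsg.Agent.H503.El.O8Mat

/-!
# `Ω⁺₈(2)`: explicit elements of orders 15, 15, 4, 9 (helper547, for S3500)
-/

set_option autoImplicit false
set_option maxRecDepth 100000

namespace Cfsg.Agent.H547.Der.Eight

open Cfsg Cfsg.Agent.H503.El.O8

/-- matrix -/
def Za : M8 := Matrix.fromBlocks !![0,1,1,1; 1,0,1,0; 0,0,0,0; 0,0,0,0] !![1,0,1,1; 0,1,0,1; 1,0,1,1; 1,1,1,0] !![0,0,0,0; 0,0,0,0; 0,0,0,1; 0,0,1,1] !![0,1,0,0; 1,0,0,0; 1,1,0,0; 1,0,0,0]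
/-- matrix -/
def Zb : M8 := Matrix.fromBlocks !![0,0,0,0; 1,1,0,1; 1,0,1,0; 0,1,0,1] !![0,1,0,1; 1,1,1,0; 0,1,0,1; 1,0,1,0] !![1,0,0,1; 0,1,0,1; 0,0,0,0; 1,1,0,1] !![0,1,1,0; 0,1,0,1; 0,0,1,0; 0,1,0,1]
/-- matrix -/
def Zc : M8 := Matrix.fromBlocks !![0,1,1,0; 0,0,1,0; 0,1,0,0; 1,1,0,0] !![0,0,0,0; 0,0,0,0; 0,0,0,1; 0,0,0,1] !![0,1,0,1; 1,0,0,1; 1,0,0,1; 0,1,1,0] !![0,1,0,1; 0,1,1,0; 1,0,0,1; 1,0,0,1]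
/-- matrix -/
def Z1 : M8 := Matrix.fromBlocks !![0,1,1,0; 0,1,0,0; 0,1,0,0; 0,0,1,0] !![0,0,0,1; 0,0,0,1; 1,0,0,1; 1,0,0,1] !![0,0,0,1; 1,0,1,0; 1,0,0,1; 0,1,0,1] !![1,1,1,0; 1,1,1,0; 1,1,0,1; 1,1,0,1]
theorem Za_sq : Za * Za = 1 := by decide +kernel
theorem Zb_sq : Zb * Zb = 1 := by decide +kernel
theorem Za_iso : ∀ v, Q8 (Za.mulVec v) = Q8 v := by decide +kernel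
theorem Zb_iso : ∀ v, Q8 (Zb.mulVec v) = Q8 v := by decide +kernel
theorem Z_ab : Za * Zb = Zc := by decide +kernel
theorem Z_cc : Zc * Zc = Z1 := by decide +kernel
/-- matrix -/
def Z2 : M8 := Matrix.fromBlocks !![0,1,0,1; 0,0,0,1; 0,0,0,0; 0,0,0,0] !![0,1,0,1; 1,1,0,0; 0,0,1,0; 1,0,1,0] !![0,0,0,0; 0,0,0,0; 1,0,1,0; 1,0,0,0] !![0,1,0,0; 0,1,0,1; 0,1,0,1; 0,1,0,1]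
/-- matrix -/
def Z3 : M8 := Matrix.fromBlocks !![1,0,0,1; 1,0,0,1; 1,0,0,1; 1,0,0,0] !![1,0,1,1; 1,0,0,1; 1,1,0,1; 0,0,1,1] !![1,0,1,0; 1,1,1,1; 1,1,0,1; 1,0,0,1] !![1,1,1,0; 0,0,1,1; 1,0,1,1; 0,0,1,0]
/-- matrix -/
def Z5 : M8 := Matrix.fromBlocks !![0,1,1,1; 1,1,0,1; 1,1,0,1; 0,1,1,1] !![1,0,1,1; 1,1,1,0; 1,0,1,1; 0,1,0,1] !![1,1,1,1; 0,1,1,0; 0,1,1,0; 1,1,1,1] !![0,0,1,1; 0,0,0,1; 0,1,1,1; 1,0,1,0]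
theorem Z_eq : Z1 * Z1 = Z2 ∧ Z1 * Z2 = Z3 ∧ Z2 * Z3 = Z5 := by decide +kernel
/-- matrix -/
def Z6 : M8 := Matrix.fromBlocks !![1,1,1,1; 0,0,1,0; 1,1,0,1; 1,1,0,1] !![1,1,1,1; 0,1,0,0; 0,1,1,1; 0,0,1,0] !![1,0,0,0; 0,1,0,1; 0,1,1,0; 1,1,0,0] !![0,0,0,0; 0,1,0,1; 0,1,1,0; 0,0,1,1]
/-- matrix -/
def Z9 : M8 := Matrix.fromBlocks !![0,0,0,0; 0,1,1,0; 0,0,1,1; 0,1,0,1] !![1,0,0,0; 1,1,1,0; 1,0,1,1; 1,0,1,0] !![1,0,0,1; 0,1,1,1; 0,0,1,0; 0,1,0,0] !![1,0,1,1; 1,0,1,1; 1,1,0,0; 1,0,1,1]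
/-- matrix -/
def Z10 : M8 := Matrix.fromBlocks !![0,0,0,1; 0,0,1,0; 1,0,1,1; 1,1,1,0] !![1,1,1,0; 0,1,0,1; 1,1,1,0; 1,0,1,1] !![1,0,0,1; 1,1,1,1; 1,1,1,1; 1,0,0,1] !![0,1,1,0; 1,1,1,1; 1,0,0,1; 1,1,1,1]
theorem Z_eq2 : Z3 * Z3 = Z6 ∧ Z3 * Z6 = Z9 ∧ Z6 * Z9 = 1 ∧ Z5 * Z5 = Z10 ∧ Z5 * Z10 = 1 := by decide +kernel
theorem Z_ne : Z3 ≠ 1 ∧ Z5 ≠ 1 := by decide +kernel
theorem Z_card : (Finset.univ.filter fun v : I8 → ZMod 2 => Z3.mulVec v = v).card = 16 := by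
  decide +kernel
/-- matrix -/
def Wa : M8 := Matrix.fromBlocks !![0,0,0,1; 0,0,0,1; 0,0,0,1; 0,1,0,0] !![1,1,0,0; 1,1,1,0; 0,1,0,0; 0,0,0,1] !![1,0,1,0; 0,1,1,0; 1,1,0,0; 0,0,0,0] !![0,0,0,0; 0,0,0,1; 0,0,0,0; 1,1,1,0]
/-- matrix -/
def Wb : M8 := Matrix.fromBlocks !![1,0,1,0; 0,0,1,0; 0,1,0,0; 0,1,0,1] !![1,1,1,1; 1,0,0,1; 1,0,0,1; 1,1,1,1] !![0,1,1,0; 1,0,1,1; 1,1,0,1; 0,1,1,0] !![1,0,0,0; 0,0,1,1; 1,1,0,0; 0,0,0,1]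
/-- matrix -/
def Wc : M8 := Matrix.fromBlocks !![1,0,0,0; 0,1,0,1; 1,1,1,0; 0,1,0,0] !![0,1,0,0; 1,0,0,0; 1,1,0,0; 1,0,0,0] !![1,1,1,0; 0,0,0,0; 1,0,0,0; 0,0,0,0] !![0,1,1,0; 0,0,0,1; 0,1,1,0; 0,1,1,1]
/-- matrix -/
def W1 : M8 := Matrix.fromBlocks !![1,0,0,0; 1,1,1,1; 1,1,0,1; 1,0,1,1] !![0,1,0,1; 0,1,1,0; 0,1,1,1; 1,1,1,0] !![1,0,1,1; 0,0,0,0; 0,0,0,0; 1,0,0,0] !![0,1,1,1; 0,1,1,1; 0,0,1,1; 0,0,0,0]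
theorem Wa_sq : Wa * Wa = 1 := by decide +kernel
theorem Wb_sq : Wb * Wb = 1 := by decide +kernel
theorem Wa_iso : ∀ v, Q8 (Wa.mulVec v) = Q8 v := by decide +kernel
theorem Wb_iso : ∀ v, Q8 (Wb.mulVec v) = Q8 v := by decide +kernel
theorem W_ab : Wa * Wb = Wc := by decide +kernel
theorem W_cc : Wc * Wc = W1 := by decide +kernel
/-- matrix -/
def W2 : M8 := Matrix.fromBlocks !![0,0,0,0; 0,0,0,1; 0,1,0,0; 0,1,0,1] !![0,0,1,0; 1,1,1,0; 1,0,0,1; 1,1,1,1] !![0,1,1,0; 1,0,0,0; 1,0,0,0; 1,0,0,0] !![1,0,0,0; 0,1,0,0; 0,0,1,1; 0,1,0,1]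
/-- matrix -/
def W3 : M8 := Matrix.fromBlocks !![0,0,0,0; 0,0,0,0; 1,1,0,0; 0,1,1,1] !![0,0,1,1; 1,1,0,1; 0,0,0,1; 1,0,1,1] !![1,0,0,1; 1,0,0,0; 0,0,0,0; 0,0,0,0] !![0,1,1,0; 0,0,1,0; 0,1,1,0; 0,0,1,0]
/-- matrix -/
def W5 : M8 := Matrix.fromBlocks !![0,0,0,0; 0,1,1,0; 1,0,0,1; 0,1,1,0] !![0,1,1,0; 1,0,0,1; 1,0,0,1; 0,1,1,0] !![0,1,0,1; 1,0,0,0; 0,0,0,0; 1,0,0,0] !![1,0,1,0; 0,0,0,1; 0,1,1,1; 0,0,1,1]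
theorem W_eq : W1 * W1 = W2 ∧ W1 * W2 = W3 ∧ W2 * W3 = W5 := by decide +kernel
/-- matrix -/
def W6 : M8 := Matrix.fromBlocks !![0,0,0,0; 0,0,0,1; 0,0,0,0; 0,0,1,0] !![0,1,0,0; 0,1,1,0; 1,1,0,0; 0,1,0,1] !![1,1,1,1; 0,0,0,0; 1,0,0,0; 0,0,0,0] !![1,1,0,0; 0,1,0,1; 0,1,0,0; 0,1,1,0]
/-- matrix -/
def W9 : M8 := Matrix.fromBlocks !![1,0,0,0; 1,1,1,1; 0,0,0,1; 0,1,0,0] !![0,0,1,0; 1,1,1,1; 0,1,0,0; 0,0,0,1] !![1,0,1,0; 1,0,0,0; 1,0,0,0; 1,0,0,0] !![0,0,0,0; 0,0,0,0; 0,0,0,1; 0,1,0,0]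
/-- matrix -/
def W10 : M8 := Matrix.fromBlocks !![1,0,0,0; 0,0,1,0; 1,0,1,1; 0,1,1,1] !![0,1,1,0; 1,0,0,1; 1,0,0,1; 0,1,1,0] !![0,1,0,1; 1,0,0,0; 0,0,0,0; 1,0,0,0] !![0,0,1,0; 0,1,0,1; 0,1,0,1; 0,0,1,0]
theorem W_eq2 : W3 * W3 = W6 ∧ W3 * W6 = W9 ∧ W6 * W9 = 1 ∧ W5 * W5 = W10 ∧ W5 * W10 = 1 := by decide +kernel
theorem W_ne : W3 ≠ 1 ∧ W5 ≠ 1 := by decide +kernel
theorem W_card : (Finset.univ.filter fun v : I8 → ZMod 2 => W3.mulVec v = v).card = 1 := by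
  decide +kernel
/-- matrix -/
def Ga : M8 := Matrix.fromBlocks !![0,0,1,0; 0,0,1,1; 0,1,0,1; 1,1,0,0] !![1,1,0,0; 1,1,0,0; 0,0,1,0; 0,0,0,0] !![0,1,1,0; 1,0,1,1; 1,1,0,1; 0,1,1,0] !![0,0,0,1; 0,0,1,1; 1,1,0,0; 0,1,1,0]
/-- matrix -/
def Gb : M8 := Matrix.fromBlocks !![1,1,1,1; 1,1,1,0; 0,1,0,1; 1,0,1,1] !![1,1,1,1; 1,1,0,1; 1,0,1,0; 1,1,0,1] !![0,0,0,0; 0,1,1,1; 0,1,1,1; 0,1,1,1] !![1,1,0,1; 1,1,1,0; 1,1,0,1; 1,0,1,1]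
/-- matrix -/
def Gc : M8 := Matrix.fromBlocks !![0,0,1,0; 1,0,0,1; 0,0,1,0; 0,0,0,1] !![1,0,0,1; 0,1,0,0; 1,1,0,1; 0,0,1,0] !![1,1,0,0; 0,0,0,1; 1,1,0,1; 1,0,1,1] !![1,1,0,0; 1,1,1,0; 1,1,0,0; 0,1,0,0]
/-- matrix -/
def G1 : M8 := Matrix.fromBlocks !![0,1,0,1; 0,0,1,0; 0,1,0,0; 1,1,0,0] !![0,1,0,1; 0,1,0,1; 1,0,1,1; 1,1,1,0] !![0,1,1,0; 0,0,0,1; 0,1,1,1; 0,0,0,0] !![1,1,1,1; 1,1,0,0; 1,1,0,1; 1,0,0,0]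
theorem Ga_sq : Ga * Ga = 1 := by decide +kernel
theorem Gb_sq : Gb * Gb = 1 := by decide +kernel
theorem Ga_iso : ∀ v, Q8 (Ga.mulVec v) = Q8 v := by decide +kernel
theorem Gb_iso : ∀ v, Q8 (Gb.mulVec v) = Q8 v := by decide +kernel
theorem G_ab : Ga * Gb = Gc := by decide +kernel
theorem G_cc : Gc * Gc = G1 := by decide +kernel
/-- matrix -/
def G2 : M8 := Matrix.fromBlocks !![1,1,1,1; 0,1,0,1; 0,0,1,1; 0,1,1,1] !![1,1,1,1; 1,1,1,1; 1,1,1,1; 1,1,1,0] !![0,1,1,0; 1,0,1,1; 1,1,0,1; 0,1,1,0] !![1,0,0,0; 1,1,0,1; 1,0,1,1; 1,1,1,1]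
theorem G_eq : G1 * G1 = G2 ∧ G2 * G2 = 1 ∧ G2 ≠ 1 := by decide +kernel
theorem G_card : (Finset.univ.filter fun v : I8 → ZMod 2 => G2.mulVec v = v).card = 16 := by
  decide +kernel
theorem G_q : ∃ v : I8 → ZMod 2, G2.mulVec v = v ∧ Q8 v ≠ 0 := by decide +kernel
/-- matrix -/
def Na : M8 := Matrix.fromBlocks !![0,1,0,0; 1,0,0,0; 1,1,1,1; 0,0,0,1] !![0,0,0,0; 0,0,0,0; 0,0,0,0; 0,0,0,0] !![1,1,1,0; 1,1,1,0; 1,1,0,1; 0,0,1,1] !![0,1,1,0; 1,0,1,0; 0,0,1,0; 0,0,1,1]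
/-- matrix -/
def Nb : M8 := Matrix.fromBlocks !![1,0,0,0; 1,0,1,0; 1,1,0,1; 1,0,0,1] !![0,1,1,0; 1,1,1,1; 1,1,0,0; 0,1,0,0] !![1,0,0,1; 0,0,0,0; 0,0,0,0; 1,0,0,0] !![1,1,1,1; 0,0,1,0; 0,1,0,0; 0,0,1,1]
/-- matrix -/
def Nc : M8 := Matrix.fromBlocks !![1,0,1,0; 1,0,0,0; 0,1,1,0; 1,0,0,1] !![1,1,1,1; 0,1,1,0; 0,0,0,1; 0,1,0,0] !![1,1,1,1; 0,1,1,0; 1,0,1,1; 1,1,0,0] !![0,0,1,1; 1,1,1,0; 1,0,0,1; 1,1,1,1]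
/-- matrix -/
def N1 : M8 := Matrix.fromBlocks !![0,0,1,0; 0,1,1,1; 0,0,1,0; 0,1,0,1] !![0,1,0,1; 1,0,0,0; 1,0,0,0; 0,1,0,1] !![1,0,1,0; 1,1,0,0; 0,1,1,0; 1,1,0,0] !![1,0,1,0; 0,0,1,1; 0,1,1,0; 0,0,1,0]
theorem Na_sq : Na * Na = 1 := by decide +kernel
theorem Nb_sq : Nb * Nb = 1 := by decide +kernel
theorem Na_iso : ∀ v, Q8 (Na.mulVec v) = Q8 v := by decide +kernel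
theorem Nb_iso : ∀ v, Q8 (Nb.mulVec v) = Q8 v := by decide +kernel
theorem N_ab : Na * Nb = Nc := by decide +kernel
theorem N_cc : Nc * Nc = N1 := by decide +kernel
/-- matrix -/
def N2 : M8 := Matrix.fromBlocks !![0,0,1,0; 1,0,1,0; 1,0,0,0; 0,0,1,0] !![1,0,0,1; 1,1,1,1; 0,0,1,0; 1,1,0,0] !![1,1,0,0; 1,1,1,1; 1,1,1,1; 0,0,1,1] !![0,0,0,1; 1,0,0,1; 0,1,0,1; 1,0,1,1]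
/-- matrix -/
def N3 : M8 := Matrix.fromBlocks !![0,1,0,0; 1,1,0,0; 0,1,0,0; 0,1,0,0] !![0,0,0,0; 0,0,0,0; 0,0,1,1; 0,0,0,1] !![1,0,0,1; 0,1,0,0; 0,0,1,0; 0,1,1,1] !![1,1,1,1; 1,0,0,0; 0,0,0,1; 0,0,1,1]
/-- matrix -/
def N6 : M8 := Matrix.fromBlocks !![1,1,0,0; 1,0,0,0; 1,0,0,1; 1,0,1,1] !![0,0,0,0; 0,0,0,0; 0,0,1,0; 0,0,1,1] !![1,0,0,0; 0,1,0,1; 0,0,1,1; 1,0,0,1] !![0,1,0,0; 1,1,1,1; 0,0,0,0; 0,0,0,0]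
theorem N_eq : N1 * N1 = N2 ∧ N1 * N2 = N3 ∧ N3 * N3 = N6 ∧ N3 * N6 = 1 ∧ N3 ≠ 1 := by decide +kernel

end Cfsg.Agent.H547.Der.Eight
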