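import Cfsg.Agent.H547.Der.OctD
import Cfsg.Agent.H547.Der.OctMat
import Cfsg.Agent.H503.El.O8
import Cfsg.Agent.H686.SqGen

/-!
# `Ω⁺₈(2)` as an instance of `Oct` and its explicit elements (helper547, for S3500)
-/

set_option autoImplicit false

namespace Cfsg.Agent.H547.Der.Eight

open Subgroup Cfsg Cfsg.Agent.H503.El.O8 Cfsg.Agent.H547.Der.Oc

/-- the space -/
def V8 : Type := I8 → ZMod 2

instance instAddV8 : AddCommGroup V8 := inferInstanceAs (AddCommGroup (I8 → ZMod 2))
instance instModV8 : Module (ZMod 2) V8 := inferInstanceAs (Module (ZMod 2) (I8 → ZMod 2))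
instance instFinV8 : Finite V8 := inferInstanceAs (Finite (I8 → ZMod 2))

/-- the form -/
def q8 (v : V8) : ZMod 2 := Q8 v

/-- matrix times vector -/
def mv (A : M8) (v : V8) : V8 := Matrix.mulVec A (show I8 → ZMod 2 from v)

theorem mv_one (v : V8) : mv 1 v = v := Matrix.one_mulVec (show I8 → ZMod 2 from v)

theorem mv_mul (A B : M8) (v : V8) : mv (A * B) v = mv A (mv B v) :=
  (Matrix.mulVec_mulVec (show I8 → ZMod 2 from v) A B).symm

theorem mv_zero (A : M8) : mv A 0 = 0 := Matrix.mulVec_zero A

theorem mv_add (A : M8) (u v : V8) : mv A (u + v) = mv A u + mv A v := Matrix.mulVec_add A u v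

/-- the action on vectors -/
instance instActV8 : DistribMulAction S8 V8 where
  smul g v := mv (rho g) v
  one_smul v := by
    show mv (rho 1) v = v
    rw [map_one, mv_one]
  mul_smul a b v := by
    show mv (rho (a * b)) v = mv (rho a) (mv (rho b) v)
    rw [map_mul, mv_mul]
  smul_zero g := mv_zero _
  smul_add g u v := mv_add _ _ _

theorem vsmul_def (g : S8) (v : V8) : g • v = mv (rho g) v := rfl

instance instCommV8 : SMulCommClass S8 (ZMod 2) V8 where
  smul_comm g c v := Matrix.mulVec_smul (rho g) c (show I8 → ZMod 2 from v)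

theorem pol_eq (u v : V8) : pol q8 u v = ∑ i : Fin 4, (u (.inl i) * v (.inr i) + u (.inr i) * v (.inl i)) := by
  have h2 : (2 : ZMod 2) = 0 := rfl
  have hadd : ∀ i, (u + v) i = u i + v i := fun _ => rfl
  unfold pol q8 Q8 quadFormPlus
  simp only [Fin.sum_univ_four, hadd]
  linear_combination (u (.inl 0) * u (.inr 0) + u (.inl 1) * u (.inr 1) + u (.inl 2) * u (.inr 2) +
    u (.inl 3) * u (.inr 3) + v (.inl 0) * v (.inr 0) + v (.inl 1) * v (.inr 1) + v (.inl 2) * v (.inr 2) +
    v (.inl 3) * v (.inr 3)) * h2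

theorem pol_add (u v w : V8) : pol q8 (u + v) w = pol q8 u w + pol q8 v w := by
  have hadd : ∀ i, (u + v) i = u i + v i := fun _ => rfl
  simp only [pol_eq, Fin.sum_univ_four, hadd]
  ring

theorem pol_nd (u : V8) (h : ∀ v : V8, pol q8 u v = 0) : u = 0 := by
  funext i
  rcases i with i | i
  · have h1 := h (show V8 from Pi.single (M := fun _ : I8 => ZMod 2) (.inr i) 1)
    rw [pol_eq] at h1
    show u (.inl i) = 0
    simpa [Pi.single_apply, Finset.sum_add_distrib] using h1
  · have h1 := h (show V8 from Pi.single (M := fun _ : I8 => ZMod 2) (.inl i) 1)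
    rw [pol_eq] at h1
    show u (.inr i) = 0
    simpa [Pi.single_apply, Finset.sum_add_distrib] using h1

theorem pol_symm (u v : V8) : pol q8 u v = pol q8 v u := by
  simp only [pol_eq, Fin.sum_univ_four]
  ring

set_option maxRecDepth 100000 in
theorem card_sing : (Finset.univ.filter fun v : I8 → ZMod 2 => v ≠ 0 ∧ Q8 v = 0).card = 135 := by decide +kernel

theorem frm : H686.SqGen.Frm (ZMod 2) S8 (V := V8) (fun u v => pol q8 u v) where
  add := pol_add
  smul c u w := by
    have hs : ∀ i, (c • u) i = c * u i := fun _ => rfl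
    simp only [pol_eq, Fin.sum_univ_four, hs]
    ring
  refl u v h := by
    show pol q8 v u = 0
    rw [pol_symm]; exact h
  sub_right u v w := by
    have hs : ∀ i, (v - w) i = v i - w i := fun _ => rfl
    simp only [pol_eq, Fin.sum_univ_four, hs]
    ring
  inv g u v := by
    have h : ∀ v : V8, q8 (g • v) = q8 v := fun v => rho_iso g v
    show pol q8 (g • u) (g • v) = pol q8 u v
    unfold pol
    rw [← smul_add, h, h, h]
  nondeg := pol_nd

theorem card_V8 : Nat.card V8 = 256 := by
  have h : Nat.card V8 = Nat.card (I8 → ZMod 2) := rfl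
  rw [h, Nat.card_eq_fintype_card, Fintype.card_fun, ZMod.card, Fintype.card_sum, Fintype.card_fin]
  norm_num

theorem oct : Oct S8 V8 q8 where
  fin := inferInstance
  two v := CharTwo.add_self_eq_zero (R := I8 → ZMod 2) v
  card := card_V8
  sing := by
    have h : Nat.card {v : V8 // v ≠ 0 ∧ q8 v = 0} = Nat.card {v : I8 → ZMod 2 // v ≠ 0 ∧ Q8 v = 0} := rfl
    rw [h, Nat.card_eq_fintype_card, Fintype.card_subtype]
    exact card_sing
  zero := by
    show Q8 0 = 0
    unfold Q8 quadFormPlus
    simp
  add := pol_add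
  nd := pol_nd
  inv g v := rho_iso g v
  faith g h := by
    refine rho_injective ?_
    rw [map_one]
    refine Matrix.ext_of_mulVec_single fun i => ?_
    rw [Matrix.one_mulVec]
    exact h _
  iso_le R hR := by
    have h1 := H686.SqGen.card_isotropic_le frm (R := AddSubgroup.toZModSubmodule 2 R) (fun v hv w hw => hR v hv w hw)
    have h3 : Nat.card (AddSubgroup.toZModSubmodule 2 R) = Nat.card R := rfl
    rw [card_V8, h3] at h1
    by_contra hcon
    push Not at hcon
    have h4 := Nat.pow_le_pow_left (show 17 ≤ Nat.card R from hcon) 2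
    omega

end Cfsg.Agent.H547.Der.Eight
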