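import Cfsg.Agent.H547.Der.OctH
import Cfsg.Agent.OrdDiv.Main
import Cfsg.Agent.S0243
import Cfsg.Agent.ClassicalGeometry.PSL2Basic
import Cfsg.Agent.S0254
import Cfsg.Agent.S0813
import Cfsg.Agent.S0814
import Cfsg.Agent.S0815
import Cfsg.Agent.S2119

/-!
# The simple groups of order 60, 360 and 25920 and their automorphism groups (helper547, for S3500)
-/

set_option autoImplicit false

namespace Cfsg.Agent.H547.Der.Oc

open Cfsg Cfsg.Agent.OrdDiv

theorem card_pgl {F : Type} [Field F] [Fintype F] {n : ℕ} (hn : 2 ≤ n) : Nat.card (Matrix.ProjGenLinGroup (Fin n) F) =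
    Nat.gcd n (Fintype.card F - 1) * Nat.card (Matrix.ProjectiveSpecialLinearGroup (Fin n) F) := by
  classical
  haveI : NeZero n := ⟨by omega⟩
  have h1 := Cfsg.Agent.S0243.result (F := F) rfl n hn
  have h2 : Nat.card (Matrix.ProjGenLinGroup (Fin n) F) * (Fintype.card F - 1) = Nat.card (Matrix.GeneralLinearGroup (Fin n) F) :=
    Cfsg.Agent.ClassicalGeometry.PSL2Basic.card_PGL_mul (Fin n) F
  rw [Matrix.card_GL_field, ← h1] at h2
  have h3 : 0 < Fintype.card F - 1 := by
    have := Fintype.one_lt_card (α := F)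
    omega
  have h4 : Nat.card (Matrix.ProjGenLinGroup (Fin n) F) * (Fintype.card F - 1) =
    (Nat.gcd n (Fintype.card F - 1) * Nat.card (Matrix.ProjectiveSpecialLinearGroup (Fin n) F)) *
      (Fintype.card F - 1) := by
    rw [h2]; ring
  exact Nat.eq_of_mul_eq_mul_right h3 h4

theorem mulAut_psl {F : Type} [Field F] [Fintype F] {p f : ℕ} (hp : p.Prime) (hf : 1 ≤ f)
    (hF : Fintype.card F = p ^ f) (h4 : 4 ≤ p ^ f) {X : Type} [Group X]
    (e : X ≃* Matrix.ProjectiveSpecialLinearGroup (Fin 2) F) :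
    Nat.card (MulAut X) = f * Nat.gcd 2 (p ^ f - 1) * Nat.card X := by
  have hfp : Fact p.Prime := ⟨hp⟩
  rw [Nat.card_congr (MulAut.congr e).toEquiv, Cfsg.Agent.S0813.result p f hf hF 2 le_rfl (fun _ => h4),
    card_pgl le_rfl, hF, Nat.card_congr e.toEquiv]
  simp only [if_true]
  ring

set_option maxRecDepth 100000 in
theorem tab_of (OT : OrderTable.{0})
    (hS : ∀ (X : Type) [Group X] [Finite X] [IsSimpleGroup X], Cfsg.IsKnownSimple' X)
    (X : Type) [Group X] [Finite X] (hs : IsSimpleGroup X) (hna : ¬ ∀ a b : X, a * b = b * a)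
    (hd : Nat.card X ∣ 174182400) (h7 : ¬ 7 ∣ Nat.card X) : Tab X := by
  obtain ⟨g, hg, hreal, hcard⟩ := exists_good OT (hS X) hna (l := [(2, 12), (3, 5), (5, 2), (7, 1)]) (N := 174182400)
    (by decide +kernel) hd
  have hj : (cands [(2, 12), (3, 5), (5, 2), (7, 1)] 174182400).all (fun g => match g with
      | .alt n => Nat.beq (ordN g % 7) 0 || (Nat.beq n 5 || Nat.beq n 6)
      | .psl n q => Nat.beq (ordN g % 7) 0 || (Nat.beq n 2 && (Nat.beq q 4 || (Nat.beq q 5 || Nat.beq q 9)))
      | .psp n q => Nat.beq (ordN g % 7) 0 || (Nat.beq n 2 && Nat.beq q 3)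
      | .psu n q => Nat.beq (ordN g % 7) 0 || (Nat.beq n 4 && Nat.beq q 2)
      | _ => Nat.beq (ordN g % 7) 0) = true := by decide +kernel
  rw [List.all_eq_true] at hj
  have hj' := hj g hg
  have h70 : ¬ Nat.beq (ordN g % 7) 0 = true := by
    intro h
    rw [Nat.beq_eq] at h
    apply h7
    rw [hcard]
    exact Nat.dvd_of_mod_eq_zero h
  cases g with
  | alt n =>
    simp only [Bool.or_eq_true] at hj'
    rcases hj' with h | h | h
    · exact absurd h h70
    · rw [Nat.beq_eq] at h
      subst h
      obtain ⟨e⟩ := hreal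
      left
      refine ⟨by rw [hcard]; decide +kernel, ?_⟩
      rw [Nat.card_congr (MulAut.congr e).toEquiv,
        ← Nat.card_congr (Equiv.ofBijective _ (Cfsg.Agent.S2119.result 5 (by norm_num) (by norm_num))), Nat.card_perm,
        Nat.card_eq_fintype_card, Fintype.card_fin]
      decide
    · rw [Nat.beq_eq] at h
      subst h
      obtain ⟨e⟩ := hreal
      have : Fact (Nat.Prime 3) := ⟨Nat.prime_three⟩
      have : Fintype (GaloisField 3 2) := Fintype.ofFinite _
      have hF : Fintype.card (GaloisField 3 2) = 3 ^ 2 := by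
        rw [← Nat.card_eq_fintype_card]
        exact GaloisField.card 3 2 (by norm_num)
      obtain ⟨e2⟩ := Cfsg.Agent.S0254.result (F := GaloisField 3 2) (by rw [hF]; norm_num)
      right; left
      have h1 : Nat.card X = 360 := by rw [hcard]; decide +kernel
      refine ⟨h1, ?_⟩
      rw [mulAut_psl Nat.prime_three (by norm_num) hF (by norm_num) (e.trans e2.symm), h1]
      decide
  | psl n q =>
    simp only [Bool.or_eq_true, Bool.and_eq_true] at hj'
    rcases hj' with h | ⟨hn, h⟩
    · exact absurd h h70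
    · rw [Nat.beq_eq] at hn
      subst hn
      rcases h with h | h | h <;> rw [Nat.beq_eq] at h <;> subst h
      · obtain ⟨F, _, _, hF, ⟨e⟩⟩ := hreal
        left
        have h1 : Nat.card X = 60 := by rw [hcard]; decide +kernel
        refine ⟨h1, ?_⟩
        rw [mulAut_psl (p := 2) (f := 2) Nat.prime_two (by norm_num) (by rw [hF]; norm_num) (by norm_num) e, h1]
        decide
      · obtain ⟨F, _, _, hF, ⟨e⟩⟩ := hreal
        left
        have h1 : Nat.card X = 60 := by rw [hcard]; decide +kernel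
        refine ⟨h1, ?_⟩
        rw [mulAut_psl (p := 5) (f := 1) Nat.prime_five (by norm_num) (by rw [hF]; norm_num) (by norm_num) e, h1]
        decide
      · obtain ⟨F, _, _, hF, ⟨e⟩⟩ := hreal
        right; left
        have h1 : Nat.card X = 360 := by rw [hcard]; decide +kernel
        refine ⟨h1, ?_⟩
        rw [mulAut_psl (p := 3) (f := 2) Nat.prime_three (by norm_num) (by rw [hF]; norm_num) (by norm_num) e, h1]
        decide
  | psp n q =>
    simp only [Bool.or_eq_true, Bool.and_eq_true] at hj'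
    rcases hj' with h | ⟨hn, h⟩
    · exact absurd h h70
    · rw [Nat.beq_eq] at hn h
      subst hn h
      obtain ⟨F, _, _, hF, ⟨e⟩⟩ := hreal
      right; right
      have h1 : Nat.card X = 25920 := by rw [hcard]; decide +kernel
      refine ⟨h1, ?_⟩
      have h3 : Fact (Nat.Prime 3) := ⟨Nat.prime_three⟩
      have h2 := Cfsg.Agent.S0814.result (F := F) 3 1 le_rfl (by rw [hF]; norm_num) 2 le_rfl (fun _ => by norm_num)
      rw [← Nat.card_congr e.toEquiv, h1, ← Nat.card_congr (MulAut.congr e).toEquiv] at h2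
      rw [h2]
      decide
  | psu n q =>
    simp only [Bool.or_eq_true, Bool.and_eq_true] at hj'
    rcases hj' with h | ⟨hn, h⟩
    · exact absurd h h70
    · rw [Nat.beq_eq] at hn h
      subst hn h
      obtain ⟨F, _, _, hF, ⟨e⟩⟩ := hreal
      right; right
      have h1 : Nat.card X = 25920 := by rw [hcard]; decide +kernel
      refine ⟨h1, ?_⟩
      have h3 : Fact (Nat.Prime 2) := ⟨Nat.prime_two⟩
      have h2 := Cfsg.Agent.S0815.result (F := F) 2 1 le_rfl (q := 2) (by norm_num) (by rw [hF]) 4 (by norm_num)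
        (by norm_num)
      rw [← Nat.card_congr e.toEquiv, h1, ← Nat.card_congr (MulAut.congr e).toEquiv] at h2
      rw [h2]
      decide
  | _ => exact absurd hj' h70

end Cfsg.Agent.H547.Der.Oc
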