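import Cfsg.Agent.H547.Der.OctI
import Cfsg.Agent.H547.Der.OctEl
import Cfsg.Agent.H547.Der.OctTab
import Cfsg.Agent.S2146
import Cfsg.Agent.S2607
import Cfsg.Agent.H251.Small.Num

/-!
# `Ω⁺₈(2)`: the local cases (helper547, for S3500)
-/

set_option autoImplicit false

namespace Cfsg.Agent.H547.Der.Eight

open Subgroup Cfsg Cfsg.Agent.H503.El.O8 Cfsg.Agent.H547.Der.Oc Cfsg.Agent.H439.Der Cfsg.Agent Cfsg.Agent.H970.StabNum
open Cfsg.Agent.H396

/-- the action of the simple group -/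
noncomputable instance instActT8 : DistribMulAction T8 V8 := DistribMulAction.compHom V8 (e8.symm.toMonoidHom : T8 →* S8)

theorem tsmul_def (g : T8) (v : V8) : g • v = e8.symm g • v := rfl

theorem smul_e8 (g : S8) (v : V8) : e8 g • v = g • v := by rw [tsmul_def, e8.symm_apply_apply]

theorem octT : Oct T8 V8 q8 where
  fin := oct.fin
  two := oct.two
  card := oct.card
  sing := oct.sing
  zero := oct.zero
  add := oct.add
  nd := oct.nd
  inv g v := oct.inv (e8.symm g) v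
  faith g h := (map_eq_one_iff e8.symm e8.symm.injective).1 (oct.faith (e8.symm g) h)
  iso_le := oct.iso_le

theorem fx_e8 (g : S8) : fx V8 (e8 g) = fx V8 g := by
  ext v
  rw [mem_fx, mem_fx, smul_e8]

/-! ### the elements -/

noncomputable def tz1 : T8 := e8 z1
noncomputable def tz2 : T8 := e8 z2
noncomputable def tg4 : T8 := e8 g4
noncomputable def tw9 : T8 := e8 w9

theorem order_tz1 : orderOf tz1 = 15 := (MulEquiv.orderOf_eq e8 z1).trans order_z1
theorem order_tz2 : orderOf tz2 = 15 := (MulEquiv.orderOf_eq e8 z2).trans order_z2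
theorem order_tg4 : orderOf tg4 = 4 := (MulEquiv.orderOf_eq e8 g4).trans order_g4
theorem order_tw9 : orderOf tw9 = 9 := (MulEquiv.orderOf_eq e8 w9).trans order_w9

theorem card_tz1 : Nat.card (fx V8 (tz1 ^ 3)) = 16 := by
  have h : tz1 ^ 3 = e8 (z1 ^ 3) := (map_pow e8 z1 3).symm
  rw [h, fx_e8, card_z1]

theorem card_tz2 : Nat.card (fx V8 (tz2 ^ 3)) = 1 := by
  have h : tz2 ^ 3 = e8 (z2 ^ 3) := (map_pow e8 z2 3).symm
  rw [h, fx_e8, card_z2]

theorem order_tz1_3 : orderOf (tz1 ^ 3) = 5 := by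
  rw [orderOf_pow' _ (by norm_num), order_tz1]; decide

theorem order_tz2_3 : orderOf (tz2 ^ 3) = 5 := by
  rw [orderOf_pow' _ (by norm_num), order_tz2]; decide

theorem order_tz1_5 : orderOf (tz1 ^ 5) = 3 := by
  rw [orderOf_pow' _ (by norm_num), order_tz1]; decide

theorem order_tg4_2 : orderOf (tg4 ^ 2) = 2 := by
  rw [orderOf_pow' _ (by norm_num), order_tg4]; decide

theorem order_tw9_3 : orderOf (tw9 ^ 3) = 3 := by
  rw [orderOf_pow' _ (by norm_num), order_tw9]; decide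

theorem fx_tt : (∀ u ∈ fx V8 (tg4 ^ 2), ∀ w ∈ fx V8 (tg4 ^ 2), pol q8 u w = 0) ∧ ∃ u ∈ fx V8 (tg4 ^ 2), q8 u ≠ 0 := by
  have h : tg4 ^ 2 = e8 (g4 ^ 2) := (map_pow e8 g4 2).symm
  rw [h, fx_e8]
  exact fx_t

/-- no automorphism image of `tg4 ^ 2` commutes with an element of order 5 -/
theorem no_five (φ : T8 ≃* T8) {y : T8} (hy : orderOf y = 5) (h : y * φ (tg4 ^ 2) = φ (tg4 ^ 2) * y) : False := by
  refine octT.no_five_t (t := tg4 ^ 2) (y := φ.symm y) order_tg4_2 fx_tt.1 fx_tt.2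
    (by rw [MulEquiv.orderOf_eq, hy]) ?_
  apply φ.injective
  rw [map_mul, map_mul, φ.apply_symm_apply, h]

/-- no automorphism image of `tg4 ^ 2` commutes with an element of order 3 commuting with an element of order 5 -/
theorem no_three (φ : T8 ≃* T8) (a y : T8) (ha : orderOf a = 3) (hy : orderOf y = 5) (h : a * y = y * a) :
    a * (φ tg4) ^ 2 ≠ (φ tg4) ^ 2 * a := by
  intro h2
  refine octT.no_comm_t (a := φ.symm a) (y := φ.symm y) (t := tg4 ^ 2) (by rw [MulEquiv.orderOf_eq, ha])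
    (by rw [MulEquiv.orderOf_eq, hy]) ?_ order_tg4_2 fx_tt.1 fx_tt.2 ?_
  · apply φ.injective
    rw [map_mul, map_mul, φ.apply_symm_apply, φ.apply_symm_apply, h]
  · apply φ.injective
    rw [map_mul, map_mul, φ.apply_symm_apply, map_pow, h2]

/-! ### the cases -/

theorem caseA {M : Subgroup T8} (h5 : ¬ 5 ∣ Nat.card M) : Two T8 M :=
  Two.of_not_dvd h5 (not_SC_of_orderOf (by norm_num) (y := tz1) (by rw [order_tz1]; norm_num)
    (by rw [order_tz1]; norm_num))

theorem caseB {M : Subgroup T8} (h25 : ¬ 25 ∣ Nat.card M) : TwoT T8 M := by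
  rcases miss_or (M := M) (p := 5) (by norm_num) (by simpa using h25) order_tz1_3 order_tz2_3 (by
    intro g hg
    have h1 : zpowers (g * tz1 ^ 3 * g⁻¹) = zpowers (tz2 ^ 3) := by
      refine Subgroup.eq_of_le_of_card_ge (zpowers_le.2 hg) ?_
      rw [Nat.card_zpowers, Nat.card_zpowers, orderOf_conj, order_tz1_3, order_tz2_3]
    have h2 : tz2 ^ 3 ∈ zpowers (g * tz1 ^ 3 * g⁻¹) := by rw [h1]; exact mem_zpowers _
    obtain ⟨n, hn⟩ := (isOfFinOrder_of_finite (g * tz1 ^ 3 * g⁻¹)).mem_powers_iff_mem_zpowers.2 h2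
    have hn' : (g * tz1 ^ 3 * g⁻¹) ^ n = tz2 ^ 3 := hn
    have h3 : fx V8 (g * tz1 ^ 3 * g⁻¹) ≤ fx V8 (tz2 ^ 3) := by
      rw [← hn']
      exact fx_le_pow _ n
    have h4 : Nat.card (fx V8 (g * tz1 ^ 3 * g⁻¹)) ≤ Nat.card (fx V8 (tz2 ^ 3)) :=
      Nat.card_le_card_of_injective (AddSubgroup.inclusion h3) (AddSubgroup.inclusion_injective _)
    rw [card_fx_conj, card_tz1, card_tz2] at h4
    norm_num at h4) with h | h
  · exact twoT_of_ne h (Miss.of_pow h) (by rw [order_tz1_3, order_tz1]; norm_num)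
  · exact twoT_of_ne h (Miss.of_pow h) (by rw [order_tz2_3, order_tz2]; norm_num)

theorem noSyl {M : Subgroup T8} (h2 : ¬ 4096 ∣ Nat.card M) (h3 : ¬ 243 ∣ Nat.card M) : NoSyl T8 M := by
  intro s hs hd hsyl
  have h1 := S2607.result (F := ZMod 2) (f := 1) (m := 4) le_rfl (by rw [ZMod.card]; norm_num) le_rfl
  rw [if_pos rfl] at h1
  obtain ⟨e⟩ := h1
  have h4 : Nat.card (Cfsg.Out T8) = 6 := by
    have h5 : Nat.card (Cfsg.Out T8) = Nat.card (Equiv.Perm (Fin 3) × Multiplicative (ZMod 1)) := Nat.card_congr e.toEquiv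
    rw [h5, Nat.card_prod, Nat.card_perm, Nat.card_congr Multiplicative.toAdd, Nat.card_zmod,
      Nat.card_eq_fintype_card, Fintype.card_fin]
    decide
  rw [h4] at hd
  have h5 : s = 2 ∨ s = 3 := by
    rcases (Nat.Prime.dvd_mul hs).1 (show s ∣ 2 * 3 from hd) with h6 | h6
    · exact Or.inl ((Nat.prime_dvd_prime_iff_eq hs Nat.prime_two).1 h6)
    · exact Or.inr ((Nat.prime_dvd_prime_iff_eq hs Nat.prime_three).1 h6)
  rcases h5 with rfl | rfl
  · apply h2
    have h6 : 12 ≤ (Nat.card T8).factorization 2 :=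
      (Nat.Prime.pow_dvd_iff_le_factorization Nat.prime_two Nat.card_pos.ne').1 (by rw [card_t8]; norm_num)
    have h7 : 2 ^ 12 ∣ Nat.card M := (pow_dvd_pow 2 h6).trans hsyl
    simpa using h7
  · apply h3
    have h6 : 5 ≤ (Nat.card T8).factorization 3 :=
      (Nat.Prime.pow_dvd_iff_le_factorization Nat.prime_three Nat.card_pos.ne').1 (by rw [card_t8]; norm_num)
    have h7 : 3 ^ 5 ∣ Nat.card M := (pow_dvd_pow 3 h6).trans hsyl
    simpa using h7

theorem index_ge (M : Subgroup T8) (hM : M ≠ ⊤) : 120 ≤ M.index := by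
  have h := (S2146.result (F := ZMod 2) (ZMod.card 2) 4 le_rfl).1 M hM
  norm_num at h
  exact h

/-- stabilizers of nonsingular vectors -/
theorem card_stab {M : Subgroup T8} {d : V8} (hd : q8 d ≠ 0) (hM : M ≤ MulAction.stabilizer T8 d) :
    Nat.card M ∣ 1451520 := by
  have h1 : MulAction.stabilizer T8 d ≠ ⊤ := by
    intro h
    have h2 : tz2 ^ 3 ∈ MulAction.stabilizer T8 d := by rw [h]; trivial
    have h3 : d ∈ fx V8 (tz2 ^ 3) := h2
    have h4 : fx V8 (tz2 ^ 3) = ⊥ := AddSubgroup.eq_bot_of_card_eq _ card_tz2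
    rw [h4] at h3
    have h5 : d = 0 := h3
    exact hd (by rw [h5]; exact octT.zero)
  have h2 := index_ge _ h1
  have h3 := octT.index_le (G := T8) hd
  have h4 := (MulAction.stabilizer T8 d).card_mul_index
  have h5 : (MulAction.stabilizer T8 d).index = 120 := le_antisymm h3 h2
  rw [h5, card_t8] at h4
  have h6 : Nat.card (MulAction.stabilizer T8 d) = 1451520 := by omega
  rw [← h6]
  exact Subgroup.card_dvd_of_le hM

theorem caseC {M : Subgroup T8} (h : pCore 2 M ≠ ⊥) : Two T8 M ∨ (TwoT T8 M ∧ NoSyl T8 M) := by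
  rcases octT.two_local h with ⟨d, hd, hM⟩ | ⟨h9, h7⟩
  · right
    have h1 := card_stab hd hM
    refine ⟨caseB fun h2 => ?_, noSyl (fun h2 => ?_) fun h2 => ?_⟩ <;>
    · have := h2.trans h1
      norm_num at this
  · left
    by_cases h7M : 7 ∣ Nat.card M
    · have h7p : Fact (Nat.Prime 7) := ⟨by norm_num⟩
      obtain ⟨x, hx⟩ := exists_prime_orderOf_dvd_card' (G := M) 7 h7M
      refine ⟨tw9, tw9 ^ 3, fun φ hφ => ?_, fun φ hφ => ?_, fun φ hφ => ?_⟩
      · exact h9 _ hφ (by rw [MulEquiv.orderOf_eq, order_tw9])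
      · rw [map_pow] at hφ
        exact h7 x x.2 (φ tw9) (by rw [Subgroup.orderOf_coe, hx]) (by rw [MulEquiv.orderOf_eq, order_tw9]) hφ
      · have h1 := congrArg orderOf hφ
        rw [MulEquiv.orderOf_eq, order_tw9, order_tw9_3] at h1
        norm_num at h1
    · have h7p : Fact (Nat.Prime 7) := ⟨by norm_num⟩
      obtain ⟨x, hx⟩ := exists_prime_orderOf_dvd_card' (G := T8) 7 (by rw [card_t8]; norm_num)
      refine ⟨x, tw9, not_mem_of_dvd h7M (by rw [hx]), fun φ hφ => ?_, fun φ hφ => ?_⟩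
      · exact h9 _ hφ (by rw [MulEquiv.orderOf_eq, order_tw9])
      · have h1 := congrArg orderOf hφ
        rw [MulEquiv.orderOf_eq, order_tw9, hx] at h1
        norm_num at h1

theorem prime_of_dvd {p : ℕ} (hp : p.Prime) (hd : p ∣ 174182400) : p = 2 ∨ p = 3 ∨ p = 5 ∨ p = 7 := by
  rw [show 174182400 = 2 ^ 12 * 3 ^ 5 * 5 ^ 2 * 7 by norm_num] at hd
  rcases hp.dvd_mul.1 hd with hd | hd
  · rcases hp.dvd_mul.1 hd with hd | hd
    · rcases hp.dvd_mul.1 hd with hd | hd
      · exact Or.inl ((Nat.prime_dvd_prime_iff_eq hp Nat.prime_two).1 (hp.dvd_of_dvd_pow hd))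
      · exact Or.inr (Or.inl ((Nat.prime_dvd_prime_iff_eq hp Nat.prime_three).1 (hp.dvd_of_dvd_pow hd)))
    · exact Or.inr (Or.inr (Or.inl ((Nat.prime_dvd_prime_iff_eq hp Nat.prime_five).1 (hp.dvd_of_dvd_pow hd))))
  · exact Or.inr (Or.inr (Or.inr ((Nat.prime_dvd_prime_iff_eq hp (by norm_num)).1 hd)))

theorem caseE (OT : OrdDiv.OrderTable.{0})
    (hS : ∀ (X : Type) [Group X] [Finite X] [IsSimpleGroup X], Cfsg.IsKnownSimple' X)
    {M : Subgroup T8} (h7 : ¬ 7 ∣ Nat.card M) (h5 : 5 ∣ Nat.card M)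
    (hbig : 25 ∣ Nat.card M ∨ 4096 ∣ Nat.card M ∨ 243 ∣ Nat.card M) : Two T8 M ∨ (TwoT T8 M ∧ NoSyl T8 M) := by
  by_contra hcon
  have h7p : Fact (Nat.Prime 7) := ⟨by norm_num⟩
  obtain ⟨x, hx⟩ := exists_prime_orderOf_dvd_card' (G := T8) 7 (by rw [card_t8]; norm_num)
  have hcard : Nat.card M ∣ 174182400 := by rw [← card_t8]; exact card_subgroup_dvd_card M
  have h125 : ¬ 125 ∣ Nat.card M := fun h => by
    have := h.trans hcard
    norm_num at this
  -- all the elements of other orders are hit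
  have hit : ∀ z : T8, orderOf z ≠ 7 → ∃ φ : T8 ≃* T8, φ z ∈ M := by
    intro z hz
    by_contra h
    push Not at h
    refine hcon (Or.inl ⟨x, z, not_mem_of_dvd h7 (by rw [hx]), h, fun φ hφ => hz ?_⟩)
    rw [← hφ, MulEquiv.orderOf_eq, hx]
  obtain ⟨φ, hφ⟩ := hit tw9 (by rw [order_tw9]; norm_num)
  obtain ⟨ψ, hψ⟩ := hit (tz1 ^ 5) (by rw [order_tz1_5]; norm_num)
  obtain ⟨χ, hχ⟩ := hit tg4 (by rw [order_tg4]; norm_num)
  by_cases h27 : 27 ∣ Nat.card M
  · obtain ⟨p, hp, hpc⟩ := octT.exists_pCore (M := M) h27 h125 (fun X _ _ hs hna hd =>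
      tab_of OT hS X hs hna (hd.trans hcard) fun h => h7 (h.trans hd)) hbig
    have hfp : Fact p.Prime := ⟨hp⟩
    have hpM : p ∣ Nat.card M := by
      obtain ⟨k, hk⟩ := IsPGroup.iff_card.1 (Lib.Cores.pCore_isPGroup (G := M) p)
      have hk0 : k ≠ 0 := by
        rintro rfl
        exact hpc (Subgroup.eq_bot_of_card_eq _ (by rw [hk, pow_zero]))
      exact ((dvd_pow_self p hk0).trans (by rw [hk])).trans (card_subgroup_dvd_card (pCore p M))
    have hn := Lib.Cores.pCore_normal (G := M) p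
    rcases prime_of_dvd hp (hpM.trans hcard) with rfl | rfl | rfl | rfl
    · exact hcon (caseC hpc)
    · exact octT.no_normal3 (pCore 3 M) (Lib.Cores.pCore_isPGroup 3) hpc h5 hχ (no_three χ)
    · exact octT.no_normal5 (pCore 5 M) (Lib.Cores.pCore_isPGroup 5) hpc h125 h27
    · exact h7 hpM
  · -- the Sylow 3-subgroups are cyclic of order 9
    set w := φ tw9 with hw
    have hwo : orderOf w = 9 := by rw [hw, MulEquiv.orderOf_eq, order_tw9]
    obtain ⟨m, hm, hmt⟩ := exists_conj_mem (M := M) (p := 3) (k := 2) Nat.prime_three (W := zpowers w)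
      (by rw [Nat.card_zpowers, hwo]; norm_num) (by rwa [zpowers_le]) (by simpa using h27) hψ
      (by rw [MulEquiv.orderOf_eq, order_tz1_5])
    set t := m * ψ (tz1 ^ 5) * m⁻¹ with ht
    have hto : orderOf t = 3 := by rw [ht, orderOf_conj, MulEquiv.orderOf_eq, order_tz1_5]
    obtain ⟨k, hk⟩ := cube_eq_pow hwo hmt hto
    have hw3 : orderOf (w ^ 3) = 3 := by
      rw [orderOf_pow' _ (by norm_num), hwo]; decide
    have h1 : zpowers (w ^ 3) = zpowers t := by
      refine Subgroup.eq_of_le_of_card_ge (zpowers_le.2 (by rw [← hk]; exact pow_mem (mem_zpowers t) k)) ?_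
      rw [Nat.card_zpowers, Nat.card_zpowers, hw3, hto]
    have h2 : t ∈ zpowers (w ^ 3) := by rw [h1]; exact mem_zpowers _
    obtain ⟨n, hn⟩ := (isOfFinOrder_of_finite (w ^ 3)).mem_powers_iff_mem_zpowers.2 h2
    have hn' : (w ^ 3) ^ n = t := hn
    have h3 : fx V8 t = fx V8 (w ^ 3) := by
      apply le_antisymm
      · rw [← hk]; exact fx_le_pow t k
      · rw [← hn']; exact fx_le_pow (w ^ 3) n
    have h4 := (octT.cube_nine hwo).1
    rw [← h3, ht, card_fx_conj] at h4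
    have h6 := octT.three_five (a := ψ (tz1 ^ 5)) (y := ψ (tz1 ^ 3)) (by rw [MulEquiv.orderOf_eq, order_tz1_5])
      (by rw [MulEquiv.orderOf_eq, order_tz1_3]) (by
        rw [← map_mul, ← map_mul, ← pow_add, ← pow_add])
    rw [h4] at h6
    rcases h6 with h6 | h6
    · exact absurd h6.2 (by norm_num)
    · exact absurd h6.2.1 (by norm_num)

end Cfsg.Agent.H547.Der.Eight
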