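import Cfsg.Agent.H547.Der.OctI
import Mathlib.LinearAlgebra.BilinearForm.Orthogonal
import Mathlib.LinearAlgebra.Dual.Lemmas

/-!
# Quadratic space with 256 vectors: orthogonal complements, invariant totally singular subspaces (helper547, for S3502)
-/

set_option autoImplicit false

namespace Cfsg.Agent.H547.Der.Oc

open MulAction Subgroup

variable {G V : Type*} [Group G] [AddCommGroup V] [DistribMulAction G V] {q : V → ZMod 2}

namespace Oct

/-- orthogonal complement -/
def perp (A : Oct G V q) (R : AddSubgroup V) : AddSubgroup V where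
  carrier := {v | ∀ w ∈ R, pol q v w = 0}
  add_mem' := fun {a b} ha hb c hc => by rw [A.add, ha c hc, hb c hc, add_zero]
  zero_mem' := fun c _ => A.pol_zero_left c
  neg_mem' := fun {a} ha c hc => by rw [A.neg]; exact ha c hc

theorem mem_perp {A : Oct G V q} {R : AddSubgroup V} {v : V} : v ∈ A.perp R ↔ ∀ w ∈ R, pol q v w = 0 := Iff.rfl

variable (A : Oct G V q)

include A

/-- `|R| |R^⊥| = 256` -/
theorem card_perp (R : AddSubgroup V) : Nat.card R * Nat.card (A.perp R) = 256 := by
  have hfin := A.fin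
  let : Module (ZMod 2) V := AddCommGroup.zmodModule (n := 2) fun x => by rw [two_smul]; exact A.two x
  have hfd : FiniteDimensional (ZMod 2) V := Module.Finite.of_finite
  let B : LinearMap.BilinForm (ZMod 2) V :=
    { toFun := fun u => (AddMonoidHom.toZModLinearMap 2
        { toFun := fun v => pol q u v
          map_zero' := A.pol_zero_right u
          map_add' := fun a b => A.add_right u a b } : V →ₗ[ZMod 2] ZMod 2)
      map_add' := fun a b => LinearMap.ext fun v => A.add a b v
      map_smul' := fun c u => LinearMap.ext fun v => by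
        have h : c = 0 ∨ c = 1 := by revert c; decide
        rcases h with rfl | rfl
        · rw [RingHom.id_apply, LinearMap.smul_apply]
          show pol q ((0 : ZMod 2) • u) v = (0 : ZMod 2) • pol q u v
          rw [zero_smul, zero_smul, A.pol_zero_left]
        · rw [RingHom.id_apply, LinearMap.smul_apply]
          show pol q ((1 : ZMod 2) • u) v = (1 : ZMod 2) • pol q u v
          rw [one_smul, one_smul] }
  have hB : ∀ u v : V, B u v = pol q u v := fun _ _ => rfl
  have hr : B.IsRefl := fun u v h => by rw [hB, pol_comm]; exact h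
  have hnd : B.Nondegenerate := by
    refine ⟨fun u h => A.nd u h, fun u h => A.nd u fun v => ?_⟩
    rw [pol_comm]
    exact h v
  set W := AddSubgroup.toZModSubmodule 2 R with hW
  have h1 := LinearMap.BilinForm.finrank_orthogonal hnd W
  have h2 : Module.finrank (ZMod 2) V = 8 := by
    have h3 := Module.natCard_eq_pow_finrank (K := ZMod 2) (V := V)
    rw [A.card, Nat.card_zmod] at h3
    have h4 : (2 : ℕ) ^ 8 = 2 ^ Module.finrank (ZMod 2) V := by rw [← h3]; norm_num
    exact (Nat.pow_right_injective (le_refl 2) h4).symm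
  have h3 : Module.finrank (ZMod 2) W ≤ 8 := by rw [← h2]; exact Submodule.finrank_le W
  have h4 : Nat.card R = 2 ^ Module.finrank (ZMod 2) W := by
    have h5 := Module.natCard_eq_pow_finrank (K := ZMod 2) (V := W)
    rw [Nat.card_zmod] at h5
    exact h5
  have h5 : Nat.card (A.perp R) = 2 ^ Module.finrank (ZMod 2) (B.orthogonal W) := by
    have h6 := Module.natCard_eq_pow_finrank (K := ZMod 2) (V := B.orthogonal W)
    rw [Nat.card_zmod] at h6
    rw [← h6]
    refine Nat.card_congr (Equiv.subtypeEquivRight fun v => ?_)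
    constructor
    · intro h w hw
      show B w v = 0
      rw [hB, pol_comm]
      exact h w hw
    · intro h w hw
      have h7 : B w v = 0 := h w hw
      rw [hB, pol_comm] at h7
      exact h7
  rw [h4, h5, h1, h2, ← pow_add, show Module.finrank (ZMod 2) W + (8 - Module.finrank (ZMod 2) W) = 8 by omega]
  norm_num

omit A in
theorem pol_zero_of_ts {R : AddSubgroup V} (h : ∀ u ∈ R, q u = 0) : ∀ u ∈ R, ∀ w ∈ R, pol q u w = 0 := by
  intro u hu w hw
  unfold pol
  rw [h _ (R.add_mem hu hw), h u hu, h w hw]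
  rfl

theorem perp_anti {R S : AddSubgroup V} (h : R ≤ S) : A.perp S ≤ A.perp R := fun _ hv w hw => hv w (h hw)

theorem fx_eq_perp (g : G) : fx V g = A.perp (cm V g) := by
  have hfin := A.fin
  have h1 := A.card_mul g
  have h2 := A.card_perp (cm V g)
  have h0 : 0 < Nat.card (cm V g) := Nat.card_pos
  have h3 : Nat.card (fx V g) = Nat.card (A.perp (cm V g)) := by
    rw [mul_comm] at h1
    exact Nat.eq_of_mul_eq_mul_left h0 (h1.trans h2.symm)
  exact AddSubgroup.eq_of_le_of_card_ge (fun v hv w hw => A.pol_fx_cm hv hw) h3.symm.le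

theorem smul_mem_perp {R : AddSubgroup V} {g : G} (h : ∀ v ∈ R, g⁻¹ • v ∈ R) {v : V} (hv : v ∈ A.perp R) :
    g • v ∈ A.perp R := by
  intro w hw
  have h1 := hv _ (h w hw)
  rwa [← A.pol_smul g, smul_inv_smul] at h1

/-- totally singular subspaces invariant under a cube of an element of order 9 -/
theorem ts_card {c : G} (hc : orderOf c = 3) (h4 : Nat.card (fx V c) = 4) (hs : ∀ v ∈ fx V c, q v = 0 → v = 0)
    {U : AddSubgroup V} (hU : ∀ u ∈ U, q u = 0) (hinv : ∀ u ∈ U, c • u ∈ U) : Nat.card U = 1 ∨ Nat.card U = 4 := by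
  have hfin := A.fin
  have hti := pol_zero_of_ts hU
  have h16 := A.iso_le U hti
  have hc3 := A.pow_three hc
  have hb : (U ⊓ fx V c : AddSubgroup V) = ⊥ := by
    rw [eq_bot_iff]
    intro v hv
    exact hs v hv.2 (hU v hv.1)
  have h1 := A.card_mod (by norm_num) hc U hinv
  rw [hb, AddSubgroup.card_bot] at h1
  obtain ⟨k, hk, hk2⟩ := A.exists_card U
  rw [hk2] at h1 h16 ⊢
  have hk3 : k = 0 ∨ k = 2 ∨ k = 4 := by
    unfold Nat.ModEq at h1
    interval_cases k <;> first | exact Or.inl rfl | exact Or.inr (Or.inl rfl) | exact Or.inr (Or.inr rfl) |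
      (exfalso; omega)
  rcases hk3 with rfl | rfl | rfl
  · exact Or.inl rfl
  · exact Or.inr rfl
  exfalso
  -- `U` is maximal
  have hUc : U ≤ cm V c := by
    intro u hu
    refine mem_cm.2 ⟨c • u, ?_⟩
    have h2 : u + c • u + c • c • u ∈ (U ⊓ fx V c : AddSubgroup V) := by
      refine ⟨U.add_mem (U.add_mem hu (hinv u hu)) (hinv _ (hinv u hu)), ?_⟩
      show c • (u + c • u + c • c • u) = u + c • u + c • c • u
      rw [smul_add, smul_add]
      have h3 : c • c • c • u = u := by rw [smul_smul, smul_smul, ← pow_two, ← pow_succ, hc3, one_smul]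
      rw [h3]
      abel
    rw [hb] at h2
    have h3 : u + c • u + c • c • u = 0 := h2
    calc c • c • u + c • u = (u + c • u + c • c • u) + u + (- (u + u)) := by abel
      _ = u := by rw [h3, A.two, zero_add, neg_zero, add_zero]
  have hUp : A.perp U = U := by
    have h2 := A.card_perp U
    rw [hk2] at h2
    have h3 : U ≤ A.perp U := fun u hu w hw => hti u hu w hw
    exact (AddSubgroup.eq_of_le_of_card_ge h3 (by rw [hk2]; omega)).symm
  have h5 : fx V c ≤ U := by
    rw [← hUp, A.fx_eq_perp]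
    exact A.perp_anti hUc
  have h6 : fx V c = ⊥ := by
    rw [eq_bot_iff, ← hb]
    exact fun v hv => ⟨h5 hv, hv⟩
  rw [h6, AddSubgroup.card_bot] at h4
  norm_num at h4

/-- the sign changes in a coset -/
theorem card_flip {S : Set V} {u : V} (hq : q u = 0) (hS : ∀ v ∈ S, pol q v u ≠ 0) (hu : ∀ v ∈ S, v + u ∈ S) :
    2 * Nat.card {v : V | v ∈ S ∧ q v = 0} = Nat.card S := by
  have hfin := A.fin
  have hz : ∀ a b : ZMod 2, b ≠ 0 → (a + 0 + b = 0 ↔ a ≠ 0) := by decide
  have h1 : Nat.card {v : V | v ∈ S ∧ q v = 0} = Nat.card {v : V | v ∈ S ∧ q v ≠ 0} := by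
    refine Nat.card_congr
      { toFun := fun v => ⟨v + u, hu v v.2.1, ?_⟩
        invFun := fun v => ⟨v + u, hu v v.2.1, ?_⟩
        left_inv := fun v => Subtype.ext (by
          show (v : V) + u + u = v
          rw [add_assoc, A.two, add_zero])
        right_inv := fun v => Subtype.ext (by
          show (v : V) + u + u = v
          rw [add_assoc, A.two, add_zero]) }
    · rw [q_add (q := q), hq]
      intro h
      exact (hz _ _ (hS v v.2.1)).1 h v.2.2
    · rw [q_add (q := q), hq]
      exact (hz _ _ (hS v v.2.1)).2 v.2.2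
  have h2 : Nat.card {v : V | v ∈ S ∧ q v = 0} + Nat.card {v : V | v ∈ S ∧ q v ≠ 0} = Nat.card S := by
    rw [Nat.card_coe_set_eq, Nat.card_coe_set_eq, Nat.card_coe_set_eq, ← Set.ncard_union_eq]
    · congr 1
      ext v
      simp only [Set.mem_union, Set.mem_ofPred_eq]
      tauto
    · rw [Set.disjoint_left]
      rintro v ⟨-, h⟩ ⟨-, h'⟩
      exact h' h
  omega

/-- **no element of order 5 leaves a totally singular subspace of order 4 invariant** -/
theorem no_line5 {y : G} (hy : orderOf y = 5) {U : AddSubgroup V} (hU : ∀ u ∈ U, q u = 0) (h4 : Nat.card U = 4)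
    (hinv : ∀ u ∈ U, y • u ∈ U) : False := by
  have hfin := A.fin
  have hti := pol_zero_of_ts hU
  have hy5 := A.pow_five hy
  have hUf : U ≤ fx V y := by
    have h1 := A.card_mod (by norm_num) hy U hinv
    rw [h4] at h1
    have h2 : Nat.card (U ⊓ fx V y : AddSubgroup V) ≤ 4 := by
      rw [← h4]
      exact AddSubgroup.card_le_of_le inf_le_left
    have h3 : Nat.card (U ⊓ fx V y : AddSubgroup V) = 4 := by
      unfold Nat.ModEq at h1
      omega
    have h5 : (U ⊓ fx V y : AddSubgroup V) = U := AddSubgroup.eq_of_le_of_card_ge inf_le_left (by rw [h3, h4])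
    rw [← h5]
    exact inf_le_right
  have hF : Nat.card (fx V y) = 16 := by
    rcases A.fx_five hy with h | h
    · have := AddSubgroup.card_le_of_le hUf
      omega
    · exact h
  have hC : Nat.card (cm V y) = 16 := by
    have := A.card_mul y
    rw [hF] at this
    omega
  have hP : Nat.card (A.perp U) = 64 := by
    have := A.card_perp U
    rw [h4] at this
    omega
  have hUP : U ≤ A.perp U := fun u hu w hw => hti u hu w hw
  have hCP : cm V y ≤ A.perp U := fun v hv w hw => by
    rw [pol_comm]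
    exact A.pol_fx_cm (hUf hw) hv
  -- the fixed vectors in `U^⊥`
  have hfix : ∀ v ∈ A.perp U, y • v = v → v ∈ U := by
    have h1 : (U ⊔ cm V y : AddSubgroup V) = A.perp U := by
      refine AddSubgroup.eq_of_le_of_card_ge (sup_le hUP hCP) ?_
      rw [hP]
      have h2 : Nat.card (U × cm V y) ≤ Nat.card (U ⊔ cm V y : AddSubgroup V) := by
        refine Nat.card_le_card_of_injective (fun p => ⟨(p.1 : V) + p.2, AddSubgroup.add_mem _
          (AddSubgroup.mem_sup_left p.1.2) (AddSubgroup.mem_sup_right p.2.2)⟩) ?_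
        rintro ⟨⟨a, ha⟩, ⟨b, hb⟩⟩ ⟨⟨c, hc⟩, ⟨d, hd⟩⟩ h
        have h3 : a + b = c + d := congrArg Subtype.val h
        have h5 : a - c = d - b := by
          rw [sub_eq_sub_iff_add_eq_add, h3, add_comm]
        have h6 : a - c = 0 := A.fx_inf_cm hy5 (by norm_num) ((fx V y).sub_mem (hUf ha) (hUf hc))
          (by rw [h5]; exact (cm V y).sub_mem hd hb)
        have h7 : d - b = 0 := by rw [← h5, h6]
        simp only [Prod.mk.injEq, Subtype.mk.injEq]
        exact ⟨sub_eq_zero.1 h6, (sub_eq_zero.1 h7).symm⟩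
      rw [Nat.card_prod, h4, hC] at h2
      exact h2
    intro v hv hyv
    rw [← h1] at hv
    obtain ⟨a, ha, b, hb, rfl⟩ := AddSubgroup.mem_sup.1 hv
    have h2 : b = 0 := by
      refine A.fx_inf_cm hy5 (by norm_num) ?_ hb
      have h3 : (a + b) - a ∈ fx V y := (fx V y).sub_mem hyv (hUf ha)
      rwa [add_sub_cancel_left] at h3
    rw [h2, add_zero]
    exact ha
  -- two vectors
  obtain ⟨u1, hu1, hu10⟩ : ∃ u1 ∈ U, u1 ≠ 0 := by
    by_contra hcon
    push Not at hcon
    have h1 : U = ⊥ := by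
      rw [eq_bot_iff]
      exact fun v hv => hcon v hv
    rw [h1, AddSubgroup.card_bot] at h4
    norm_num at h4
  set Z := AddSubgroup.zmultiples u1 with hZ
  have hZm : ∀ w ∈ Z, w = 0 ∨ w = u1 := by
    intro w hw
    obtain ⟨n, rfl⟩ := AddSubgroup.mem_zmultiples_iff.1 hw
    rcases Int.even_or_odd n with ⟨m, rfl⟩ | ⟨m, rfl⟩
    · left
      rw [add_smul, ← smul_add, A.two, smul_zero]
    · right
      rw [add_smul, one_smul, mul_comm, mul_smul, two_smul, A.two, smul_zero, zero_add]
  have hZc : Nat.card Z = 2 := by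
    have h1 : (Z : Set V) = {0, u1} := by
      ext w
      constructor
      · exact hZm w
      · rintro (rfl | rfl)
        · exact Z.zero_mem
        · exact AddSubgroup.mem_zmultiples _
    have h2 : Nat.card Z = Nat.card (Z : Set V) := rfl
    rw [h2, h1, Nat.card_coe_set_eq, Set.ncard_pair hu10.symm]
  have hPZ : Nat.card (A.perp Z) = 128 := by
    have := A.card_perp Z
    rw [hZc] at this
    omega
  have hZU : Z ≤ U := by
    rw [hZ, AddSubgroup.zmultiples_le]
    exact hu1
  have hPP : A.perp U ≤ A.perp Z := A.perp_anti hZU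
  have hmZ : ∀ v, v ∈ A.perp Z ↔ pol q v u1 = 0 := by
    intro v
    constructor
    · intro h; exact h u1 (AddSubgroup.mem_zmultiples _)
    · intro h w hw
      rcases hZm w hw with rfl | rfl
      · exact A.pol_zero_right v
      · exact h
  obtain ⟨u2, hu2, hu2Z⟩ : ∃ u2 ∈ U, u2 ∉ Z := by
    by_contra hcon
    push Not at hcon
    have := AddSubgroup.card_le_of_le (show U ≤ Z from hcon)
    omega
  have hmU : ∀ v, v ∈ A.perp Z → pol q v u2 = 0 → v ∈ A.perp U := by
    intro v hv h2
    -- `U = Z ∪ (u2 + Z)`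
    have h3 : A.perp Z ⊓ A.perp (AddSubgroup.zmultiples u2) ≤ A.perp U := by
      have h5 : (Z ⊔ AddSubgroup.zmultiples u2 : AddSubgroup V) = U := by
        refine AddSubgroup.eq_of_le_of_card_ge (sup_le hZU (by rw [AddSubgroup.zmultiples_le]; exact hu2)) ?_
        rw [h4]
        have h6 : Z < Z ⊔ AddSubgroup.zmultiples u2 := lt_of_le_of_ne le_sup_left fun h => hu2Z (by
          rw [h]; exact AddSubgroup.mem_sup_right (AddSubgroup.mem_zmultiples u2))
        have h7 : Nat.card Z < Nat.card (Z ⊔ AddSubgroup.zmultiples u2 : AddSubgroup V) :=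
          Set.ncard_lt_ncard (SetLike.coe_ssubset_coe.2 h6) (Set.toFinite _)
        obtain ⟨k, hk, hk2⟩ := A.exists_card (Z ⊔ AddSubgroup.zmultiples u2)
        rw [hk2, hZc] at h7
        rw [hk2]
        by_contra hcon
        push Not at hcon
        have : k < 2 := by
          by_contra h8
          push Not at h8
          have : 2 ^ 2 ≤ 2 ^ k := Nat.pow_le_pow_right (by norm_num) h8
          omega
        interval_cases k <;> omega
      rintro w ⟨hw1, hw2⟩ x hx
      rw [← h5] at hx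
      obtain ⟨a, ha, b, hb, rfl⟩ := AddSubgroup.mem_sup.1 hx
      rw [A.add_right, hw1 a ha, hw2 b hb, add_zero]
    refine h3 ⟨hv, ?_⟩
    intro w hw
    obtain ⟨n, rfl⟩ := AddSubgroup.mem_zmultiples_iff.1 hw
    rcases Int.even_or_odd n with ⟨m, rfl⟩ | ⟨m, rfl⟩
    · rw [add_smul, ← smul_add, A.two, smul_zero]
      exact A.pol_zero_right v
    · rw [add_smul, one_smul, mul_comm, mul_smul, two_smul, A.two, smul_zero, zero_add]
      exact h2
  -- counting
  have c1 := A.card_flip (S := {v : V | v ∉ A.perp Z}) (u := u1) (hU _ hu1) (fun v hv h => hv ((hmZ v).2 h))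
    (fun v hv h => hv ((hmZ v).2 (by
      have h1 := (hmZ _).1 h
      rw [A.add, A.pol_self, add_zero] at h1
      exact h1)))
  have c2 := A.card_flip (S := {v : V | v ∈ A.perp Z ∧ v ∉ A.perp U}) (u := u2) (hU _ hu2)
    (fun v hv h => hv.2 (hmU v hv.1 h)) (fun v hv => ⟨(A.perp Z).add_mem hv.1 (hPP (hUP hu2)), fun h => hv.2 (by
      have h1 := (A.perp U).sub_mem h (hUP hu2)
      rwa [add_sub_cancel_right] at h1)⟩)
  have n1 : Nat.card ({v : V | v ∉ A.perp Z} : Set V) = 128 := by
    have h1 := A.card_compl (A.perp Z)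
    rw [hPZ] at h1
    exact h1
  have n2 : Nat.card ({v : V | v ∈ A.perp Z ∧ v ∉ A.perp U} : Set V) = 64 := by
    have h1 : ({v : V | v ∈ A.perp Z ∧ v ∉ A.perp U} : Set V) = (A.perp Z : Set V) \ (A.perp U : Set V) := rfl
    rw [h1, Nat.card_coe_set_eq, Set.ncard_sdiff (SetLike.coe_subset_coe.2 hPP), ← Nat.card_coe_set_eq,
      ← Nat.card_coe_set_eq]
    have e1 : Nat.card (A.perp Z : Set V) = 128 := hPZ
    have e2 : Nat.card (A.perp U : Set V) = 64 := hP
    rw [e1, e2]
  rw [n1] at c1
  rw [n2] at c2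
  -- the singular vectors in `U^⊥ \ U`
  set Y : Set V := {v | v ∈ A.perp U ∧ v ∉ U ∧ q v = 0} with hY
  have h5 : 5 ∣ Nat.card Y := by
    have hPi : ∀ v ∈ A.perp U, y • v ∈ A.perp U := fun v hv => A.smul_mem_perp (fun w hw => by
      have h1 := mem_fx.1 (hUf hw)
      rw [inv_smul_eq_iff.2 h1.symm]
      exact hw) hv
    refine prime_dvd (by norm_num) hy Y ?_ ?_
    · rintro v ⟨h1, h2, h3⟩
      refine ⟨hPi v h1, fun h => h2 ?_, by rw [A.inv]; exact h3⟩
      have h6 := mem_fx.1 (hUf h)
      have h7 : y • v = v := MulAction.injective y h6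
      rw [← h7]
      exact h
    · rintro v ⟨h1, h2, h3⟩ h
      exact h2 (hfix v h1 h)
  have hall : Nat.card {v : V | v ≠ 0 ∧ q v = 0} = 135 := A.sing
  have hpart : ({v : V | v ≠ 0 ∧ q v = 0} : Set V) = (({v : V | v ∈ ({v : V | v ∉ A.perp Z} : Set V) ∧ q v = 0} ∪
      {v : V | v ∈ ({v : V | v ∈ A.perp Z ∧ v ∉ A.perp U} : Set V) ∧ q v = 0}) ∪ Y) ∪ ((U : Set V) \ {0}) := by
    ext v
    simp only [Set.mem_union, Set.mem_ofPred_eq, hY, Set.mem_sdiff, SetLike.mem_coe, Set.mem_singleton_iff]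
    constructor
    · rintro ⟨h1, h2⟩
      by_cases h3 : v ∈ A.perp Z
      · by_cases h6 : v ∈ A.perp U
        · by_cases h7 : v ∈ U
          · exact Or.inr ⟨h7, h1⟩
          · exact Or.inl (Or.inr ⟨h6, h7, h2⟩)
        · exact Or.inl (Or.inl (Or.inr ⟨⟨h3, h6⟩, h2⟩))
      · exact Or.inl (Or.inl (Or.inl ⟨h3, h2⟩))
    · rintro (((⟨h1, h2⟩ | ⟨⟨h1, h3⟩, h2⟩) | ⟨h1, h2, h3⟩) | ⟨h1, h2⟩)
      · exact ⟨fun h => h1 (by rw [h]; exact (A.perp Z).zero_mem), h2⟩
      · exact ⟨fun h => h3 (by rw [h]; exact (A.perp U).zero_mem), h2⟩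
      · exact ⟨fun h => h2 (by rw [h]; exact U.zero_mem), h3⟩
      · exact ⟨h2, hU v h1⟩
  rw [hpart, Nat.card_coe_set_eq, Set.ncard_union_eq, Set.ncard_union_eq, Set.ncard_union_eq,
    ← Nat.card_coe_set_eq, ← Nat.card_coe_set_eq, ← Nat.card_coe_set_eq,
    Set.ncard_sdiff_singleton_of_mem U.zero_mem, ← Nat.card_coe_set_eq] at hall
  · have e3 : Nat.card (U : Set V) = 4 := h4
    rw [e3] at hall
    omega
  · rw [Set.disjoint_left]
    rintro v ⟨h1, -⟩ ⟨⟨h2, -⟩, -⟩
    exact h1 h2
  · rw [Set.disjoint_left]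
    rintro v (⟨h1, -⟩ | ⟨⟨-, h1⟩, -⟩) ⟨h2, -⟩
    · exact h1 (hPP h2)
    · exact h1 h2
  · rw [Set.disjoint_left]
    rintro v ((⟨h1, -⟩ | ⟨⟨-, h1⟩, -⟩) | ⟨-, h1, -⟩) ⟨h2, -⟩
    · exact h1 (hPP (hUP h2))
    · exact h1 (hUP h2)
    · exact h1 h2

end Oct

end Cfsg.Agent.H547.Der.Oc
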