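import Cfsg.Agent.H547.Der.OctEl2
import Cfsg.Agent.H547.Der.OctK
import Cfsg.Agent.H439.Der.Three

/-!
# `Ω⁺₈(2)`: criteria for `Three` (helper547, for S3502)
-/

set_option autoImplicit false

namespace Cfsg.Agent.H547.Der.Oc

open MulAction Subgroup

variable {G V : Type*} [Group G] [AddCommGroup V] [DistribMulAction G V] {q : V → ZMod 2}

namespace Oct

variable (A : Oct G V q)

include A

/-- an element with 128 fixed vectors is a transvection with nonsingular centre -/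
theorem cm_two {g : G} (h : Nat.card (fx V g) = 128) : ∃ c : V, q c ≠ 0 ∧ (∀ v : V, g • v + v = 0 ∨ g • v + v = c) ∧
    ∀ v : V, g • v + v = 0 ↔ pol q v c = 0 := by
  have hfin := A.fin
  have h2 : Nat.card (cm V g) = 2 := by
    have := A.card_mul g
    rw [h] at this
    omega
  obtain ⟨⟨c, hc⟩, hc0, huniq⟩ := (Nat.card_eq_two_iff' (0 : cm V g)).1 h2
  have hc0' : c ≠ 0 := fun h => hc0 (Subtype.ext h)
  have h3 : ∀ v : V, g • v + v = 0 ∨ g • v + v = c := by
    intro v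
    by_cases h4 : g • v + v = 0
    · exact Or.inl h4
    · right
      have h5 := huniq ⟨g • v + v, mem_cm.2 ⟨v, rfl⟩⟩ (fun h => h4 (congrArg Subtype.val h))
      exact congrArg Subtype.val h5
  have h4 : ∀ v : V, g • v + v = 0 ↔ pol q v c = 0 := by
    intro v
    have h5 : v ∈ fx V g ↔ v ∈ A.perp (cm V g) := by rw [A.fx_eq_perp g]
    rw [A.add_eq_zero]
    refine (h5.trans ?_)
    constructor
    · exact fun h6 => h6 c hc
    · intro h6 w hw
      obtain ⟨u, hu⟩ := mem_cm.1 hw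
      rcases h3 u with h7 | h7
      · rw [← hu, h7, A.pol_zero_right]
      · rw [← hu, h7, h6]
  refine ⟨c, fun hq => ?_, h3, h4⟩
  obtain ⟨w, hw⟩ := mem_cm.1 hc
  have h5 : g • w = w + c := by
    have h6 : g • w = c + w := by rw [← hw, add_assoc, A.two, add_zero]
    rw [h6, add_comm]
  have h6 := A.inv g w
  rw [h5, q_add (q := q), hq, add_zero] at h6
  have h7 : pol q w c = 0 := by
    have h8 : ∀ a b : ZMod 2, a + b = a → b = 0 := by decide
    exact h8 _ _ h6
  have h8 := (h4 w).2 h7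
  rw [hw] at h8
  exact hc0' h8

/-- transvections commute with the stabilizer of the centre -/
theorem comm_of {g x : G} {d : V} (hd : x • d = d) (h1 : ∀ v : V, g • v + v = 0 ∨ g • v + v = d)
    (h2 : ∀ v : V, g • v + v = 0 ↔ pol q v d = 0) : x * g = g * x := by
  have h3 : (g * x)⁻¹ * (x * g) = 1 := by
    refine A.faith _ fun v => ?_
    rw [mul_smul, inv_smul_eq_iff, mul_smul, mul_smul]
    by_cases h : pol q v d = 0
    · have h4 := A.add_eq_zero.1 ((h2 v).2 h)
      have h5 : pol q (x • v) d = 0 := by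
        rw [← hd, A.pol_smul]; exact h
      rw [h4, A.add_eq_zero.1 ((h2 _).2 h5)]
    · have h4 : g • v + v = d := (h1 v).resolve_left fun h5 => h ((h2 v).1 h5)
      have h5 : pol q (x • v) d ≠ 0 := by
        rw [← hd, A.pol_smul]; exact h
      have h6 : g • (x • v) + x • v = d := (h1 _).resolve_left fun h7 => h5 ((h2 _).1 h7)
      have h7 : g • v = d + v := by rw [← h4, add_assoc, A.two, add_zero]
      have h8 : g • (x • v) = d + x • v := by rw [← h6, add_assoc, A.two, add_zero]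
      rw [h7, h8, smul_add, hd]
  exact (inv_mul_eq_one.1 h3).symm

/-- elements of order 7 fix a nonsingular vector -/
theorem exists_nonsing_seven {x : G} (hx : orderOf x = 7) : ∃ d : V, x • d = d ∧ q d ≠ 0 := by
  have hfin := A.fin
  have h7p : Nat.Prime 7 := by norm_num
  obtain ⟨k, hk, hk2⟩ := A.exists_card (fx V x)
  have h1 := A.card_fx_mod h7p hx
  rw [hk2] at h1
  have h2 := num_c hk h1 (by rw [← hk2]; exact A.fx_ne (A.ne_one h7p hx))
  have h4 : Nat.card (fx V x) = 4 := by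
    rcases h2 with rfl | rfl
    · rw [hk2]; norm_num
    · exfalso
      refine A.no_eight hx ?_
      have := A.card_mul x
      rw [hk2] at this
      omega
  by_contra hcon
  push Not at hcon
  have h := Cfsg.Agent.H503.El.Fix.card_mod h7p hx {v : V | v ≠ 0 ∧ q v = 0} (by
    rintro v ⟨h1, h2⟩
    exact ⟨fun h => h1 ((smul_eq_zero_iff_eq x).1 h), by rw [A.inv]; exact h2⟩)
  have h5 : Nat.card {v : V | v ≠ 0 ∧ q v = 0} = 135 := A.sing
  have h6 : Nat.card {a : V // a ∈ {v : V | v ≠ 0 ∧ q v = 0} ∧ x • a = a} = 3 := by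
    have h8 : Nat.card {a : V // a ∈ {v : V | v ≠ 0 ∧ q v = 0} ∧ x • a = a} =
        Nat.card (((fx V x : AddSubgroup V) : Set V) \ {0} : Set V) := by
      refine Nat.card_congr (Equiv.subtypeEquivRight fun v => ?_)
      constructor
      · rintro ⟨⟨h1, h2⟩, h3⟩; exact ⟨h3, h1⟩
      · rintro ⟨h1, h2⟩; exact ⟨⟨h2, hcon v h1⟩, h1⟩
    rw [h8, Nat.card_coe_set_eq, Set.ncard_sdiff_singleton_of_mem (AddSubgroup.zero_mem _), ← Nat.card_coe_set_eq]
    have h9 : Nat.card ((fx V x : AddSubgroup V) : Set V) = 4 := h4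
    rw [h9]
  rw [h5, h6] at h
  exact absurd h (by decide)

end Oct

end Cfsg.Agent.H547.Der.Oc

namespace Cfsg.Agent.H547.Der.Eight

open Subgroup Cfsg Cfsg.Agent.H503.El.O8 Cfsg.Agent.H547.Der.Oc Cfsg.Agent.H439.Der Cfsg.Agent Cfsg.Agent.H970.StabNum
open Cfsg.Agent.H396

/-- `T8` is transitive on the nonsingular vectors -/
theorem orbit_nonsing {c d : V8} (hc : q8 c ≠ 0) (hd : q8 d ≠ 0) : ∃ g : T8, g • c = d := by
  have h1 : MulAction.stabilizer T8 c ≠ ⊤ := by
    intro h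
    have h2 : tz2 ^ 3 ∈ MulAction.stabilizer T8 c := by rw [h]; trivial
    have h3 : c ∈ fx V8 (tz2 ^ 3) := h2
    have h4 : fx V8 (tz2 ^ 3) = ⊥ := AddSubgroup.eq_bot_of_card_eq _ card_tz2
    rw [h4] at h3
    have h5 : c = 0 := h3
    exact hc (by rw [h5]; exact octT.zero)
  have h2 := index_ge _ h1
  rw [MulAction.index_stabilizer] at h2
  have h3 : MulAction.orbit T8 c ⊆ {v : V8 | q8 v ≠ 0} := by
    rintro _ ⟨g, rfl⟩
    show q8 (g • c) ≠ 0
    rw [octT.inv]; exact hc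
  have h4 : ({v : V8 | q8 v ≠ 0} : Set V8).ncard = 120 := by
    rw [← Nat.card_coe_set_eq]; exact octT.card_nonsing
  have h5 : MulAction.orbit T8 c = {v : V8 | q8 v ≠ 0} :=
    Set.eq_of_subset_of_ncard_le h3 (by rw [h4]; exact h2) (Set.toFinite _)
  have h6 : d ∈ MulAction.orbit T8 c := by rw [h5]; exact hd
  exact h6

theorem no_128 (g : T8) : Nat.card (fx V8 g) ≠ 128 := by
  intro h
  have h7p : Fact (Nat.Prime 7) := ⟨by norm_num⟩
  obtain ⟨x, hx⟩ := exists_prime_orderOf_dvd_card' (G := T8) 7 (by rw [card_t8]; norm_num)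
  obtain ⟨d, hd, hqd⟩ := octT.exists_nonsing_seven hx
  obtain ⟨c, hqc, h1, h2⟩ := octT.cm_two h
  obtain ⟨k, hk⟩ := orbit_nonsing hqc hqd
  set g' := k * g * k⁻¹ with hg'
  have h3 : Nat.card (fx V8 g') = 128 := by rw [hg', card_fx_conj, h]
  have hkey : ∀ v : V8, g' • v + v = k • (g • (k⁻¹ • v) + k⁻¹ • v) := by
    intro v
    rw [smul_add, smul_inv_smul, hg', mul_smul, mul_smul]
  have hcomm : x * g' = g' * x := by
    refine octT.comm_of hd (fun v => ?_) fun v => ?_
    · rw [hkey]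
      rcases h1 (k⁻¹ • v) with h4 | h4
      · left; rw [h4, smul_zero]
      · right; rw [h4, hk]
    · rw [hkey, smul_eq_zero_iff_eq, h2, ← hk]
      have h5 : pol q8 v (k • c) = pol q8 (k • (k⁻¹ • v)) (k • c) := by rw [smul_inv_smul]
      rw [h5, octT.pol_smul]
  have h5 := (hent (zpowers x) (by rw [Nat.card_zpowers, hx])).1
  have h6 : g' ∈ centralizer ((zpowers x : Subgroup T8) : Set T8) := by
    rw [zpowers_eq_closure, centralizer_closure, mem_centralizer_singleton_iff]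
    exact hcomm.symm
  have h7 : orderOf g' ∣ 7 := by
    rw [← Subgroup.orderOf_mk g' h6]
    exact (_root_.orderOf_dvd_natCard _).trans (by simpa using h5)
  rcases (Nat.dvd_prime h7p.out).1 h7 with h8 | h8
  · have h9 : g' = 1 := orderOf_eq_one_iff.1 h8
    rw [h9] at h3
    have h10 : fx V8 (1 : T8) = ⊤ := by
      rw [eq_top_iff]; intro v _; exact one_smul T8 v
    rw [h10, AddSubgroup.card_top, octT.card (G := T8)] at h3
    norm_num at h3
  · have h9 := octT.card_fx_mod h7p.out h8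
    rw [h3] at h9
    exact absurd h9 (by decide)


/-! ### criteria -/

theorem miss_of_order {R : Subgroup T8} {x : T8} {n : ℕ} (hx : orderOf x = n) (h : ∀ y ∈ R, orderOf y ≠ n)
    (φ : T8 ≃* T8) : φ x ∉ R := fun hφ => h _ hφ (by rw [MulEquiv.orderOf_eq, hx])

theorem ne_of_order {x y : T8} {n m : ℕ} (hx : orderOf x = n) (hy : orderOf y = m) (h : n ≠ m) (φ : T8 ≃* T8) :
    φ x ≠ y := fun hφ => h (by rw [← hx, ← hy, ← hφ, MulEquiv.orderOf_eq])

/-- class 3C is missed -/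
theorem L3C {R : Subgroup T8} (h : ∀ φ : T8 ≃* T8, φ (tw9 ^ 3) ∉ R) : Three T8 R := by
  refine ⟨tw9 ^ 3, tw9, t6, h, fun φ hφ => h φ ?_, fun φ hφ => h ((MulAut.conj (e8 h6)).trans φ) ?_,
    ne_of_order order_tw9_3 order_tw9 (by norm_num), ne_of_order order_tw9_3 order_t6 (by norm_num),
    ne_of_order order_tw9 order_t6 (by norm_num)⟩
  · rw [map_pow]; exact R.pow_mem hφ 3
  · have h1 : ((MulAut.conj (e8 h6)).trans φ) (tw9 ^ 3) = φ (t6 ^ 4) := by
      rw [t6_conj]; rfl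
    rw [h1, map_pow]
    exact R.pow_mem hφ 4

/-- all the elements of order 3 are cubes: the classes 3A, 3B, 15 are missed -/
theorem three_of_cube {R : Subgroup T8} (h : ∀ a ∈ R, orderOf a = 3 → ∃ y : T8, orderOf y = 9 ∧ y ^ 3 = a) :
    Three T8 R := by
  have hA : ∀ φ : T8 ≃* T8, φ (tz1 ^ 5) ∉ R := by
    intro φ hφ
    obtain ⟨y, hy, hy3⟩ := h _ hφ (by rw [MulEquiv.orderOf_eq, order_tz1_5])
    have h4 := (octT.cube_nine hy).1
    rw [hy3] at h4
    have h6 := octT.three_five (a := φ (tz1 ^ 5)) (y := φ (tz1 ^ 3)) (by rw [MulEquiv.orderOf_eq, order_tz1_5])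
      (by rw [MulEquiv.orderOf_eq, order_tz1_3]) (by
        rw [← map_mul, ← map_mul, ← pow_add, ← pow_add])
    rw [h4] at h6
    rcases h6 with h6 | h6
    · exact absurd h6.2 (by norm_num)
    · exact absurd h6.2.1 (by norm_num)
  refine ⟨tz1 ^ 5, b3, tz1, hA, fun φ hφ => ?_, fun φ hφ => hA φ ?_, fun φ hφ => ?_,
    ne_of_order order_tz1_5 order_tz1 (by norm_num), ne_of_order order_b3 order_tz1 (by norm_num)⟩
  · obtain ⟨y, hy, hy3⟩ := h _ hφ (by rw [MulEquiv.orderOf_eq, order_b3])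
    have h4 := (octT.cube_nine (y := φ.symm y) (by rw [MulEquiv.orderOf_eq, hy])).1
    rw [← map_pow, hy3, φ.symm_apply_apply, card_b3] at h4
    norm_num at h4
  · rw [map_pow]; exact R.pow_mem hφ 5
  · have h6 := octT.three_five (a := b3) (y := φ (tz1 ^ 3)) order_b3
      (by rw [MulEquiv.orderOf_eq, order_tz1_3]) (by
        rw [← hφ, ← map_mul, ← map_mul, ← pow_add, ← pow_add])
    rw [card_b3] at h6
    rcases h6 with h6 | h6
    · exact absurd h6.2 (by norm_num)
    · exact absurd h6.2.1 (by norm_num)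

/-- elements of a cyclic group generated by a cube -/
theorem cube_mem {y b : T8} (hy : orderOf y = 9) (hb : b ∈ zpowers (y ^ 3)) (hb1 : b ≠ 1) :
    ∃ w : T8, orderOf w = 9 ∧ w ^ 3 = b := by
  obtain ⟨n, hn⟩ := (isOfFinOrder_of_finite (y ^ 3)).mem_powers_iff_mem_zpowers.2 hb
  have hn' : (y ^ 3) ^ n = b := hn
  refine ⟨y ^ n, ?_, by rw [← pow_mul, mul_comm, pow_mul, hn']⟩
  have h3 : Fact (Nat.Prime 3) := ⟨Nat.prime_three⟩
  refine orderOf_eq_prime_pow (p := 3) (n := 1) ?_ ?_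
  · rw [pow_one, ← pow_mul, mul_comm, pow_mul, hn']; exact hb1
  · have h9 : y ^ 9 = 1 := by rw [← hy, pow_orderOf_eq_one]
    show (y ^ n) ^ (3 ^ (1 + 1)) = 1
    rw [← pow_mul, mul_comm, pow_mul, show 3 ^ (1 + 1) = 9 by norm_num, h9, one_pow]

theorem cube_conj {a m y : T8} (hy : orderOf y = 9) (h : y ^ 3 = m * a * m⁻¹) : ∃ w : T8, orderOf w = 9 ∧ w ^ 3 = a := by
  refine ⟨m⁻¹ * y * m⁻¹⁻¹, by rw [orderOf_conj, hy], ?_⟩
  rw [conj_pow, h]
  group

/-- subgroups of order prime to 9 -/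
theorem T9 {R : Subgroup T8} (h9 : ¬ 9 ∣ Nat.card R) : Three T8 R := by
  by_cases h : ∀ φ : T8 ≃* T8, φ (tw9 ^ 3) ∉ R
  · exact L3C h
  · push Not at h
    obtain ⟨φ, hφ⟩ := h
    rw [map_pow] at hφ
    have hy : orderOf (φ tw9) = 9 := by rw [MulEquiv.orderOf_eq, order_tw9]
    refine three_of_cube fun a ha hao => ?_
    obtain ⟨m, hm, hmt⟩ := exists_conj_mem (M := R) (p := 3) (k := 1) Nat.prime_three (W := zpowers (φ tw9 ^ 3))
      (by rw [Nat.card_zpowers, orderOf_pow' _ (by norm_num), hy]; decide) (by rwa [zpowers_le])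
      (by simpa using h9) ha hao
    obtain ⟨w, hw, hw3⟩ := cube_mem hy hmt (by
      intro h1
      rw [conj_eq_one_iff] at h1
      rw [h1, orderOf_one] at hao
      norm_num at hao)
    exact cube_conj hw hw3

/-- subgroups of order prime to 27 -/
theorem T27 {R : Subgroup T8} (h27 : ¬ 27 ∣ Nat.card R) : Three T8 R ∨ ∀ y ∈ R, orderOf y ≠ 9 := by
  by_cases h : ∀ y ∈ R, orderOf y ≠ 9
  · exact Or.inr h
  · left
    push Not at h
    obtain ⟨y, hyR, hy⟩ := h
    refine three_of_cube fun a ha hao => ?_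
    obtain ⟨m, hm, hmt⟩ := exists_conj_mem (M := R) (p := 3) (k := 2) Nat.prime_three (W := zpowers y)
      (by rw [Nat.card_zpowers, hy]; norm_num) (by rwa [zpowers_le])
      (by simpa using h27) ha hao
    have hto : orderOf (m * a * m⁻¹) = 3 := by rw [orderOf_conj, hao]
    obtain ⟨k, hk⟩ := cube_eq_pow hy hmt hto
    have hw3 : orderOf (y ^ 3) = 3 := by
      rw [orderOf_pow' _ (by norm_num), hy]; decide
    have h1 : zpowers (y ^ 3) = zpowers (m * a * m⁻¹) := by
      refine Subgroup.eq_of_le_of_card_ge (zpowers_le.2 (by rw [← hk]; exact pow_mem (mem_zpowers _) k)) ?_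
      rw [Nat.card_zpowers, Nat.card_zpowers, hw3, hto]
    obtain ⟨w, hw, hw3'⟩ := cube_mem (b := m * a * m⁻¹) hy (by rw [h1]; exact mem_zpowers _) (by
      intro h1
      rw [h1, orderOf_one] at hto
      norm_num at hto)
    exact cube_conj hw hw3'

/-- the index is not 1 modulo the primes dividing `|Out|` -/
theorem noOne {R : Subgroup T8} (h2 : ¬ 4096 ∣ Nat.card R) (h3 : ¬ 243 ∣ Nat.card R) : NoOne T8 R := by
  intro s hs hd hone
  have hns := noSyl h2 h3
  have hmul := R.index_mul_card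
  rw [card_t8] at hmul
  have h1 := S2607.result (F := ZMod 2) (f := 1) (m := 4) le_rfl (by rw [ZMod.card]; norm_num) le_rfl
  rw [if_pos rfl] at h1
  obtain ⟨e⟩ := h1
  have h4 : Nat.card (Cfsg.Out T8) = 6 := by
    have h5 : Nat.card (Cfsg.Out T8) = Nat.card (Equiv.Perm (Fin 3) × Multiplicative (ZMod 1)) := Nat.card_congr e.toEquiv
    rw [h5, Nat.card_prod, Nat.card_perm, Nat.card_congr Multiplicative.toAdd, Nat.card_zmod,
      Nat.card_eq_fintype_card, Fintype.card_fin]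
    decide
  rw [h4] at hd
  have h5 : s = 2 ∨ s = 3 := by
    rcases (Nat.Prime.dvd_mul hs).1 (show s ∣ 2 * 3 from hd) with h6 | h6
    · exact Or.inl ((Nat.prime_dvd_prime_iff_eq hs Nat.prime_two).1 h6)
    · exact Or.inr ((Nat.prime_dvd_prime_iff_eq hs Nat.prime_three).1 h6)
  have key : ∀ (p k : ℕ), p.Prime → p ^ k ∣ 174182400 → ¬ p ^ k ∣ Nat.card R → p ∣ R.index := by
    intro p k hp h6 h7
    by_contra h8
    apply h7
    have h9 : Nat.Coprime (p ^ k) R.index := Nat.Coprime.pow_left _ ((Nat.Prime.coprime_iff_not_dvd hp).2 h8)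
    refine h9.dvd_of_dvd_mul_left ?_
    rw [hmul]; exact h6
  have h6 : s ∣ R.index := by
    rcases h5 with rfl | rfl
    · exact key 2 12 Nat.prime_two (by norm_num) (by norm_num; exact h2)
    · exact key 3 5 Nat.prime_three (by norm_num) (by norm_num; exact h3)
  have h7 : R.index ≡ 0 [MOD s] := (Nat.modEq_zero_iff_dvd).2 h6
  have h8 : 1 ≡ 0 [MOD s] := hone.symm.trans h7
  have h9 : s ∣ 1 := (Nat.modEq_zero_iff_dvd).1 h8
  exact hs.one_lt.ne' (Nat.dvd_one.1 h9)

/-- `5 ∤ |R|` -/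
theorem T5 {R : Subgroup T8} (h5 : ¬ 5 ∣ Nat.card R) : Three T8 R := by
  refine ⟨tz1 ^ 3, t10, tz1, not_mem_of_dvd h5 (by rw [order_tz1_3]), not_mem_of_dvd h5 (by rw [order_t10]; norm_num),
    not_mem_of_dvd h5 (by rw [order_tz1]; norm_num), ne_of_order order_tz1_3 order_t10 (by norm_num),
    ne_of_order order_tz1_3 order_tz1 (by norm_num), ne_of_order order_t10 order_tz1 (by norm_num)⟩

/-- `O₂(R) ≠ 1` and `5 ∣ |R|` -/
theorem TO2 {R : Subgroup T8} (h5 : 5 ∣ Nat.card R) (hO : pCore 2 R ≠ ⊥) : Three T8 R := by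
  have h2 : Fact (Nat.Prime 2) := ⟨Nat.prime_two⟩
  have h5p : Fact (Nat.Prime 5) := ⟨Nat.prime_five⟩
  have hn := Lib.Cores.pCore_normal (G := R) 2
  obtain ⟨U, hU0, hinv, hts⟩ := octT.exists_ts (P := (pCore 2 R).map R.subtype) (M := R)
    ((Lib.Cores.pCore_isPGroup (G := R) 2).map _) (by
      rintro _ ⟨y, -, rfl⟩; exact y.2) (by
      intro h
      exact hO ((Subgroup.map_eq_bot_iff_of_injective _ R.subtype_injective).1 h)) (by
      rintro g hg _ ⟨p, hp, rfl⟩
      refine ⟨(⟨g, hg⟩ : R)⁻¹ * p * ⟨g, hg⟩, ?_, rfl⟩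
      have := hn.conj_mem p hp (⟨g, hg⟩ : R)⁻¹
      rwa [inv_inv] at this) (fun p _ => no_128 p)
  obtain ⟨y, hy⟩ := exists_prime_orderOf_dvd_card' (G := R) 5 h5
  refine L3C fun φ hφ => ?_
  rw [map_pow] at hφ
  have hy9 : orderOf (φ tw9) = 9 := by rw [MulEquiv.orderOf_eq, order_tw9]
  obtain ⟨h4, hs⟩ := octT.cube_nine hy9
  rcases octT.ts_card (c := φ tw9 ^ 3) (by rw [orderOf_pow' _ (by norm_num), hy9]; decide) h4 hs hts
    (fun u hu => hinv _ hφ u hu) with h6 | h6
  · exact hU0 (AddSubgroup.eq_bot_of_card_eq _ h6)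
  · exact octT.no_line5 (y := (y : T8)) (by rw [Subgroup.orderOf_coe, hy]) hts h6 fun u hu => hinv _ y.2 u hu

end Cfsg.Agent.H547.Der.Eight
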