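import Cfsg.Agent.H547.Der.OctH
import Cfsg.Agent.H547.Der.OctM

/-!
# Quadratic space with 256 vectors: subgroups without solvable normal subgroups, second part (helper547, for S3502)
-/

set_option autoImplicit false

namespace Cfsg.Agent.H547.Der.Oc

open MulAction Subgroup

/-- elements of order 3 in simple groups with Sylow 3-subgroups of order 3 are real -/
theorem real_three {X : Type*} [Group X] [Finite X] (hs : IsSimpleGroup X) (h9 : ¬ 9 ∣ Nat.card X) (hX : Nat.card X ≠ 3)
    {b : X} (hb : orderOf b = 3) : ∃ g : X, g * b * g⁻¹ = b⁻¹ := by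
  classical
  have h3p : Fact (Nat.Prime 3) := ⟨Nat.prime_three⟩
  have hz : Nat.card (zpowers b) = 3 := by rw [Nat.card_zpowers, hb]
  obtain ⟨P, hP⟩ := (IsPGroup.of_card (p := 3) (n := 1) (by rw [hz, pow_one]) : IsPGroup 3 (zpowers b)).exists_le_sylow
  have hPz : (P : Subgroup X) = zpowers b := by
    obtain ⟨k, hk⟩ := IsPGroup.iff_card.1 P.2
    have hk2 : k < 2 := by
      by_contra hcon
      push Not at hcon
      apply h9
      have h1 : 3 ^ 2 ∣ 3 ^ k := pow_dvd_pow 3 hcon
      rw [← hk] at h1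
      exact (by simpa using h1 : 9 ∣ Nat.card P).trans (Subgroup.card_subgroup_dvd_card _)
    symm
    apply Subgroup.eq_of_le_of_card_ge hP
    have hk' : Nat.card (P : Subgroup X) = 3 ^ k := hk
    rw [hk', hz]
    calc 3 ^ k ≤ 3 ^ 1 := Nat.pow_le_pow_right (by norm_num) (by omega)
      _ = 3 := pow_one 3
  by_contra hcon
  push Not at hcon
  have hb3 : b ^ 3 = 1 := by rw [← hb, pow_orderOf_eq_one]
  have hNC : normalizer ((P : Subgroup X) : Set X) ≤ centralizer ((P : Subgroup X) : Set X) := by
    intro g hg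
    rw [hPz] at hg ⊢
    have h1 : g * b * g⁻¹ ∈ zpowers b := (mem_normalizer_iff.1 hg b).1 (mem_zpowers b)
    obtain ⟨k, hk⟩ := (isOfFinOrder_of_finite b).mem_powers_iff_mem_zpowers.2 h1
    have hk' : b ^ k = g * b * g⁻¹ := hk
    rw [← pow_mod_orderOf, hb] at hk'
    have h4 : k % 3 = 0 ∨ k % 3 = 1 ∨ k % 3 = 2 := by omega
    rcases h4 with h4 | h4 | h4
    · rw [h4, pow_zero] at hk'
      have h5 : b = 1 := conj_eq_one_iff.1 hk'.symm
      rw [h5, orderOf_one] at hb
      norm_num at hb
    · rw [h4, pow_one] at hk'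
      rw [zpowers_eq_closure, centralizer_closure, mem_centralizer_singleton_iff]
      exact (mul_inv_eq_iff_eq_mul.1 hk'.symm)
    · exfalso
      apply hcon g
      rw [← hk', h4]
      exact eq_inv_of_mul_eq_one_left (by rw [← pow_succ, hb3])
  have h1 := MonoidHom.ker_transferSylow_isComplement' P hNC
  have h2 := MonoidHom.not_dvd_card_ker_transferSylow P hNC
  rcases hs.eq_bot_or_eq_top_of_normal (MonoidHom.transferSylow P hNC).ker inferInstance with h3 | h3
  · rw [h3] at h1
    have h4 := h1.card_mul_card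
    rw [Subgroup.card_bot, one_mul, hPz, hz] at h4
    exact hX h4.symm
  · rw [h3, Subgroup.card_top] at h2
    exact h2 (by rw [← hz]; exact Subgroup.card_subgroup_dvd_card _)

variable {G V : Type*} [Group G] [AddCommGroup V] [DistribMulAction G V] {q : V → ZMod 2}

theorem fx_sq {x : G} (hx : x ^ 3 = 1) : fx V (x ^ 2) = fx V x := by
  apply le_antisymm
  · have h := fx_le_pow (V := V) (x ^ 2) 2
    have h2 : (x ^ 2) ^ 2 = x := by
      rw [← pow_mul, show 2 * 2 = 3 + 1 by norm_num, pow_succ, hx, one_mul]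
    rwa [h2] at h
  · exact fx_le_pow x 2

namespace Oct

variable (A : Oct G V q)

include A

/-- **normal 5-subgroups** -/
theorem no_normal5' {M : Subgroup G} (P : Subgroup M) [hPn : P.Normal] (hP : IsPGroup 5 P) (hP1 : P ≠ ⊥)
    (h125 : ¬ 125 ∣ Nat.card M) (hM : 9 ∣ Nat.card M) : False := by
  classical
  have := A.finG
  have h5 : Fact (Nat.Prime 5) := ⟨by norm_num⟩
  have h3p : Fact (Nat.Prime 3) := ⟨Nat.prime_three⟩
  obtain ⟨j, hj⟩ := IsPGroup.iff_card.1 hP
  have hj0 : j ≠ 0 := by
    rintro rfl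
    exact hP1 (Subgroup.eq_bot_of_card_eq _ (by rw [hj, pow_zero]))
  have hj3 : j < 3 := by
    by_contra hcon
    push Not at hcon
    apply h125
    have h1 : 5 ^ 3 ∣ 5 ^ j := pow_dvd_pow 5 hcon
    rw [← hj] at h1
    exact (by simpa using h1 : 125 ∣ Nat.card P).trans (Subgroup.card_subgroup_dvd_card P)
  have hj2 : j = 1 ∨ j = 2 := by omega
  rcases hj2 with rfl | rfl
  · rw [pow_one] at hj
    have hcyc : IsCyclic P := isCyclic_of_prime_card hj
    set f : M →* MulAut P := MulAut.conjNormal with hf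
    have h1 : Nat.card (MulAut P) = 4 := by
      rw [IsCyclic.card_mulAut, hj]; decide
    have h2 : Nat.card f.range ∣ 4 := by rw [← h1]; exact Subgroup.card_subgroup_dvd_card _
    have h3 : Nat.card f.ker * Nat.card f.range = Nat.card M := by
      rw [← Subgroup.index_ker, Subgroup.card_mul_index]
    have h4 : 9 ∣ Nat.card f.ker := by
      rw [← h3] at hM
      refine (Nat.Coprime.dvd_of_dvd_mul_right ?_ hM)
      exact Nat.Coprime.coprime_dvd_right h2 (by norm_num)
    obtain ⟨y, hy⟩ := exists_prime_orderOf_dvd_card' (G := P) 5 (by rw [hj])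
    refine A.not_nine_dvd (y := ((y : M) : G)) (by rw [Subgroup.orderOf_coe, Subgroup.orderOf_coe, hy])
      (M.subtype.comp f.ker.subtype) (M.subtype_injective.comp f.ker.subtype_injective) (fun x => ?_) h4
    have h5 : (f (x : M)) y = y := by
      rw [MonoidHom.mem_ker.1 x.2]; rfl
    have h6 := congrArg Subtype.val h5
    have h7 := (MulAut.conjNormal_apply (x : M) y).symm.trans h6
    exact congrArg (fun z : M => (z : G)) (mul_inv_eq_iff_eq_mul.1 h7)
  · obtain ⟨g, hg⟩ := exists_prime_orderOf_dvd_card' (G := M) 3 ((by norm_num : 3 ∣ 9).trans hM)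
    refine A.no_E (E := P.map M.subtype) ?_ (g := (g : G)) (by rw [Subgroup.orderOf_coe, hg]) ?_
    · rw [← Nat.card_congr (P.equivMapOfInjective _ M.subtype_injective).toEquiv, hj]; norm_num
    · rintro _ ⟨e, he, rfl⟩
      exact ⟨g * e * g⁻¹, hPn.conj_mem e he g, rfl⟩

theorem no_pair {R : Subgroup G} (h27 : ¬ 27 ∣ Nat.card R) {a b y z g c : G} (ha : a ∈ R) (hb : b ∈ R)
    (hao : orderOf a = 3) (hbo : orderOf b = 3) (hab : a * b = b * a) (hne : b ∉ zpowers a) (hy : orderOf y = 5)
    (hz : orderOf z = 5) (hay : a * y = y * a) (hbz : b * z = z * b) (hga : g * a * g⁻¹ = a)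
    (hgb : g * b * g⁻¹ = b⁻¹) (hc : c ∈ R) (hco : orderOf c = 3) (hc4 : Nat.card (fx V c) = 4) : False := by
  have hfin := A.finG
  have ha3 := A.pow_three hao
  have hb3 := A.pow_three hbo
  have hcab : Commute a b := hab
  set f : zpowers a × zpowers b →* G := MonoidHom.noncommCoprod (zpowers a).subtype (zpowers b).subtype (by
    rintro ⟨u, hu⟩ ⟨v, hv⟩
    obtain ⟨i, rfl⟩ := mem_zpowers_iff.1 hu
    obtain ⟨j, rfl⟩ := mem_zpowers_iff.1 hv
    exact hcab.zpow_zpow i j) with hf
  have hfi : Function.Injective f := by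
    rw [injective_iff_map_eq_one]
    rintro ⟨⟨u, hu⟩, ⟨v, hv⟩⟩ huv
    have h1 : u * v = 1 := huv
    have h2 : v ∈ zpowers a := by
      rw [eq_inv_of_mul_eq_one_right h1]; exact inv_mem hu
    have h3 : v = 1 := by
      by_contra hv1
      apply hne
      have h4 : zpowers v = zpowers b := by
        have h5 : zpowers v ≤ zpowers b := by rwa [zpowers_le]
        refine Subgroup.eq_of_le_of_card_ge h5 ?_
        have h6 := Subgroup.card_dvd_of_le h5
        rw [Nat.card_zpowers b, hbo] at h6 ⊢
        rcases (Nat.dvd_prime Nat.prime_three).1 h6 with h7 | h7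
        · exfalso
          rw [Nat.card_zpowers, orderOf_eq_one_iff] at h7
          exact hv1 h7
        · exact h7.ge
      have h5 : b ∈ zpowers v := by rw [h4]; exact mem_zpowers b
      exact (zpowers_le.2 h2) h5
    have h4 : u = 1 := by rw [h3, mul_one] at h1; exact h1
    exact Prod.ext (Subtype.ext h4) (Subtype.ext h3)
  have hW : Nat.card f.range = 3 ^ 2 := by
    rw [← Nat.card_congr (MonoidHom.ofInjective hfi).toEquiv, Nat.card_prod, Nat.card_zpowers, Nat.card_zpowers, hao, hbo]
    norm_num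
  have hWR : f.range ≤ R := by
    rintro _ ⟨⟨⟨u, hu⟩, ⟨v, hv⟩⟩, rfl⟩
    exact R.mul_mem ((zpowers_le.2 ha) hu) ((zpowers_le.2 hb) hv)
  obtain ⟨m, hm, ⟨⟨u, hu⟩, ⟨v, hv⟩⟩, hmt⟩ := exists_conj_mem (M := R) (p := 3) (k := 2) Nat.prime_three hW hWR
    (by simpa using h27) hc hco
  have hmt' : u * v = m * c * m⁻¹ := hmt
  have hc4' : Nat.card (fx V (u * v)) = 4 := by rw [hmt', card_fx_conj, hc4]
  have hne1 : u * v ≠ 1 := by
    intro h
    rw [hmt', conj_eq_one_iff] at h
    rw [h, orderOf_one] at hco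
    norm_num at hco
  obtain ⟨i, hi⟩ := (isOfFinOrder_of_finite a).mem_powers_iff_mem_zpowers.2 hu
  obtain ⟨j, hj⟩ := (isOfFinOrder_of_finite b).mem_powers_iff_mem_zpowers.2 hv
  have hi' : a ^ i = u := hi
  have hj' : b ^ j = v := hj
  rw [← pow_mod_orderOf, hao] at hi'
  rw [← pow_mod_orderOf, hbo] at hj'
  have hfa : Nat.card (fx V a) = 1 ∨ Nat.card (fx V a) = 64 := by
    rcases A.three_five hao hy hay with h | h
    · exact Or.inl h.2
    · exact Or.inr h.2.1
  have hfb : Nat.card (fx V b) = 1 ∨ Nat.card (fx V b) = 64 := by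
    rcases A.three_five hbo hz hbz with h | h
    · exact Or.inl h.2
    · exact Or.inr h.2.1
  have hconj : Nat.card (fx V (a * b ^ 2)) = Nat.card (fx V (a * b)) := by
    have h1 : a * b ^ 2 = g * (a * b) * g⁻¹ := by
      have h2 : b ^ 2 = b⁻¹ := eq_inv_of_mul_eq_one_left (by rw [← pow_succ, hb3])
      calc a * b ^ 2 = (g * a * g⁻¹) * (g * b * g⁻¹) := by rw [hga, hgb, h2]
        _ = _ := by group
    rw [h1, card_fx_conj]
  have hab4 : Nat.card (fx V (a * b)) = 4 := by
    have h1 : i % 3 = 0 ∨ i % 3 = 1 ∨ i % 3 = 2 := by omega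
    have h2 : j % 3 = 0 ∨ j % 3 = 1 ∨ j % 3 = 2 := by omega
    have hp1 : (a * b) ^ 3 = 1 := by rw [hcab.mul_pow, ha3, hb3, one_mul]
    have hp2 : (a * b ^ 2) ^ 3 = 1 := by
      rw [(hcab.pow_right 2).mul_pow, ha3, ← pow_mul, show 2 * 3 = 3 * 2 by norm_num, pow_mul, hb3, one_pow, one_mul]
    have hs1 : (a * b) ^ 2 = a ^ 2 * b ^ 2 := by rw [hcab.mul_pow]
    have hs2 : (a * b ^ 2) ^ 2 = a ^ 2 * b := by
      rw [(hcab.pow_right 2).mul_pow, ← pow_mul, show 2 * 2 = 3 + 1 by norm_num, pow_succ b 3, hb3, one_mul]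
    rcases h1 with h1 | h1 | h1 <;> rcases h2 with h2 | h2 | h2 <;> rw [h1] at hi' <;> rw [h2] at hj' <;>
      rw [← hi', ← hj'] at hc4' hne1
    · simp at hne1
    · rw [pow_zero, one_mul, pow_one] at hc4'
      rw [hc4'] at hfb; omega
    · rw [pow_zero, one_mul, fx_sq hb3] at hc4'
      rw [hc4'] at hfb; omega
    · rw [pow_zero, mul_one, pow_one] at hc4'
      rw [hc4'] at hfa; omega
    · rwa [pow_one, pow_one] at hc4'
    · rwa [pow_one, hconj] at hc4'
    · rw [pow_zero, mul_one, fx_sq ha3] at hc4'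
      rw [hc4'] at hfa; omega
    · rwa [pow_one, ← hs2, fx_sq hp2, hconj] at hc4'
    · rwa [← hs1, fx_sq hp1] at hc4'
  have h9 := A.sum_nine hab ha3 hb3
  rw [hconj, hab4] at h9
  rcases hfa with h1 | h1 <;> rcases hfb with h2 | h2 <;> rw [h1, h2] at h9 <;> norm_num at h9

theorem no_two {M : Subgroup G} (h27 : ¬ 27 ∣ Nat.card M) {H K : Type*} [Group H] [Group K] [Finite H] [Finite K]
    (f : H →* M) (k : K →* M) (hf : Function.Injective f) (hk : Function.Injective k)
    (hcomm : ∀ x y, f x * k y = k y * f x) (hdis : ∀ x y, f x = k y → y = 1) (hH3 : 3 ∣ Nat.card H)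
    (hH5 : 5 ∣ Nat.card H) (hK : IsSimpleGroup K) (hK60 : Nat.card K = 60)
    {c : G} (hc : c ∈ M) (hco : orderOf c = 3) (hc4 : Nat.card (fx V c) = 4) : False := by
  have h3p : Fact (Nat.Prime 3) := ⟨Nat.prime_three⟩
  have h5p : Fact (Nat.Prime 5) := ⟨Nat.prime_five⟩
  obtain ⟨a, ha⟩ := exists_prime_orderOf_dvd_card' (G := H) 3 hH3
  obtain ⟨z, hz⟩ := exists_prime_orderOf_dvd_card' (G := H) 5 hH5
  obtain ⟨b, hb⟩ := exists_prime_orderOf_dvd_card' (G := K) 3 (by rw [hK60]; norm_num)
  obtain ⟨y, hy⟩ := exists_prime_orderOf_dvd_card' (G := K) 5 (by rw [hK60]; norm_num)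
  obtain ⟨g, hg⟩ := real_three hK (by rw [hK60]; norm_num) (by rw [hK60]; norm_num) hb
  have hc1 : ∀ x y, (f x : G) * (k y : G) = (k y : G) * (f x : G) := fun x y => congrArg (fun w : M => (w : G)) (hcomm x y)
  refine A.no_pair h27 (a := (f a : G)) (b := (k b : G)) (y := (k y : G)) (z := (f z : G)) (g := (k g : G))
    (f a).2 (k b).2 (by rw [Subgroup.orderOf_coe, orderOf_injective f hf, ha])
    (by rw [Subgroup.orderOf_coe, orderOf_injective k hk, hb]) (hc1 _ _) (fun h => ?_)
    (by rw [Subgroup.orderOf_coe, orderOf_injective k hk, hy])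
    (by rw [Subgroup.orderOf_coe, orderOf_injective f hf, hz]) (hc1 _ _) (hc1 _ _).symm ?_ ?_ hc hco hc4
  · obtain ⟨n, hn⟩ := mem_zpowers_iff.1 h
    have h1 : f (a ^ n) = k b := by
      rw [map_zpow]
      exact Subtype.ext (by rw [← hn]; simp)
    have h2 := hdis _ _ h1
    rw [h2, orderOf_one] at hb
    norm_num at hb
  · rw [mul_inv_eq_iff_eq_mul]
    exact (hc1 _ _).symm
  · have h1 : k g * k b * (k g)⁻¹ = (k b)⁻¹ := by rw [← map_mul, ← map_inv, ← map_mul, hg, map_inv]
    exact congrArg (fun w : M => (w : G)) h1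

/-- **subgroups without solvable normal subgroups, containing a cube of an element of order 9**: almost simple -/
theorem simple_case {M : Subgroup G} (h9M : 9 ∣ Nat.card M) (h125 : ¬ 125 ∣ Nat.card M)
    (tab : ∀ (X : Type) [Group X] [Finite X], IsSimpleGroup X → (¬ ∀ a b : X, a * b = b * a) →
      Nat.card X ∣ Nat.card M → Tab X) (hcon : ∀ p : ℕ, p.Prime → pCore p M = ⊥)
    {c : G} (hc : c ∈ M) (hco : orderOf c = 3) (hc4 : Nat.card (fx V c) = 4) :
    ∃ (N : Subgroup M) (X : Type) (_ : Group X) (_ : Finite X), N.Normal ∧ IsSimpleGroup X ∧ Nonempty (N ≃* X) ∧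
      Nat.card M ∣ Nat.card (MulAut X) ∧ Tab X := by
  classical
  have := A.finG
  have h5p : Fact (Nat.Prime 5) := ⟨by norm_num⟩
  have hcN : ∀ (N : Subgroup M) (X : Type) [Group X] (m : ℕ) (_ : N ≃* (Fin m → X)), Nat.card N = Nat.card X ^ m := by
    intro N X _ m e
    rw [Nat.card_congr e.toEquiv, Nat.card_fun, Nat.card_eq_fintype_card (α := Fin m), Fintype.card_fin]
  have hsi : ∀ (X : Type) [Group X] (m : ℕ) (i : Fin m), Function.Injective (MonoidHom.mulSingle (fun _ : Fin m => X) i) :=
    fun X _ m i a b hab => by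
      have h1 := congrFun (show Pi.mulSingle (M := fun _ : Fin m => X) i a = Pi.mulSingle i b from hab) i
      rwa [Pi.mulSingle_eq_same, Pi.mulSingle_eq_same] at h1
  have htop : (⊤ : Subgroup M) ≠ ⊥ := by
    intro h
    have h1 : Nat.card (⊤ : Subgroup M) = 1 := by rw [h]; exact Subgroup.card_bot
    rw [Subgroup.card_top] at h1
    rw [h1] at h9M
    norm_num at h9M
  obtain ⟨N, hN, -, X, _, m, hs, hf, hna, hm, ⟨e⟩⟩ := exists_simple hcon ⊤ inferInstance htop
  have hNX := hcN N X m e
  have hXN : Nat.card X ∣ Nat.card N := by rw [hNX]; exact dvd_pow_self _ hm.ne'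
  have hT := tab X hs hna (hXN.trans (card_subgroup_dvd_card N))
  obtain ⟨x5, hx5⟩ := exists_prime_orderOf_dvd_card' (G := X) 5 hT.five
  by_cases hm1 : m = 1
  · subst hm1
    have e1 : N ≃* X := e.trans (MulEquiv.funUnique (Fin 1) X)
    rw [pow_one] at hNX
    set C : Subgroup M := centralizer (N : Set M) with hC
    have hCn : C.Normal := Subgroup.normal_centralizer
    obtain ⟨y', hy'⟩ := exists_prime_orderOf_dvd_card' (G := N) 5 (by rw [hNX]; exact hT.five)
    by_cases hCb : C = ⊥
    · have hinj : Function.Injective (MulAut.conjNormal (H := N)) := by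
        rw [← MonoidHom.ker_eq_bot_iff, eq_bot_iff]
        intro x hx
        rw [← hCb, hC, mem_centralizer_iff]
        intro z hz
        have h1 : (MulAut.conjNormal x : MulAut N) ⟨z, hz⟩ = ⟨z, hz⟩ := by
          rw [MonoidHom.mem_ker.1 hx]; rfl
        have h2 := congrArg Subtype.val h1
        rw [MulAut.conjNormal_apply] at h2
        exact (mul_inv_eq_iff_eq_mul.1 h2).symm
      have h1 : Nat.card M ∣ Nat.card (MulAut X) := by
        have h2 := Subgroup.card_dvd_of_injective _ hinj
        rwa [Nat.card_congr (MulAut.congr e1).toEquiv] at h2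
      exact ⟨N, X, inferInstance, hf, hN, hs, ⟨e1⟩, h1, hT⟩
    · exfalso
      obtain ⟨N', hN', hNC', X', _, m', hs', hf', hna', hm', ⟨e'⟩⟩ := exists_simple hcon C hCn hCb
      have hNX' := hcN N' X' m' e'
      have hXN' : Nat.card X' ∣ Nat.card N' := by rw [hNX']; exact dvd_pow_self _ hm'.ne'
      have hXC' : Nat.card X' ∣ Nat.card C := hXN'.trans (card_dvd_of_le hNC')
      have hT' := tab X' hs' hna' (hXC'.trans (card_subgroup_dvd_card C))
      have h5C : 5 ∣ Nat.card C := hT'.five.trans hXC'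
      obtain ⟨y, hy⟩ := exists_prime_orderOf_dvd_card' (G := C) 5 h5C
      have h9N : ¬ 9 ∣ Nat.card N := by
        refine A.not_nine_dvd (y := ((y : M) : G)) (by rw [Subgroup.orderOf_coe, Subgroup.orderOf_coe, hy])
          (M.subtype.comp N.subtype) (M.subtype_injective.comp N.subtype_injective) fun x => ?_
        exact congrArg (fun z : M => (z : G)) ((mem_centralizer_iff.1 y.2) x x.2)
      have h9C : ¬ 9 ∣ Nat.card C := by
        refine A.not_nine_dvd (y := ((y' : M) : G)) (by rw [Subgroup.orderOf_coe, Subgroup.orderOf_coe, hy'])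
          (M.subtype.comp C.subtype) (M.subtype_injective.comp C.subtype_injective) fun x => ?_
        exact congrArg (fun z : M => (z : G)) ((mem_centralizer_iff.1 x.2) y' y'.2).symm
      have h60 : Nat.card N = 60 := by
        rw [hNX] at h9N ⊢
        exact hT.sixty h9N
      have h60' : Nat.card X' = 60 := hT'.sixty fun h => h9C (h.trans hXC')
      have hNC : N ⊓ C = ⊥ := by
        rw [eq_bot_iff]
        rintro x ⟨hx1, hx2⟩
        have h1 : (⟨x, hx1⟩ : N) ∈ center N := mem_center_iff.2 fun z => Subtype.ext ((mem_centralizer_iff.1 hx2) z z.2)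
        have h2 : center X = ⊥ := by
          rcases hs.eq_bot_or_eq_top_of_normal (center X) inferInstance with h | h
          · exact h
          · exfalso
            apply hna
            intro a b
            have h3 : b ∈ center X := by rw [h]; trivial
            exact mem_center_iff.1 h3 a
        have h3 : e1 ⟨x, hx1⟩ ∈ center X := mem_center_iff.2 fun z => by
          obtain ⟨w, rfl⟩ := e1.surjective z
          rw [← map_mul, ← map_mul, mem_center_iff.1 h1 w]
        rw [h2, mem_bot, map_eq_one_iff e1 e1.injective] at h3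
        exact mem_bot.2 (congrArg Subtype.val h3)
      have hK : Nat.card (N ⊔ C : Subgroup M) = 60 * Nat.card C := by
        have h1 := Wiel.card_sup_mul (K := N) (H := C) (by rw [normalizer_eq_top]; exact le_top)
        rw [hNC, Subgroup.card_bot, mul_one, h60] at h1
        exact h1
      by_cases h27 : 27 ∣ Nat.card M
      · refine A.no_normal25 (N ⊔ C) ?_ h125 ?_ h27
        · rw [hK]
          obtain ⟨c, hc⟩ := h5C
          rw [hc]
          exact ⟨12 * c, by ring⟩
        · rw [hK]
          intro h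
          apply h9C
          omega
      · set i0 : Fin m' := ⟨0, hm'⟩
        set k : X' →* M := (N'.subtype.comp e'.symm.toMonoidHom).comp (MonoidHom.mulSingle (fun _ : Fin m' => X') i0) with hk
        have hki : Function.Injective k := (N'.subtype_injective.comp e'.symm.injective).comp (hsi X' m' i0)
        have hkC : ∀ x, k x ∈ C := fun x => hNC' (e'.symm (MonoidHom.mulSingle (fun _ : Fin m' => X') i0 x)).2
        refine A.no_two h27 N.subtype k N.subtype_injective hki (fun x y => ?_) (fun x y hxy => ?_)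
          (by rw [h60]; norm_num) (by rw [h60]; norm_num) hs' h60' hc hco hc4
        · exact (mem_centralizer_iff.1 (hkC y)) x x.2
        · have h1 : k y ∈ N ⊓ C := ⟨by rw [← hxy]; exact x.2, hkC y⟩
          rw [hNC, mem_bot, map_eq_one_iff k hki] at h1
          exact h1
  · -- two factors
    exfalso
    have hm2 : 2 ≤ m := by omega
    set i0 : Fin m := ⟨0, by omega⟩
    set i1 : Fin m := ⟨1, by omega⟩
    have hne : i0 ≠ i1 := by
      intro h
      have := congrArg Fin.val h
      norm_num [i0, i1] at this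
    have hcm : ∀ x y : X, Commute (Pi.mulSingle i0 x : Fin m → X) (Pi.mulSingle i1 y) := by
      intro x y
      funext j
      rw [Pi.mul_apply, Pi.mul_apply]
      by_cases hj : j = i0
      · subst hj
        rw [Pi.mulSingle_eq_of_ne hne, mul_one, one_mul]
      · rw [Pi.mulSingle_eq_of_ne hj, mul_one, one_mul]
    have h9X : ¬ 9 ∣ Nat.card X := by
      refine A.not_nine_dvd (y := (((e.symm (Pi.mulSingle i1 x5) : N) : M) : G)) ?_
        ((M.subtype.comp N.subtype).comp (e.symm.toMonoidHom.comp (MonoidHom.mulSingle (fun _ => X) i0)))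
        ((M.subtype_injective.comp N.subtype_injective).comp (e.symm.injective.comp (hsi X m i0)))
        fun x => ?_
      · rw [Subgroup.orderOf_coe, Subgroup.orderOf_coe, MulEquiv.orderOf_eq, ← hx5]
        exact orderOf_injective (MonoidHom.mulSingle (fun _ => X) i1) (hsi X m i1) x5
      · have h2 := (hcm x x5).map e.symm
        exact congrArg (fun z : N => ((z : M) : G)) h2.eq
    have h60 := hT.sixty h9X
    by_cases h27 : 27 ∣ Nat.card M
    · rw [h60] at hNX
      have hm3 : m < 3 := by
        by_contra h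
        push Not at h
        apply h125
        have h1 : 60 ^ 3 ∣ Nat.card N := by rw [hNX]; exact pow_dvd_pow 60 h
        exact ((by norm_num : 125 ∣ 60 ^ 3).trans h1).trans (card_subgroup_dvd_card N)
      have hm4 : m = 2 := by omega
      subst hm4
      refine A.no_normal25 N ?_ h125 ?_ h27 <;> rw [hNX] <;> norm_num
    · set k0 : X →* M := (N.subtype.comp e.symm.toMonoidHom).comp (MonoidHom.mulSingle (fun _ : Fin m => X) i0) with hk0
      set k1 : X →* M := (N.subtype.comp e.symm.toMonoidHom).comp (MonoidHom.mulSingle (fun _ : Fin m => X) i1) with hk1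
      have hk0i : Function.Injective k0 := (N.subtype_injective.comp e.symm.injective).comp (hsi X m i0)
      have hk1i : Function.Injective k1 := (N.subtype_injective.comp e.symm.injective).comp (hsi X m i1)
      refine A.no_two h27 k0 k1 hk0i hk1i (fun x y => ?_) (fun x y hxy => ?_)
        (by rw [h60]; norm_num) (by rw [h60]; norm_num) hs h60 hc hco hc4
      · have h2 := (hcm x y).map e.symm
        exact congrArg (fun z : N => (z : M)) h2.eq
      · have h1 : e.symm (Pi.mulSingle i0 x) = e.symm (Pi.mulSingle i1 y) := N.subtype_injective hxy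
        have h2 := congrFun (e.symm.injective h1) i1
        rw [Pi.mulSingle_eq_same, Pi.mulSingle_eq_of_ne hne.symm] at h2
        exact h2.symm

end Oct

end Cfsg.Agent.H547.Der.Oc
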