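import Cfsg.Agent.H547.Der.OctN
import Cfsg.Agent.H547.Der.OctO
import Cfsg.Agent.H251.Der.Facts

/-!
# `Ω⁺₈(2)`: subgroups of order prime to 7 (helper547, for S3502)
-/

set_option autoImplicit false

namespace Cfsg.Agent.H547.Der.Eight

open Subgroup Cfsg Cfsg.Agent.H503.El.O8 Cfsg.Agent.H547.Der.Oc Cfsg.Agent.H439.Der Cfsg.Agent Cfsg.Agent.H970.StabNum
open Cfsg.Agent.H396

theorem not_125 (R : Subgroup T8) : ¬ 125 ∣ Nat.card R := fun h => by
  have := h.trans (card_subgroup_dvd_card R)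
  rw [card_t8] at this
  norm_num at this

theorem pCore_eq_bot {R : Subgroup T8} {p : ℕ} (hp : p.Prime) (h : ¬ p ∣ Nat.card R) : pCore p R = ⊥ := by
  have hfp : Fact p.Prime := ⟨hp⟩
  obtain ⟨k, hk⟩ := IsPGroup.iff_card.1 (Lib.Cores.pCore_isPGroup (G := R) p)
  by_contra hcon
  have hk0 : k ≠ 0 := by
    rintro rfl
    exact hcon (Subgroup.eq_bot_of_card_eq _ (by rw [hk, pow_zero]))
  exact h (((dvd_pow_self p hk0).trans (by rw [hk])).trans (card_subgroup_dvd_card (pCore p R)))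

theorem exists_seven : ∃ x : T8, orderOf x = 7 := by
  have h7p : Fact (Nat.Prime 7) := ⟨by norm_num⟩
  exact exists_prime_orderOf_dvd_card' (G := T8) 7 (by rw [card_t8]; norm_num)

theorem tw9_v9 (g : T8) : g * tw9 * g⁻¹ ≠ v9 := fun h => by
  have h1 := card_v9
  rw [← h, card_fx_conj, card_tw9] at h1
  norm_num at h1

theorem conj_ne {x y : T8} {n m : ℕ} (hx : orderOf x = n) (hy : orderOf y = m) (h : n ≠ m) (g : T8) :
    g * x * g⁻¹ ≠ y := fun hg => h (by rw [← hx, ← hy, ← hg, orderOf_conj])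

theorem tz1_tz2 (g : T8) : g * tz1 * g⁻¹ ≠ tz2 := fun h => by
  have h1 := card_tz2
  rw [← h, conj_pow, card_fx_conj, card_tz1] at h1
  norm_num at h1

/-- order 9 and another element missed -/
theorem fin_nine {R : Subgroup T8} (h9 : ∀ y ∈ R, orderOf y ≠ 9) {x : T8} (hx : ∀ φ : T8 ≃* T8, φ x ∉ R)
    (hxo : orderOf x ≠ 9) (h2 : ¬ 4096 ∣ Nat.card R) (h3 : ¬ 243 ∣ Nat.card R) :
    ThreeT T8 R ∧ Two T8 R ∧ NoOne T8 R := by
  refine ⟨⟨tw9, v9, x, fun g => ?_, fun g => ?_, fun g => ?_, tw9_v9, conj_ne order_tw9 rfl (Ne.symm hxo),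
    conj_ne order_v9 rfl (Ne.symm hxo)⟩, ⟨tw9, x, miss_of_order order_tw9 h9, hx, ne_of_order order_tw9 rfl (Ne.symm hxo)⟩,
    noOne h2 h3⟩
  · exact fun h => h9 _ h (by rw [orderOf_conj, order_tw9])
  · exact fun h => h9 _ h (by rw [orderOf_conj, order_v9])
  · simpa using hx (MulAut.conj g)

/-- order 15 and another element missed -/
theorem fin_fifteen {R : Subgroup T8} (h9 : ∀ y ∈ R, orderOf y ≠ 15) {x : T8} (hx : ∀ φ : T8 ≃* T8, φ x ∉ R)
    (hxo : orderOf x ≠ 15) (h2 : ¬ 4096 ∣ Nat.card R) (h3 : ¬ 243 ∣ Nat.card R) :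
    ThreeT T8 R ∧ Two T8 R ∧ NoOne T8 R := by
  refine ⟨⟨tz1, tz2, x, fun g => ?_, fun g => ?_, fun g => ?_, tz1_tz2, conj_ne order_tz1 rfl (Ne.symm hxo),
    conj_ne order_tz2 rfl (Ne.symm hxo)⟩, ⟨tz1, x, miss_of_order order_tz1 h9, hx, ne_of_order order_tz1 rfl (Ne.symm hxo)⟩,
    noOne h2 h3⟩
  · exact fun h => h9 _ h (by rw [orderOf_conj, order_tz1])
  · exact fun h => h9 _ h (by rw [orderOf_conj, order_tz2])
  · simpa using hx (MulAut.conj g)

/-- elements of odd order in a subgroup of index at most 2 -/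
theorem mem_of_index {H : Type*} [Group H] {N : Subgroup H} [N.Normal] (h : N.index ∣ 2) {x : H} (hx : Odd (orderOf x)) :
    x ∈ N := by
  have h1 : x ^ 2 ∈ N := by
    obtain ⟨k, hk⟩ := h
    rw [hk, pow_mul]
    exact N.pow_mem (Subgroup.pow_index_mem N x) k
  obtain ⟨k, hk⟩ := hx
  have h2 : x = x ^ (orderOf x) * (x ^ 2) ^ (-(k : ℤ)) := by
    rw [hk, ← zpow_natCast x 2, ← zpow_mul, ← zpow_natCast x (2 * k + 1), ← zpow_add]
    push_cast
    rw [show (2 * (k : ℤ) + 1 + 2 * -(k : ℤ)) = 1 by ring, zpow_one]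
  rw [h2, pow_orderOf_eq_one, one_mul]
  exact N.zpow_mem h1 _

/-- **subgroups of order divisible by 5, not by 7** -/
theorem T7 (OT : OrdDiv.OrderTable.{0})
    (hS : ∀ (X : Type) [Group X] [Finite X] [IsSimpleGroup X], Cfsg.IsKnownSimple' X)
    {R : Subgroup T8} (h7 : ¬ 7 ∣ Nat.card R) (h5 : 5 ∣ Nat.card R) :
    Three T8 R ∨ (ThreeT T8 R ∧ Two T8 R ∧ NoOne T8 R) := by
  by_cases hO : pCore 2 R = ⊥
  swap
  · exact Or.inl (TO2 h5 hO)
  by_cases h9 : 9 ∣ Nat.card R
  swap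
  · exact Or.inl (T9 h9)
  by_cases h3C : ∀ φ : T8 ≃* T8, φ (tw9 ^ 3) ∉ R
  · exact Or.inl (L3C h3C)
  push Not at h3C
  obtain ⟨φ0, hφ0⟩ := h3C
  have h125 := not_125 R
  obtain ⟨x7, hx7⟩ := exists_seven
  have hx7R : ∀ φ : T8 ≃* T8, φ x7 ∉ R := not_mem_of_dvd h7 (by rw [hx7])
  by_cases hO3 : pCore 3 R = ⊥
  swap
  · -- a normal 3-subgroup
    have hn := Lib.Cores.pCore_normal (G := R) 3
    have h3p : Fact (Nat.Prime 3) := ⟨Nat.prime_three⟩
    refine Or.inl ⟨x7, tg4, g8, hx7R, fun φ hφ => ?_, fun φ hφ => ?_,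
      ne_of_order hx7 order_tg4 (by norm_num), ne_of_order hx7 order_g8 (by norm_num),
      ne_of_order order_tg4 order_g8 (by norm_num)⟩
    · exact octT.no_normal3 (pCore 3 R) (Lib.Cores.pCore_isPGroup 3) hO3 h5 hφ (no_three φ)
    · refine octT.no_normal3 (pCore 3 R) (Lib.Cores.pCore_isPGroup 3) hO3 h5 hφ fun a y ha _ _ hag => ?_
      refine no_comm_g8 (a := φ.symm a) (by rw [MulEquiv.orderOf_eq, ha]) ?_
      apply φ.injective
      rw [map_mul, map_mul, φ.apply_symm_apply, map_pow, hag]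
  have hcard : Nat.card R ∣ 174182400 := by rw [← card_t8]; exact card_subgroup_dvd_card R
  have hcon : ∀ p : ℕ, p.Prime → pCore p R = ⊥ := by
    intro p hp
    by_cases hpR : p ∣ Nat.card R
    · rcases prime_of_dvd hp (hpR.trans hcard) with rfl | rfl | rfl | rfl
      · exact hO
      · exact hO3
      · by_contra h
        have hn := Lib.Cores.pCore_normal (G := R) 5
        have h5p : Fact (Nat.Prime 5) := ⟨Nat.prime_five⟩
        exact octT.no_normal5' (pCore 5 R) (Lib.Cores.pCore_isPGroup 5) h h125 h9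
      · exact absurd hpR h7
    · exact pCore_eq_bot hp hpR
  rw [map_pow] at hφ0
  have hy9 : orderOf (φ0 tw9) = 9 := by rw [MulEquiv.orderOf_eq, order_tw9]
  obtain ⟨N, X, _, _, hN, hs, ⟨e⟩, hd, hT⟩ := octT.simple_case h9 h125 (fun X _ _ hs hna hd =>
      tab_of OT hS X hs hna (hd.trans hcard) fun h => h7 (h.trans hd)) hcon hφ0
      (by rw [orderOf_pow' _ (by norm_num), hy9]; decide) (octT.cube_nine hy9).1
  rcases hT with ⟨-, h2⟩ | ⟨-, h2⟩ | ⟨h1, h2⟩
  · have h3 := h9.trans (hd.trans h2)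
    norm_num at h3
  · have h27 : ¬ 27 ∣ Nat.card R := fun h => by
      have h3 := h.trans (hd.trans h2)
      norm_num at h3
    rcases T27 h27 with h | h
    · exact Or.inl h
    · refine Or.inr (fin_nine h hx7R (by rw [hx7]; norm_num) (fun h => ?_) fun h => ?_)
      · have h3 := h.trans (hd.trans h2)
        norm_num at h3
      · have h3 := h.trans (hd.trans h2)
        norm_num at h3
  · -- the order 25920
    have hna : ¬ ∀ a b : X, a * b = b * a := by
      intro hab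
      let cg : CommGroup X := { (inferInstance : Group X) with mul_comm := hab }
      have h3 : (Nat.card X).Prime := IsSimpleGroup.prime_card (α := X)
      rw [h1] at h3
      norm_num at h3
    have hNi : N.index ∣ 2 := by
      have h3 := N.card_mul_index
      have h4 : Nat.card N = 25920 := by rw [Nat.card_congr e.toEquiv, h1]
      have h5 := hd.trans h2
      rw [← h3, h4, show 51840 = 25920 * 2 by norm_num] at h5
      exact Nat.dvd_of_mul_dvd_mul_left (by norm_num) h5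
    refine Or.inr (fin_fifteen (fun y hy hyo => ?_) hx7R (by rw [hx7]; norm_num) (fun h => ?_) fun h => ?_)
    · have h3 : (⟨y, hy⟩ : R) ∈ N := mem_of_index hNi (by rw [Subgroup.orderOf_mk, hyo]; decide)
      have h4 := H251.Der.ord_25920 OT hS hna h1 (e ⟨⟨y, hy⟩, h3⟩)
      rw [MulEquiv.orderOf_eq, Subgroup.orderOf_mk, Subgroup.orderOf_mk, hyo] at h4
      exact absurd h4 (by decide)
    · have h3 := h.trans (hd.trans h2)
      norm_num at h3
    · have h3 := h.trans (hd.trans h2)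
      norm_num at h3

end Cfsg.Agent.H547.Der.Eight
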