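import Cfsg.Agent.H547.Der.OctP

/-!
# `Ω⁺₈(2)`: subgroups of order divisible by 35 (helper547, for S3502)
-/

set_option autoImplicit false

namespace Cfsg.Agent.H547.Der.Eight

open Subgroup Cfsg Cfsg.Agent.H503.El.O8 Cfsg.Agent.H547.Der.Oc Cfsg.Agent.H439.Der Cfsg.Agent Cfsg.Agent.H970.StabNum
open Cfsg.Agent.H396

theorem not_dvd_three' {a : ℕ} (ha0 : a ≠ 0) (ha : a ∣ 174182400) (h : 3 ^ (a.factorization 3) ≡ 1 [MOD 7]) : ¬ 3 ∣ a := by
  intro h3
  have h5 : 1 ≤ a.factorization 3 := ((by norm_num : Nat.Prime 3).dvd_iff_one_le_factorization ha0).1 h3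
  have h6 : ¬ 6 ≤ a.factorization 3 := fun h6 => by
    have h7 : 3 ^ 6 ∣ a := (Nat.prime_three.pow_dvd_iff_le_factorization ha0).2 h6
    have := h7.trans ha
    norm_num at this
  generalize a.factorization 3 = v at *
  have h7 : v = 1 ∨ v = 2 ∨ v = 3 ∨ v = 4 ∨ v = 5 := by omega
  rcases h7 with rfl | rfl | rfl | rfl | rfl <;> exact absurd h (by decide)

theorem sub_bot {H : Type*} [Group H] [Finite H] {L : Subgroup H} (hLn : L.Normal) (hO : pCore 2 H = ⊥)
    {A : Subgroup L} (hA : A.Normal) {k : ℕ} (hk : Nat.card A = 2 ^ k) : A = ⊥ := by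
  have h2 : Fact (Nat.Prime 2) := ⟨Nat.prime_two⟩
  have h1 : A ≤ pCore 2 L := Lib.Cores.le_pCore hA (IsPGroup.of_card hk)
  have h3 := Lib.Cores.map_subtype_pCore (G := H) 2 (N := L) hLn
  rw [hO, inf_bot_eq, Subgroup.map_eq_bot_iff_of_injective _ L.subtype_injective] at h3
  rw [h3, le_bot_iff] at h1
  exact h1

theorem mem_of_dvd6 {n : ℕ} (h : n ∣ 6) : n ∈ [1, 2, 3, 6] := by
  have h1 := Nat.le_of_dvd (by norm_num) h
  interval_cases n <;> simp_all

/-- the orders -/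
def prs8 : List (ℕ × ℕ) :=
  [(2520, 2520), (5040, 2520), (20160, 20160), (40320, 20160), (181440, 181440), (604800, 604800), (1451520, 1451520)]

theorem surv_all : (H251.Small.surv [(7, 1, 6)] [2, 3, 5, 7] tblEight [(2, 12), (3, 5), (5, 2), (7, 1)] [5, 7]).all
      (fun h => Nat.blt 1451520 h || tblEight.all fun s => [1, 2, 3, 6].all fun c =>
        (!Nat.beq h (s * c) || !Nat.beq (s % 35) 0) || prs8.contains (h, s)) = true := by decide +kernel

set_option maxRecDepth 100000 in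
/-- **subgroups of order divisible by 35 with `O₂(R) = 1`** -/
theorem classify' {T : Type} [Group T] [Finite T] (hcT : Nat.card T = 174182400)
    (hent : ∀ P : Subgroup T, Nat.card P = 7 → Nat.card (centralizer (P : Set T)) ∣ 7 * 1 ∧
      Nat.card (normalizer (P : Set T)) ∣ 7 * 6) (hD : Data T [(7, 1, 6)] [2, 3, 5, 7] tblEight)
    {R : Subgroup T} (hR : 120 ≤ R.index) (h7 : 7 ∣ Nat.card R) (h5 : 5 ∣ Nat.card R) (hO : pCore 2 R = ⊥) :
    ∃ L : Subgroup R, L.Normal ∧ IsSimpleGroup L ∧ (¬ ∀ a b : L, a * b = b * a) ∧ (Nat.card R, Nat.card L) ∈ prs8 := by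
  obtain ⟨L, hLn, A, hAn, hs, hA7, hcard, h7L, hc6, hpow⟩ := struct hcT hent R h7
  have ha0 : Nat.card A ≠ 0 := (Nat.card_pos (α := A)).ne'
  have hRd : Nat.card R ∣ 174182400 := by rw [← hcT]; exact card_subgroup_dvd_card R
  have hadvd : Nat.card A ∣ Nat.card R := ⟨Nat.card (L ⧸ A) * L.index, by rw [hcard]; ring⟩
  have h3a := not_dvd_three' ha0 (hadvd.trans hRd) (hpow 3 Nat.prime_three)
  have h5a := not_dvd_five ha0 (hadvd.trans hRd) (by norm_num) (hpow 5 Nat.prime_five)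
  obtain ⟨k, hk⟩ : ∃ k : ℕ, Nat.card A = 2 ^ k := by
    have h1 : Nat.card A ∣ 2 ^ 12 := by
      have h2 : Nat.Coprime (Nat.card A) (3 ^ 5 * 5 ^ 2 * 7) := by
        refine Nat.Coprime.mul_right (Nat.Coprime.mul_right (Nat.Coprime.pow_right _ ?_) (Nat.Coprime.pow_right _ ?_)) ?_
        · exact Nat.coprime_comm.1 ((Nat.Prime.coprime_iff_not_dvd Nat.prime_three).2 h3a)
        · exact Nat.coprime_comm.1 ((Nat.Prime.coprime_iff_not_dvd Nat.prime_five).2 h5a)
        · exact Nat.coprime_comm.1 ((Nat.Prime.coprime_iff_not_dvd (by norm_num)).2 hA7)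
      refine h2.dvd_of_dvd_mul_right ?_
      norm_num
      exact hadvd.trans hRd
    obtain ⟨k, -, hk⟩ := (Nat.dvd_prime_pow Nat.prime_two).1 h1
    exact ⟨k, hk⟩
  have hAb : A = ⊥ := sub_bot hLn hO hAn hk
  subst hAb
  have e : L ≃* L ⧸ (⊥ : Subgroup L) := (QuotientGroup.quotientBot).symm
  have hLs : IsSimpleGroup L := e.isSimpleGroup
  have hLc : Nat.card (L ⧸ (⊥ : Subgroup L)) = Nat.card L := (Nat.card_congr e.toEquiv).symm
  rw [Subgroup.card_bot, one_mul, hLc] at hcard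
  rw [hLc] at h7L
  have h5L : 5 ∣ Nat.card L := by
    rw [hcard] at h5
    rcases (Nat.Prime.dvd_mul Nat.prime_five).1 h5 with h6 | h6
    · exact h6
    · have := h6.trans hc6
      norm_num at this
  have hna : ¬ ∀ a b : L, a * b = b * a := by
    intro hab
    let cg : CommGroup L := { (inferInstance : Group L) with mul_comm := hab }
    have h3 : (Nat.card L).Prime := IsSimpleGroup.prime_card (α := L)
    have h4 : 7 = Nat.card L := (Nat.prime_dvd_prime_iff_eq (by norm_num) h3).1 h7L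
    rw [← h4] at h5L
    norm_num at h5L
  have hLT : Nat.card L ∣ Nat.card T := by
    rw [hcT]
    exact (card_subgroup_dvd_card L).trans hRd
  have htbl := hD.tbl L hLs hna hLT
  have hsurv := H251.Small.mem_surv hD (l := [(2, 12), (3, 5), (5, 2), (7, 1)]) (prs := [5, 7])
    (by rw [hcT]; decide +kernel) R (by
      intro r hr
      rw [List.mem_cons, List.mem_singleton] at hr
      rcases hr with rfl | rfl
      · exact h5
      · exact h7)
  have hb : Nat.card R ≤ 1451520 := by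
    have h1 := hR
    have h2 := R.index_mul_card
    rw [hcT] at h2
    by_contra hcon
    push Not at hcon
    have h3 : 120 * 1451521 ≤ R.index * Nat.card R := Nat.mul_le_mul h1 hcon
    omega
  refine ⟨L, hLn, hLs, hna, ?_⟩
  have hc := mem_of_dvd6 hc6
  have hT := surv_all
  rw [List.all_eq_true] at hT
  have h1 := hT _ hsurv
  rw [Bool.or_eq_true, Nat.blt_eq] at h1
  rcases h1 with h1 | h1
  · omega
  rw [List.all_eq_true] at h1
  have h2 := h1 _ htbl
  rw [List.all_eq_true] at h2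
  have h3 := h2 _ hc
  rw [Bool.or_eq_true, Bool.or_eq_true, Bool.not_eq_true', Bool.not_eq_true'] at h3
  rcases h3 with (h3 | h3) | h3
  · exfalso
    rw [← hcard] at h3
    rw [Nat.beq_refl] at h3
    exact Bool.noConfusion h3
  · exfalso
    have h4 : 35 ∣ Nat.card L := by
      rw [show 35 = 5 * 7 by norm_num]
      exact Nat.Coprime.mul_dvd_of_dvd_of_dvd (by norm_num) h5L h7L
    rw [Nat.mod_eq_zero_of_dvd h4] at h3
    exact absurd h3 (by decide)
  · exact List.contains_iff_mem.1 h3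

theorem classify (OT : OrdDiv.OrderTable.{0})
    (hS : ∀ (X : Type) [Group X] [Finite X] [IsSimpleGroup X], Cfsg.IsKnownSimple' X)
    {R : Subgroup T8} (hR : R ≠ ⊤) (h7 : 7 ∣ Nat.card R) (h5 : 5 ∣ Nat.card R) (hO : pCore 2 R = ⊥) :
    ∃ L : Subgroup R, L.Normal ∧ IsSimpleGroup L ∧ (¬ ∀ a b : L, a * b = b * a) ∧ (Nat.card R, Nat.card L) ∈ prs8 :=
  classify' card_t8 hent (data OT hS) (index_ge R hR) h7 h5 hO

theorem index_of {R : Subgroup T8} {L : Subgroup R} {a b : ℕ} (hR : Nat.card R = a) (hL : Nat.card L = b) :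
    b * L.index = a := by rw [← hL, ← hR]; exact L.card_mul_index

/-- `A₇` -/
theorem case2520 (OT : OrdDiv.OrderTable.{0})
    (hS : ∀ (X : Type) [Group X] [Finite X] [IsSimpleGroup X], Cfsg.IsKnownSimple' X)
    {R : Subgroup T8} {L : Subgroup R} (hLn : L.Normal) (hs : IsSimpleGroup L) (hna : ¬ ∀ a b : L, a * b = b * a)
    (h2 : L.index ∣ 2) (hL : Nat.card L = 2520) (h4096 : ¬ 4096 ∣ Nat.card R) (h243 : ¬ 243 ∣ Nat.card R) :
    ThreeT T8 R ∧ Two T8 R ∧ NoOne T8 R := by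
  have key : ∀ n : ℕ, Odd n → n ∉ [1, 2, 3, 4, 5, 6, 7] → ∀ y ∈ R, orderOf y ≠ n := by
    intro n hn hn2 y hy hyo
    have h3 : (⟨y, hy⟩ : R) ∈ L := mem_of_index h2 (by rw [Subgroup.orderOf_mk, hyo]; exact hn)
    have h4 := H251.Der.ord_2520 OT hS hna hL ⟨⟨y, hy⟩, h3⟩
    rw [Subgroup.orderOf_mk, Subgroup.orderOf_mk, hyo] at h4
    exact hn2 h4
  exact fin_nine (key 9 (by decide) (by decide)) (miss_of_order order_tz1 (key 15 (by decide) (by decide)))
    (by rw [order_tz1]; norm_num) h4096 h243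

/-- elements of order 3 of `A₈` -/
theorem type8 {x : alternatingGroup (Fin 8)} (hx : orderOf x = 3) :
    (x : Equiv.Perm (Fin 8)).cycleType = {3} ∨ (x : Equiv.Perm (Fin 8)).cycleType = {3, 3} := by
  have hx' : orderOf (x : Equiv.Perm (Fin 8)) = 3 := by rw [Subgroup.orderOf_coe, hx]
  obtain ⟨n, hn⟩ := Equiv.Perm.cycleType_prime_order (σ := (x : Equiv.Perm (Fin 8))) (by rw [hx']; exact Nat.prime_three)
  rw [hx'] at hn
  have h1 := Equiv.Perm.sum_cycleType (x : Equiv.Perm (Fin 8))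
  rw [hn, Multiset.sum_replicate, smul_eq_mul] at h1
  have h2 := Finset.card_le_univ (x : Equiv.Perm (Fin 8)).support
  rw [← h1, Fintype.card_fin] at h2
  have h3 : n = 0 ∨ n = 1 := by omega
  rcases h3 with rfl | rfl
  · left; rw [hn]; rfl
  · right; rw [hn]; rfl

theorem conj8 {x y : alternatingGroup (Fin 8)} (hx : orderOf x = 3)
    (h : (x : Equiv.Perm (Fin 8)).cycleType = (y : Equiv.Perm (Fin 8)).cycleType) : IsConj x y := by
  refine alternatingGroup.isConj_of (Equiv.Perm.isConj_iff_cycleType_eq.2 h) ?_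
  rw [← Equiv.Perm.sum_cycleType, Fintype.card_fin]
  rcases type8 hx with h1 | h1 <;> rw [h1] <;> decide

theorem alt8 {x y z : alternatingGroup (Fin 8)} (hx : orderOf x = 3) (hy : orderOf y = 3) (hz : orderOf z = 3) :
    IsConj x y ∨ IsConj x z ∨ IsConj y z := by
  rcases type8 hx with h1 | h1 <;> rcases type8 hy with h2 | h2 <;> rcases type8 hz with h3 | h3
  · exact Or.inl (conj8 hx (h1.trans h2.symm))
  · exact Or.inl (conj8 hx (h1.trans h2.symm))
  · exact Or.inr (Or.inl (conj8 hx (h1.trans h3.symm)))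
  · exact Or.inr (Or.inr (conj8 hy (h2.trans h3.symm)))
  · exact Or.inr (Or.inr (conj8 hy (h2.trans h3.symm)))
  · exact Or.inr (Or.inl (conj8 hx (h1.trans h3.symm)))
  · exact Or.inl (conj8 hx (h1.trans h2.symm))
  · exact Or.inl (conj8 hx (h1.trans h2.symm))

theorem ne_AB (φ : T8 ≃* T8) : φ (tz1 ^ 5) ≠ b3 := fun hφ => by
  have h6 := octT.three_five (a := b3) (y := φ (tz1 ^ 3)) order_b3
    (by rw [MulEquiv.orderOf_eq, order_tz1_3]) (by
      rw [← hφ, ← map_mul, ← map_mul, ← pow_add, ← pow_add])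
  rw [card_b3] at h6
  rcases h6 with h6 | h6
  · exact absurd h6.2 (by norm_num)
  · exact absurd h6.2.1 (by norm_num)

theorem ne_AC (φ : T8 ≃* T8) : φ (tz1 ^ 5) ≠ tw9 ^ 3 := fun hφ => by
  have h6 := octT.three_five (a := tw9 ^ 3) (y := φ (tz1 ^ 3)) order_tw9_3
    (by rw [MulEquiv.orderOf_eq, order_tz1_3]) (by
      rw [← hφ, ← map_mul, ← map_mul, ← pow_add, ← pow_add])
  rw [(octT.cube_nine order_tw9).1] at h6
  rcases h6 with h6 | h6
  · exact absurd h6.2 (by norm_num)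
  · exact absurd h6.2.1 (by norm_num)

theorem ne_BC (φ : T8 ≃* T8) : φ b3 ≠ tw9 ^ 3 := fun hφ => by
  have h4 := (octT.cube_nine (y := φ.symm tw9) (by rw [MulEquiv.orderOf_eq, order_tw9])).1
  rw [← map_pow, ← hφ, φ.symm_apply_apply, card_b3] at h4
  norm_num at h4

theorem conj_aux {T K : Type*} [Group T] [Group K] {R : Subgroup T} {L : Subgroup R} (e : L ≃* K) {x y : T} (hx : x ∈ R)
    (hxL : (⟨x, hx⟩ : R) ∈ L) (hy : y ∈ R) (hyL : (⟨y, hy⟩ : R) ∈ L) (h : IsConj (e ⟨⟨x, hx⟩, hxL⟩) (e ⟨⟨y, hy⟩, hyL⟩)) :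
    ∃ g : T, g * x * g⁻¹ = y := by
  obtain ⟨c, hc⟩ := isConj_iff.1 h
  refine ⟨((e.symm c : R) : T), ?_⟩
  have h1 : e.symm c * (⟨⟨x, hx⟩, hxL⟩ : L) * (e.symm c)⁻¹ = ⟨⟨y, hy⟩, hyL⟩ := by
    apply e.injective
    rw [map_mul, map_mul, map_inv, e.apply_symm_apply, hc]
  exact congrArg (fun z : L => ((z : R) : T)) h1

theorem conj_aut {x y : T8} {φ ψ : T8 ≃* T8} {g : T8} (h : g * φ x * g⁻¹ = ψ y) : ∃ χ : T8 ≃* T8, χ x = y :=
  ⟨(φ.trans (MulAut.conj g)).trans ψ.symm, by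
    show ψ.symm (g * φ x * g⁻¹) = y
    rw [h, ψ.symm_apply_apply]⟩

/-- `A₈` has only two classes of elements of order 3 -/
theorem three_classes {R : Subgroup T8} {L : Subgroup R} (hLn : L.Normal) (h2 : L.index ∣ 2)
    (e : L ≃* alternatingGroup (Fin 8)) :
    (∀ φ : T8 ≃* T8, φ (tz1 ^ 5) ∉ R) ∨ (∀ φ : T8 ≃* T8, φ b3 ∉ R) ∨ (∀ φ : T8 ≃* T8, φ (tw9 ^ 3) ∉ R) := by
  by_contra hcon
  push Not at hcon
  obtain ⟨⟨φ, hφ⟩, ⟨ψ, hψ⟩, ⟨χ, hχ⟩⟩ := hcon
  have hodd : Odd 3 := by decide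
  have o1 : orderOf (φ (tz1 ^ 5)) = 3 := by rw [MulEquiv.orderOf_eq, order_tz1_5]
  have o2 : orderOf (ψ b3) = 3 := by rw [MulEquiv.orderOf_eq, order_b3]
  have o3 : orderOf (χ (tw9 ^ 3)) = 3 := by rw [MulEquiv.orderOf_eq, order_tw9_3]
  have m1 : (⟨_, hφ⟩ : R) ∈ L := mem_of_index h2 (by rw [Subgroup.orderOf_mk, o1]; exact hodd)
  have m2 : (⟨_, hψ⟩ : R) ∈ L := mem_of_index h2 (by rw [Subgroup.orderOf_mk, o2]; exact hodd)
  have m3 : (⟨_, hχ⟩ : R) ∈ L := mem_of_index h2 (by rw [Subgroup.orderOf_mk, o3]; exact hodd)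
  rcases alt8 (x := e ⟨_, m1⟩) (y := e ⟨_, m2⟩) (z := e ⟨_, m3⟩)
    (by rw [MulEquiv.orderOf_eq, Subgroup.orderOf_mk, Subgroup.orderOf_mk, o1])
    (by rw [MulEquiv.orderOf_eq, Subgroup.orderOf_mk, Subgroup.orderOf_mk, o2])
    (by rw [MulEquiv.orderOf_eq, Subgroup.orderOf_mk, Subgroup.orderOf_mk, o3]) with h | h | h
  · obtain ⟨g, hg⟩ := conj_aux e _ _ _ _ h
    obtain ⟨ω, hω⟩ := conj_aut hg
    exact ne_AB ω hω
  · obtain ⟨g, hg⟩ := conj_aux e _ _ _ _ h
    obtain ⟨ω, hω⟩ := conj_aut hg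
    exact ne_AC ω hω
  · obtain ⟨g, hg⟩ := conj_aux e _ _ _ _ h
    obtain ⟨ω, hω⟩ := conj_aut hg
    exact ne_BC ω hω

set_option maxRecDepth 100000 in
/-- the simple groups of order 20160 -/
theorem iso_20160 (OT : OrdDiv.OrderTable.{0})
    (hS : ∀ (X : Type) [Group X] [Finite X] [IsSimpleGroup X], Cfsg.IsKnownSimple' X)
    {S : Type} [Group S] [Finite S] [IsSimpleGroup S] (hna : ¬ ∀ x y : S, x * y = y * x) (h : Nat.card S = 20160) :
    Nonempty (S ≃* alternatingGroup (Fin 8)) ∨ ∀ x : S, orderOf x ≠ 15 := by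
  obtain ⟨g, hg, hr⟩ := OrdDiv.exists_real_filter OT (hS S) hna (l := [(2, 6), (3, 2), (5, 1), (7, 1)])
    (N := 20160) (by decide +kernel) (by rw [h]) (fun o => Nat.beq o 20160) (by rw [h]; rfl)
  rw [show ((OrdDiv.cands [(2, 6), (3, 2), (5, 1), (7, 1)] 20160).filter fun g => Nat.beq (OrdDiv.ordN g) 20160) =
    [.alt 8, .psl 4 2, .psl 3 4] by decide +kernel] at hg
  simp only [List.mem_cons, List.not_mem_nil, or_false] at hg
  rcases hg with rfl | rfl | rfl
  · exact Or.inl hr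
  · obtain ⟨F, _, _, hF, ⟨e⟩⟩ := hr
    obtain ⟨f⟩ := Cfsg.Agent.S0256.result (F := F) hF
    exact Or.inl ⟨e.trans f⟩
  · obtain ⟨F, _, _, hF, ⟨e⟩⟩ := hr
    right
    intro x hx
    have := H251.Der.mem_of_equiv e (H251.Der.l34 hF) x
    rw [hx] at this
    exact absurd this (by decide)

/-- `A₈`, `L₃(4)` -/
theorem case20160 (OT : OrdDiv.OrderTable.{0})
    (hS : ∀ (X : Type) [Group X] [Finite X] [IsSimpleGroup X], Cfsg.IsKnownSimple' X)
    {R : Subgroup T8} {L : Subgroup R} (hLn : L.Normal) (hs : IsSimpleGroup L) (hna : ¬ ∀ a b : L, a * b = b * a)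
    (h2 : L.index ∣ 2) (hL : Nat.card L = 20160) (h4096 : ¬ 4096 ∣ Nat.card R) (h243 : ¬ 243 ∣ Nat.card R) :
    Three T8 R ∨ (ThreeT T8 R ∧ Two T8 R ∧ NoOne T8 R) := by
  have h9 : ∀ y ∈ R, orderOf y ≠ 9 := by
    intro y hy hyo
    have h3 : (⟨y, hy⟩ : R) ∈ L := mem_of_index h2 (by rw [Subgroup.orderOf_mk, hyo]; decide)
    have h4 := H251.Der.ord_20160 OT hS hna hL ⟨⟨y, hy⟩, h3⟩
    rw [Subgroup.orderOf_mk, Subgroup.orderOf_mk, hyo] at h4
    exact absurd h4 (by decide)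
  rcases iso_20160 OT hS hna hL with ⟨⟨e⟩⟩ | h
  · rcases three_classes hLn h2 e with h | h | h
    · exact Or.inr (fin_nine h9 h (by rw [order_tz1_5]; norm_num) h4096 h243)
    · exact Or.inr (fin_nine h9 h (by rw [order_b3]; norm_num) h4096 h243)
    · exact Or.inl (L3C h)
  · refine Or.inr (fin_nine h9 (miss_of_order order_tz1 fun y hy hyo => ?_) (by rw [order_tz1]; norm_num) h4096 h243)
    have h3 : (⟨y, hy⟩ : R) ∈ L := mem_of_index h2 (by rw [Subgroup.orderOf_mk, hyo]; decide)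
    exact h ⟨⟨y, hy⟩, h3⟩ (by rw [Subgroup.orderOf_mk, Subgroup.orderOf_mk, hyo])

theorem nine_sub' : ∀ x ∈ H380.AltSpec.T 9 9, x.2 = true → x.1 ≠ 8 := by decide +kernel

theorem alt_nine8 (x : alternatingGroup (Fin 9)) : orderOf x ≠ 8 :=
  nine_sub' _ (H380.AltSpec.orderOf_mem_T x) rfl

set_option maxRecDepth 100000 in
/-- `A₉` has no elements of order 8 -/
theorem case181440 (OT : OrdDiv.OrderTable.{0})
    (hS : ∀ (X : Type) [Group X] [Finite X] [IsSimpleGroup X], Cfsg.IsKnownSimple' X)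
    {S : Type} [Group S] [Finite S] [IsSimpleGroup S] (hna : ¬ ∀ x y : S, x * y = y * x) (h : Nat.card S = 181440)
    (x : S) : orderOf x ≠ 8 := by
  obtain ⟨g, hg, hr⟩ := OrdDiv.exists_real_filter OT (hS S) hna (l := [(2, 6), (3, 4), (5, 1), (7, 1)])
    (N := 181440) (by decide +kernel) (by rw [h]) (fun o => Nat.beq o 181440) (by rw [h]; rfl)
  rw [show ((OrdDiv.cands [(2, 6), (3, 4), (5, 1), (7, 1)] 181440).filter fun g => Nat.beq (OrdDiv.ordN g) 181440) =
    [.alt 9] by decide +kernel] at hg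
  simp only [List.mem_cons, List.not_mem_nil, or_false] at hg
  subst hg
  obtain ⟨e⟩ := hr
  rw [← MulEquiv.orderOf_eq e x]
  exact alt_nine8 _

/-- simple groups and subgroups of index 8 -/
theorem no_index_eight {S : Type*} [Group S] [Finite S] (hs : IsSimpleGroup S) (h : Nat.card S = 1451520) {H : Subgroup S}
    (hH : H.index = 8) : False := by
  have h1 : H ≠ ⊤ := by
    intro h2
    rw [h2, Subgroup.index_top] at hH
    norm_num at hH
  have h2 : H.normalCore = ⊥ := by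
    rcases hs.eq_bot_or_eq_top_of_normal H.normalCore inferInstance with h3 | h3
    · exact h3
    · exact absurd (top_le_iff.1 (h3 ▸ H.normalCore_le)) h1
  have h3 : H.normalCore.index ∣ (H.index).factorial := by
    rw [normalCore_eq_ker, index_ker, index_eq_card, ← Nat.card_perm]
    exact card_subgroup_dvd_card (MulAction.toPermHom S (S ⧸ H)).range
  rw [h2, Subgroup.index_bot, h, hH] at h3
  exact absurd (Nat.le_of_dvd (by decide) h3) (by decide)

end Cfsg.Agent.H547.Der.Eight
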