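import Cfsg.Agent.H439.Der.Tools
import Cfsg.Agent.H503.El.Fix

/-!
# Orbits and fixed points (helper547, for S3500)
-/

set_option autoImplicit false

namespace Cfsg.Agent.H547.Der

open MulAction Cfsg.Agent.H439.Der

theorem dvd_card_of_orbits {M X : Type*} [Group M] [MulAction M X] [Finite X] {n : ℕ}
    (h : ∀ x : X, n ∣ Nat.card (orbit M x)) : n ∣ Nat.card X := by
  classical
  have : Fintype (orbitRel.Quotient M X) := Fintype.ofFinite _
  rw [Nat.card_congr (selfEquivSigmaOrbits M X), Nat.card_sigma]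
  exact Finset.dvd_sum fun ω _ => h _

/-- the action on an invariant set -/
@[reducible] def setAct {G X : Type*} [Group G] [MulAction G X] (M : Subgroup G) (Y : Set X)
    (hinv : ∀ m ∈ M, ∀ y ∈ Y, m • y ∈ Y) : MulAction M Y where
  smul m y := ⟨(m : G) • (y : X), hinv m m.2 y y.2⟩
  one_smul y := Subtype.ext (one_smul G (y : X))
  mul_smul a b y := Subtype.ext (mul_smul (a : G) (b : G) (y : X))

/-- `y ^ 9 = 1`, `y ^ 3` without fixed points on the invariant set `Y`: `9 ∣ |Y|` -/
theorem nine_dvd {G X : Type*} [Group G] [MulAction G X] {y : G} (hy : y ^ 9 = 1) (Y : Set X) [Finite Y]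
    (hinv : ∀ x ∈ Y, y • x ∈ Y) (hfix : ∀ x ∈ Y, y ^ 3 • x ≠ x) : 9 ∣ Nat.card Y := by
  classical
  have hfo : IsOfFinOrder y := isOfFinOrder_iff_pow_eq_one.2 ⟨9, by norm_num, hy⟩
  have hpow : ∀ n : ℕ, ∀ x ∈ Y, y ^ n • x ∈ Y := by
    intro n
    induction n with
    | zero => intro x hx; rwa [pow_zero, one_smul]
    | succ n ih => intro x hx; rw [pow_succ', mul_smul]; exact hinv _ (ih x hx)
  let : MulAction (Subgroup.zpowers y) Y := setAct (Subgroup.zpowers y) Y (by
    intro m hm x hx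
    obtain ⟨n, rfl⟩ := hfo.mem_powers_iff_mem_zpowers.2 hm
    exact hpow n x hx)
  refine dvd_card_of_orbits (M := Subgroup.zpowers y) fun x => ?_
  have hcy : Nat.card (Subgroup.zpowers y) ∣ 9 := by
    rw [Nat.card_zpowers]
    exact orderOf_dvd_of_pow_eq_one hy
  have : Finite (Subgroup.zpowers y) := Nat.finite_of_card_ne_zero fun h => by
    rw [h] at hcy
    norm_num at hcy
  set K := stabilizer (Subgroup.zpowers y) x with hK
  have h1 : K.index = Nat.card (orbit (Subgroup.zpowers y) x) := index_stabilizer _ x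
  rw [← h1]
  have h2 : K.index ∣ 3 ^ 2 := K.index_dvd_card.trans (by simpa using hcy)
  obtain ⟨j, hj, hj2⟩ := (Nat.dvd_prime_pow Nat.prime_three).1 h2
  by_cases hj3 : j = 2
  · rw [hj2, hj3]; norm_num
  exfalso
  have hn : K.Normal := by
    refine ⟨fun a ha g => ?_⟩
    have hc : g * a = a * g := by
      obtain ⟨_, i, rfl⟩ := g
      obtain ⟨_, k, rfl⟩ := a
      apply Subtype.ext
      show y ^ i * y ^ k = y ^ k * y ^ i
      rw [← zpow_add, ← zpow_add, add_comm]
    rw [hc, mul_inv_cancel_right]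
    exact ha
  have h3 : (⟨y, Subgroup.mem_zpowers y⟩ : Subgroup.zpowers y) ^ K.index ∈ K := Subgroup.pow_index_mem K _
  have h4 : (⟨y, Subgroup.mem_zpowers y⟩ : Subgroup.zpowers y) ^ 3 ∈ K := by
    have h5 : K.index ∣ 3 := by
      rw [hj2]
      calc 3 ^ j ∣ 3 ^ 1 := pow_dvd_pow 3 (by omega)
        _ = 3 := pow_one 3
    obtain ⟨c, hc⟩ := h5
    rw [hc, pow_mul]
    exact K.pow_mem h3 c
  rw [hK, mem_stabilizer_iff] at h4
  exact hfix x x.2 (congrArg Subtype.val h4)

/-- fixed points of an element of prime order without fixed points -/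
theorem prime_dvd {S α : Type*} [Group S] [MulAction S α] [Finite α] {p : ℕ} (hp : p.Prime) {x : S}
    (hx : orderOf x = p) (s : Set α) (hs : ∀ a ∈ s, x • a ∈ s) (hf : ∀ a ∈ s, x • a ≠ a) :
    p ∣ Nat.card s := by
  have h := Cfsg.Agent.H503.El.Fix.card_mod hp hx s hs
  have h1 : Nat.card {a : α // a ∈ s ∧ x • a = a} = 0 := by
    have : IsEmpty {a : α // a ∈ s ∧ x • a = a} := ⟨fun a => hf a a.2.1 a.2.2⟩
    exact Nat.card_of_isEmpty
  rw [h1] at h
  exact (Nat.modEq_zero_iff_dvd).1 h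

/-- the conclusion for a conjugate -/
theorem twoT_conj {T : Type*} [Group T] {M : Subgroup T} (g : T)
    (h : TwoT T (M.comap (MulAut.conj g).toMonoidHom)) : TwoT T M := TwoT.congr (MulAut.conj g) h

theorem card_comap_conj {T : Type*} [Group T] {M : Subgroup T} (g : T) :
    Nat.card (M.comap (MulAut.conj g).toMonoidHom) = Nat.card M := by
  have h : M.comap (MulAut.conj g).toMonoidHom = M.map (MulAut.conj g).symm.toMonoidHom :=
    Subgroup.comap_equiv_eq_map_symm (MulAut.conj g) M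
  rw [h]
  exact (Nat.card_congr (((MulAut.conj g).symm).subgroupMap M).toEquiv).symm

theorem comap_conj_ne_top {T : Type*} [Group T] {M : Subgroup T} (g : T) (h : M ≠ ⊤) :
    M.comap (MulAut.conj g).toMonoidHom ≠ ⊤ := by
  intro h1
  apply h
  rw [eq_top_iff]
  intro x _
  have : (MulAut.conj g).symm x ∈ M.comap (MulAut.conj g).toMonoidHom := by rw [h1]; trivial
  have h2 : (MulAut.conj g) ((MulAut.conj g).symm x) ∈ M := this
  rwa [MulEquiv.apply_symm_apply] at h2

end Cfsg.Agent.H547.Der
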