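import Cfsg.Agent.H547.Der.Orb

/-!
# Orbits of subgroups on 63 vectors, abstract form (helper547, for S3500)
-/

set_option autoImplicit false

namespace Cfsg.Agent.H547.Der.Six

open MulAction Cfsg.Agent.H439.Der

/-- a group acting on a set with 64 elements, one of which is fixed, and an element `z` of order 15 -/
structure Act (G V : Type*) [Group G] [MulAction G V] (o f0 u0 : V) (z : G) : Prop where
  fin : Finite V
  card : Nat.card {v : V // v ≠ o} = 63
  zero : ∀ g : G, g • o = o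
  f0_ne : f0 ≠ o
  u0_ne : u0 ≠ o
  order5 : orderOf (z ^ 3) = 5
  order3 : orderOf (z ^ 5) = 3
  card_fix : Nat.card {v : V // v ≠ o ∧ z ^ 3 • v = v} = 3
  fix : ∀ v : V, v ≠ o → z ^ 3 • v = v → v = f0 ∨ v = z ^ 5 • f0 ∨ v = z ^ 5 • z ^ 5 • f0
  fixu : z ^ 5 • u0 = u0

variable {G V : Type*} [Group G] [MulAction G V] {o f0 u0 : V} {z : G}

/-- no fixed vectors -/
def Fpf (o : V) (g : G) : Prop := ∀ v : V, g • v = v → v = o

theorem smul_ne (h : ∀ g : G, g • o = o) {g : G} {v : V} (hv : v ≠ o) : g • v ≠ o := by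
  intro h1
  apply hv
  rw [← h g] at h1
  exact MulAction.injective g h1

theorem Fpf.conj (ho : ∀ g : G, g • o = o) {g : G} (h : Fpf o g) (k : G) : Fpf o (k * g * k⁻¹) := by
  intro v hv
  have h1 : g • (k⁻¹ • v) = k⁻¹ • v := by
    rw [mul_smul, mul_smul] at hv
    conv_rhs => rw [← hv]
    rw [inv_smul_smul]
  have h2 := h _ h1
  by_contra h0
  exact smul_ne ho h0 h2

theorem Fpf.pow {g : G} {n : ℕ} (h : Fpf o (g ^ n)) : Fpf o g := by
  intro v hv
  apply h
  have h1 : ∀ n : ℕ, g ^ n • v = v := by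
    intro n
    induction n with
    | zero => rw [pow_zero, one_smul]
    | succ n ih => rw [pow_succ, mul_smul, hv, ih]
  exact h1 n

variable {M : Subgroup G}

theorem orbit_inv {v : V} {g : G} (hg : g ∈ M) : ∀ u ∈ orbit M v, g • u ∈ orbit M v := by
  rintro u ⟨m, rfl⟩
  exact ⟨⟨g, hg⟩ * m, mul_smul (⟨g, hg⟩ : M) m v⟩

theorem ne_of_mem (ho : ∀ g : G, g • o = o) {v u : V} (hv : v ≠ o) (hu : u ∈ orbit M v) : u ≠ o := by
  obtain ⟨m, rfl⟩ := hu
  exact smul_ne ho (g := (m : G)) hv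

/-- an element of prime order without fixed vectors -/
theorem prime_dvd_orbit [Finite V] (ho : ∀ g : G, g • o = o) {v : V} (hv : v ≠ o) {p : ℕ} (hp : p.Prime) {x : G}
    (hx : orderOf x = p) (hxM : x ∈ M) (hf : Fpf o x) : p ∣ Nat.card (orbit M v) :=
  prime_dvd hp hx _ (orbit_inv hxM) fun u hu h => ne_of_mem ho hv hu (hf u h)

theorem nine_dvd_orbit [Finite V] (ho : ∀ g : G, g • o = o) {v : V} (hv : v ≠ o) {w : G}
    (hw : w ^ 9 = 1) (hwM : w ∈ M) (hf : Fpf o (w ^ 3)) : 9 ∣ Nat.card (orbit M v) :=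
  nine_dvd hw _ (orbit_inv hwM) fun u hu h => ne_of_mem ho hv hu (hf u h)

theorem card_mul [Finite G] (v : V) : Nat.card (orbit M v) * Nat.card (stabilizer M v) = Nat.card M := by
  rw [Nat.card_congr (orbitEquivQuotientStabilizer M v)]
  exact (Subgroup.card_eq_card_quotient_mul_card_subgroup _).symm

/-- the three vectors fixed by `z ^ 3` are in one orbit -/
theorem mem_f0 (A : Act G V o f0 u0 z) (hz : z ∈ M) {v : V} (hv : v ≠ o) (h : z ^ 3 • v = v) : v ∈ orbit M f0 := by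
  have hy3 : z ^ 5 ∈ M := pow_mem hz 5
  have hf : f0 ∈ orbit M f0 := mem_orbit_self _
  have hf1 : z ^ 5 • f0 ∈ orbit M f0 := orbit_inv hy3 _ hf
  rcases A.fix v hv h with rfl | rfl | rfl
  · exact hf
  · exact hf1
  · exact orbit_inv hy3 _ hf1

/-- the orbit of `f0` -/
theorem card_f0 (A : Act G V o f0 u0 z) (hz : z ∈ M) : Nat.card (orbit M f0) ≡ 3 [MOD 5] := by
  have := A.fin
  have hy5 : z ^ 3 ∈ M := pow_mem hz 3
  refine (Cfsg.Agent.H503.El.Fix.card_mod (by norm_num) A.order5 _ (orbit_inv hy5)).trans ?_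
  have h1 : Nat.card {a : V // a ∈ orbit M f0 ∧ z ^ 3 • a = a} = Nat.card {v : V // v ≠ o ∧ z ^ 3 • v = v} := by
    refine Nat.card_congr (Equiv.subtypeEquivRight fun v => ?_)
    constructor
    · rintro ⟨h1, h2⟩
      exact ⟨ne_of_mem A.zero A.f0_ne h1, h2⟩
    · rintro ⟨h1, h2⟩
      exact ⟨mem_f0 A hz h1 h2, h2⟩
  rw [h1, A.card_fix]

theorem card_orbit_le (A : Act G V o f0 u0 z) {v : V} (hv : v ≠ o) : Nat.card (orbit M v) ≤ 63 := by
  have := A.fin
  rw [← A.card]
  exact Nat.card_le_card_of_injective (fun u => ⟨u, ne_of_mem A.zero hv u.2⟩) fun a b h => Subtype.ext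
      (congrArg (fun x : {u : V // u ≠ o} => (x : V)) h)

theorem mem_of_card (A : Act G V o f0 u0 z) {v : V} (hv : v ≠ o) (h : Nat.card (orbit M v) = 63) {u : V}
    (hu : u ≠ o) : u ∈ orbit M v := by
  classical
  have := A.fin
  let f : orbit M v → {u : V // u ≠ o} := fun u => ⟨u, ne_of_mem A.zero hv u.2⟩
  have hf : Function.Injective f := fun a b h => Subtype.ext
      (congrArg (fun x : {u : V // u ≠ o} => (x : V)) h)
  have hb : Function.Bijective f := (Nat.bijective_iff_injective_and_card f).2 ⟨hf, by rw [h, A.card]⟩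
  obtain ⟨w, hw⟩ := hb.2 ⟨u, hu⟩
  have : (w : V) = u := congrArg (fun x : {u : V // u ≠ o} => (x : V)) hw
  rw [← this]
  exact w.2

/-- `z`, an element of order 7 and a fixed point free element of order 3 -/
theorem dvd_of_seven [Finite G] (A : Act G V o f0 u0 z) (hz : z ∈ M) {x c : G} (hxM : x ∈ M) (hx : orderOf x = 7)
    (hxf : Fpf o x) (hcM : c ∈ M) (hc : orderOf c = 3) (hcf : Fpf o c) : 27 ∣ Nat.card M := by
  have := A.fin
  have h7 : 7 ∣ Nat.card (orbit M f0) := prime_dvd_orbit A.zero A.f0_ne (by norm_num) hx hxM hxf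
  have h3 : 3 ∣ Nat.card (orbit M f0) := prime_dvd_orbit A.zero A.f0_ne (by norm_num) hc hcM hcf
  have h5 := card_f0 A hz
  have hle := card_orbit_le (M := M) A A.f0_ne
  have h63 : Nat.card (orbit M f0) = 63 := by
    unfold Nat.ModEq at h5
    omega
  have hy3 : z ^ 5 ∈ M := pow_mem hz 5
  have hu : u0 ∈ orbit M f0 := mem_of_card A A.f0_ne h63 A.u0_ne
  have hu' : Nat.card (orbit M u0) = 63 := by
    rw [orbit_eq_iff.2 hu, h63]
  have h1 := card_mul (M := M) u0
  have h2 : 3 ∣ Nat.card (stabilizer M u0) := by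
    have h4 : (⟨z ^ 5, hy3⟩ : M) ∈ stabilizer M u0 := A.fixu
    have h5 : orderOf (⟨⟨z ^ 5, hy3⟩, h4⟩ : stabilizer M u0) = 3 := by
      rw [Subgroup.orderOf_mk, Subgroup.orderOf_mk, A.order3]
    rw [← h5]
    exact orderOf_dvd_natCard _
  rw [hu'] at h1
  rw [← h1]
  obtain ⟨k, hk⟩ := h2
  rw [hk]
  exact ⟨7 * k, by ring⟩

/-- `z` and an element of order 9 with fixed point free cube, `7 ∤ |M|`: the orbit of `f0` has 18 elements -/
theorem card_of_nine [Finite G] (A : Act G V o f0 u0 z) (hz : z ∈ M) {w : G} (hwM : w ∈ M) (hw : w ^ 9 = 1)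
    (hwf : Fpf o (w ^ 3)) (h7 : ¬ 7 ∣ Nat.card M) : Nat.card (orbit M f0) = 18 := by
  have := A.fin
  have h9 : 9 ∣ Nat.card (orbit M f0) := nine_dvd_orbit A.zero A.f0_ne hw hwM hwf
  have h5 := card_f0 A hz
  have hle := card_orbit_le (M := M) A A.f0_ne
  have h63 : Nat.card (orbit M f0) ≠ 63 := by
    intro h
    apply h7
    have h1 := card_mul (M := M) f0
    rw [h] at h1
    rw [← h1]
    exact ⟨9 * Nat.card (stabilizer M f0), by ring⟩
  unfold Nat.ModEq at h5
  omega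

end Cfsg.Agent.H547.Der.Six
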