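import Cfsg.Agent.H547.Der.SixInst

/-!
# `Sp₆(2)`: there is no orbit with 18 vectors (helper547, for S3500)
-/

set_option autoImplicit false
set_option linter.unusedSimpArgs false

namespace Cfsg.Agent.H547.Der.Six

open MulAction Cfsg.Agent.H439.Der

/-- the form on codes -/
def bilF (a b : P6) : Bool := decide (bil (dec a) (dec b) = 0)

theorem bil_eq (u v : V6) : bil u v = u ⬝ᵥ ((Matrix.J (Fin 3) (ZMod 2)).mulVec v) := by
  simp only [bil, Matrix.J, dotProduct, Matrix.fromBlocks_mulVec, Fintype.sum_sum_type, Fin.sum_univ_three, Sum.elim_inl,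
    Sum.elim_inr, Matrix.zero_mulVec, Matrix.one_mulVec, Matrix.neg_mulVec, Pi.add_apply, Pi.neg_apply, Pi.zero_apply,
    Function.comp_apply, zero_add, add_zero, CharTwo.neg_eq]
  ring

theorem bil_smul (g : G6) (u v : V6) : bil ((g : M6).mulVec u) ((g : M6).mulVec v) = bil u v := by
  rw [bil_eq, bil_eq]
  have h := (SymplecticGroup.mem_iff' (A := (g : M6))).1 g.2
  rw [Matrix.mulVec_mulVec, Matrix.dotProduct_mulVec, Matrix.vecMul_mulVec, ← Matrix.dotProduct_mulVec, ← Matrix.mul_assoc, h]

theorem bilF_smul (g : G6) (u v : P6) : bilF (g • u) (g • v) = bilF u v := by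
  unfold bilF
  rw [smul_def, smul_def, dec_enc, dec_enc, bil_smul]

/-- the table of the action of `z15` -/
def ztab : List ℕ := [0, 43, 34, 9, 63, 20, 29, 54, 33, 10, 3, 40, 30, 53, 60, 23, 17, 58, 51, 24, 46, 5, 12, 39, 48,
  27, 18, 57, 15, 36, 45, 6, 31, 52, 61, 22, 32, 11, 2, 41, 62, 21, 28, 55, 1, 42, 35, 8, 14, 37, 44, 7, 49, 26, 19,
  56, 47, 4, 13, 38, 16, 59, 50, 25]

/-- the action of `z15` -/
def zt (n : P6) : P6 := (Fin.ofNat 64 (ztab.getD n.1 0) : Fin 64)

set_option maxRecDepth 100000 in
theorem zt_eq : ∀ n : P6, enc (Z15.mulVec (dec n)) = zt n := by decide +kernel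

theorem z15_smul (n : P6) : z15 • n = zt n := zt_eq n

/-- the list of the orbit -/
def lst (n : P6) : List P6 := List.iterate zt f6 3 ++ List.iterate zt n 15

/-- the exceptional set -/
def exc (n : P6) : Bool := decide (n ≠ o6) && (decide (zt (zt (zt (zt (zt n)))) = n) || decide (n ∈ List.iterate zt f6 3))

set_option maxRecDepth 100000 in
theorem lst_spec : ∀ n : P6, n ≠ o6 → exc n = false → (lst n).Nodup ∧ (lst n).length = 18 ∧
    ((lst n).filter (bilF f6 ·)).length ≠ ((lst n).filter (bilF n ·)).length := by decide +kernel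

set_option maxRecDepth 100000 in
theorem exc_spec : (Finset.univ.filter (fun n : P6 => exc n = true)).card = 18 := by decide +kernel

/-- another exceptional vector -/
def g6 : P6 := (2 : Fin 64)

set_option maxRecDepth 100000 in
theorem exc_count : ((Finset.univ.filter (fun n : P6 => exc n = true)).filter (fun m => bilF f6 m = true)).card ≠
  ((Finset.univ.filter (fun n : P6 => exc n = true)).filter (fun m => bilF g6 m = true)).card ∧ exc g6 = true := by
  decide +kernel

/-- number of orthogonal vectors in a set -/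
def knum (O : Finset P6) (v : P6) : ℕ := (O.filter (fun m => bilF v m = true)).card

theorem knum_smul {M : Subgroup G6} {O : Finset P6} (hO : ∀ g ∈ M, ∀ v ∈ O, g • v ∈ O) {g : G6} (hg : g ∈ M) (v : P6) :
    knum O (g • v) = knum O v := by
  unfold knum
  symm
  refine Finset.card_bij (fun m _ => g • m) ?_ ?_ ?_
  · intro a ha
    rw [Finset.mem_filter] at ha ⊢
    exact ⟨hO g hg a ha.1, by rw [bilF_smul]; exact ha.2⟩
  · intro a _ b _ h
    exact MulAction.injective g h
  · intro b hb
    rw [Finset.mem_filter] at hb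
    refine ⟨g⁻¹ • b, ?_, smul_inv_smul g b⟩
    rw [Finset.mem_filter]
    refine ⟨hO _ (M.inv_mem hg) b hb.1, ?_⟩
    rw [← bilF_smul g, smul_inv_smul]
    exact hb.2

theorem iterate_mem {O : Finset P6} (hz : ∀ v ∈ O, zt v ∈ O) : ∀ (n : ℕ) (v : P6), v ∈ O → ∀ u ∈ List.iterate zt v n, u ∈ O := by
  intro n
  induction n with
  | zero => intro v _ u hu; simp at hu
  | succ n ih =>
    intro v hv u hu
    rw [List.iterate, List.mem_cons] at hu
    rcases hu with rfl | hu
    · exact hv
    · exact ih (zt v) (hz v hv) u hu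

/-- no invariant set with 18 vectors on which the group is transitive -/
theorem no_eighteen {M : Subgroup G6} (hz : z15 ∈ M) : Nat.card (orbit M f6) ≠ 18 := by
  classical
  intro h18
  set O : Finset P6 := Finset.univ.filter (fun v => v ∈ orbit M f6) with hOdef
  have hOcard : O.card = 18 := by
    rw [← h18, hOdef, Nat.card_eq_fintype_card, Fintype.card_subtype]
  have hmem : ∀ v, v ∈ O ↔ v ∈ orbit M f6 := fun v => by rw [hOdef, Finset.mem_filter]; simp
  have hO : ∀ g ∈ M, ∀ v ∈ O, g • v ∈ O := fun g hg v hv => (hmem _).2 (orbit_inv hg v ((hmem v).1 hv))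
  have hzt : ∀ v ∈ O, zt v ∈ O := fun v hv => by rw [← z15_smul]; exact hO _ hz v hv
  have hf : f6 ∈ O := (hmem _).2 (mem_orbit_self _)
  have hne : ∀ v ∈ O, v ≠ o6 := fun v hv => ne_of_mem inst.zero inst.f0_ne ((hmem v).1 hv)
  have hk : ∀ v ∈ O, knum O v = knum O f6 := by
    intro v hv
    obtain ⟨g, rfl⟩ := (hmem v).1 hv
    exact knum_smul hO g.2 f6
  by_cases hex : ∃ v ∈ O, exc v = false
  · obtain ⟨v, hv, hve⟩ := hex
    obtain ⟨h1, h2, h3⟩ := lst_spec v (hne v hv) hve
    have hsub : (lst v).toFinset ⊆ O := by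
      intro u hu
      rw [List.mem_toFinset, lst, List.mem_append] at hu
      rcases hu with hu | hu
      · exact iterate_mem hzt 3 f6 hf u hu
      · exact iterate_mem hzt 15 v hv u hu
    have heq : (lst v).toFinset = O := Finset.eq_of_subset_of_card_le hsub (by
      rw [hOcard, List.toFinset_card_of_nodup h1, h2])
    apply h3
    have hkk : ∀ u : P6, knum O u = ((lst v).filter (bilF u ·)).length := by
      intro u
      unfold knum
      rw [← heq, ← List.toFinset_filter, List.toFinset_card_of_nodup (h1.filter _)]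
    rw [← hkk, ← hkk]
    exact (hk v hv).symm
  · push Not at hex
    have hsub : O ⊆ Finset.univ.filter (fun n : P6 => exc n = true) := by
      intro u hu
      rw [Finset.mem_filter]
      refine ⟨Finset.mem_univ _, ?_⟩
      have := hex u hu
      simpa using this
    have heq : O = Finset.univ.filter (fun n : P6 => exc n = true) := Finset.eq_of_subset_of_card_le hsub (by
      rw [hOcard, exc_spec])
    obtain ⟨h1, h2⟩ := exc_count
    apply h1
    have hg : g6 ∈ O := by
      rw [heq, Finset.mem_filter]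
      exact ⟨Finset.mem_univ _, h2⟩
    have := hk g6 hg
    unfold knum at this
    rw [heq] at this
    exact this.symm

end Cfsg.Agent.H547.Der.Six
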