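import Mathlib

/-!
# `Sp₆(2)`: explicit matrices (helper547, for S3500)
-/

set_option autoImplicit false

namespace Cfsg.Agent.H547.Der.Six

/-- index type -/
abbrev I6 := Fin 3 ⊕ Fin 3

/-- vectors -/
abbrev V6 := I6 → ZMod 2

/-- matrices -/
abbrev M6 := Matrix I6 I6 (ZMod 2)

/-- the bilinear form -/
def bil (u v : V6) : ZMod 2 :=
  u (.inl 0) * v (.inr 0) + u (.inr 0) * v (.inl 0) + (u (.inl 1) * v (.inr 1) + u (.inr 1) * v (.inl 1)) +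
    (u (.inl 2) * v (.inr 2) + u (.inr 2) * v (.inl 2))

/-- order 9 -/
def W9 : M6 := Matrix.fromBlocks !![1,0,1; 1,0,0; 0,1,0] !![1,1,1; 0,0,1; 0,0,1]
    !![1,1,0; 0,0,1; 1,1,1] !![0,0,1; 0,1,1; 1,0,0]

/-- order 15 -/
def Z15 : M6 := Matrix.fromBlocks !![1,0,1; 1,1,1; 0,0,1] !![1,1,1; 0,0,1; 0,0,1]
    !![1,0,1; 0,0,1; 1,1,1] !![0,0,1; 0,1,1; 1,0,0]

/-- order 7 -/
def X7 : M6 := Matrix.fromBlocks !![1,0,0; 1,1,1; 1,0,1] !![1,0,1; 0,1,1; 0,0,1]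
    !![0,0,1; 0,1,0; 1,1,0] !![0,0,1; 0,0,0; 1,0,0]

/-- the cube of `Z15` -/
def Y5 : M6 := Z15 * Z15 * Z15

/-- the fifth power of `Z15` -/
def Y3 : M6 := Z15 * Z15 * (Z15 * Z15 * Z15)

/-- the cube of `W9` -/
def C3 : M6 := W9 * W9 * W9

set_option maxRecDepth 100000 in
theorem W9_sp : W9 * Matrix.J (Fin 3) (ZMod 2) * W9.transpose = Matrix.J (Fin 3) (ZMod 2) := by decide +kernel

set_option maxRecDepth 100000 in
theorem Z15_sp : Z15 * Matrix.J (Fin 3) (ZMod 2) * Z15.transpose = Matrix.J (Fin 3) (ZMod 2) := by decide +kernel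

set_option maxRecDepth 100000 in
theorem X7_sp : X7 * Matrix.J (Fin 3) (ZMod 2) * X7.transpose = Matrix.J (Fin 3) (ZMod 2) := by decide +kernel

set_option maxRecDepth 100000 in
theorem W9_pow : C3 * C3 * C3 = 1 ∧ C3 ≠ 1 := by decide +kernel

set_option maxRecDepth 100000 in
theorem Z15_pow : Y5 * Y5 * Y5 * Y5 * Y5 = 1 ∧ Y5 ≠ 1 ∧ Y3 ≠ 1 := by decide +kernel

set_option maxRecDepth 100000 in
theorem X7_pow : X7 * X7 * X7 * X7 * X7 * X7 * X7 = 1 ∧ X7 ≠ 1 := by decide +kernel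

set_option maxRecDepth 100000 in
theorem C3_fpf : ∀ v : V6, C3.mulVec v = v → v = 0 := by decide +kernel

set_option maxRecDepth 100000 in
theorem X7_fpf : ∀ v : V6, X7.mulVec v = v → v = 0 := by decide +kernel

/-- a vector fixed by `Y5` -/
def f0 : V6 := Sum.elim ![1,1,0] ![0,0,0]

/-- a vector fixed by `Y3` -/
def u0 : V6 := Sum.elim ![0,1,0] ![0,0,0]

set_option maxRecDepth 100000 in
theorem f0_ne : f0 ≠ 0 := by decide +kernel

set_option maxRecDepth 100000 in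
theorem Y5_fix : ∀ v : V6, v ≠ 0 → Y5.mulVec v = v → v = f0 ∨ v = Y3.mulVec f0 ∨ v = Y3.mulVec (Y3.mulVec f0) := by
  decide +kernel

set_option maxRecDepth 100000 in
theorem Y5_f0 : Y5.mulVec f0 = f0 ∧ Y5.mulVec (Y3.mulVec f0) = Y3.mulVec f0 ∧
    Y5.mulVec (Y3.mulVec (Y3.mulVec f0)) = Y3.mulVec (Y3.mulVec f0) ∧ f0 ≠ Y3.mulVec f0 ∧
    f0 ≠ Y3.mulVec (Y3.mulVec f0) ∧ Y3.mulVec f0 ≠ Y3.mulVec (Y3.mulVec f0) := by
  decide +kernel

set_option maxRecDepth 100000 in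
theorem Y3_u0 : Y3.mulVec u0 = u0 ∧ u0 ≠ 0 := by decide +kernel

set_option maxRecDepth 100000 in
theorem card_Y5_fix : Fintype.card {v : V6 // v ≠ 0 ∧ Y5.mulVec v = v} = 3 := by decide +kernel

end Cfsg.Agent.H547.Der.Six
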