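import Cfsg.Agent.H547.Der.SixAbs
import Cfsg.Agent.H547.Der.SixMat

/-!
# `Sp₆(2)`: the action on 64 vectors (helper547, for S3500)
-/

set_option autoImplicit false

namespace Cfsg.Agent.H547.Der.Six

open MulAction Cfsg.Agent.H439.Der

/-- the group -/
abbrev G6 := Matrix.symplecticGroup (Fin 3) (ZMod 2)

/-- codes of vectors -/
def P6 : Type := Fin 64

instance decEqP6 : DecidableEq P6 := inferInstanceAs (DecidableEq (Fin 64))
instance fintypeP6 : Fintype P6 := inferInstanceAs (Fintype (Fin 64))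

/-- the vector of a code -/
def dec (n : P6) : V6 := Sum.elim ![((n.1 % 2 : ℕ) : ZMod 2), ((n.1 / 2 % 2 : ℕ) : ZMod 2), ((n.1 / 4 % 2 : ℕ) : ZMod 2)]
  ![((n.1 / 8 % 2 : ℕ) : ZMod 2), ((n.1 / 16 % 2 : ℕ) : ZMod 2), ((n.1 / 32 % 2 : ℕ) : ZMod 2)]

/-- the code of a vector -/
def enc (v : V6) : P6 := (Fin.ofNat 64 ((v (.inl 0)).val + 2 * (v (.inl 1)).val + 4 * (v (.inl 2)).val +
  8 * (v (.inr 0)).val + 16 * (v (.inr 1)).val + 32 * (v (.inr 2)).val) : Fin 64)

set_option maxRecDepth 100000 in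
theorem dec_enc : ∀ v : V6, dec (enc v) = v := by decide +kernel

set_option maxRecDepth 100000 in
theorem enc_dec : ∀ n : P6, enc (dec n) = n := by decide +kernel

/-- the action on codes -/
instance act6 : MulAction G6 P6 where
  smul g v := enc ((g : M6).mulVec (dec v))
  one_smul v := by
    show enc ((1 : M6).mulVec (dec v)) = v
    rw [Matrix.one_mulVec, enc_dec]
  mul_smul g h v := by
    show enc (((g : M6) * (h : M6)).mulVec (dec v)) = enc ((g : M6).mulVec (dec (enc ((h : M6).mulVec (dec v)))))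
    rw [dec_enc, Matrix.mulVec_mulVec]

theorem smul_def (g : G6) (v : P6) : g • v = enc ((g : M6).mulVec (dec v)) := rfl

/-- the elements -/
def w9 : G6 := ⟨W9, SymplecticGroup.mem_iff.2 W9_sp⟩
/-- order 15 -/
def z15 : G6 := ⟨Z15, SymplecticGroup.mem_iff.2 Z15_sp⟩
/-- order 7 -/
def x7 : G6 := ⟨X7, SymplecticGroup.mem_iff.2 X7_sp⟩

theorem coe_c3 : ((w9 ^ 3 : G6) : M6) = C3 := by
  rw [pow_succ, pow_succ, pow_one]; rfl
theorem coe_y5 : ((z15 ^ 3 : G6) : M6) = Y5 := by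
  rw [pow_succ, pow_succ, pow_one]; rfl
theorem coe_y3 : ((z15 ^ 5 : G6) : M6) = Y3 := by
  rw [show z15 ^ 5 = z15 ^ 2 * z15 ^ 3 by rw [← pow_add], pow_two, show z15 ^ 3 = z15 * z15 * z15 by
    rw [pow_succ, pow_succ, pow_one]]
  rfl

theorem order_c3 : orderOf (w9 ^ 3) = 3 := by
  have : Fact (Nat.Prime 3) := ⟨Nat.prime_three⟩
  refine orderOf_eq_prime ?_ ?_
  · apply Subtype.ext
    rw [show (w9 ^ 3) ^ 3 = w9 ^ 3 * w9 ^ 3 * w9 ^ 3 by rw [pow_succ (w9 ^ 3), pow_succ (w9 ^ 3), pow_one]]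
    show ((w9 ^ 3 : G6) : M6) * ((w9 ^ 3 : G6) : M6) * ((w9 ^ 3 : G6) : M6) = 1
    rw [coe_c3]
    exact W9_pow.1
  · intro h
    apply W9_pow.2
    rw [← coe_c3, h]
    rfl

theorem order_w9 : orderOf w9 = 9 := by
  have : Fact (Nat.Prime 3) := ⟨Nat.prime_three⟩
  have h := orderOf_eq_prime_pow (x := w9) (p := 3) (n := 1) (by
    rw [pow_one]
    intro h
    have := order_c3
    rw [h, orderOf_one] at this
    norm_num at this) (by
    rw [show 3 ^ (1 + 1) = 3 * 3 by norm_num, pow_mul]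
    have := pow_orderOf_eq_one (w9 ^ 3)
    rwa [order_c3] at this)
  simpa using h

theorem order_y5 : orderOf (z15 ^ 3) = 5 := by
  have : Fact (Nat.Prime 5) := ⟨by norm_num⟩
  refine orderOf_eq_prime ?_ ?_
  · apply Subtype.ext
    rw [show (z15 ^ 3) ^ 5 = z15 ^ 3 * z15 ^ 3 * z15 ^ 3 * z15 ^ 3 * z15 ^ 3 by
      rw [pow_succ (z15 ^ 3), pow_succ (z15 ^ 3), pow_succ (z15 ^ 3), pow_succ (z15 ^ 3), pow_one]]
    show ((z15 ^ 3 : G6) : M6) * ((z15 ^ 3 : G6) : M6) * ((z15 ^ 3 : G6) : M6) * ((z15 ^ 3 : G6) : M6) *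
      ((z15 ^ 3 : G6) : M6) = 1
    rw [coe_y5]
    exact Z15_pow.1
  · intro h
    apply Z15_pow.2.1
    rw [← coe_y5, h]
    rfl

theorem z15_pow15 : z15 ^ 15 = 1 := by
  have := pow_orderOf_eq_one (z15 ^ 3)
  rw [order_y5, ← pow_mul] at this
  exact this

theorem order_y3 : orderOf (z15 ^ 5) = 3 := by
  have : Fact (Nat.Prime 3) := ⟨Nat.prime_three⟩
  refine orderOf_eq_prime ?_ ?_
  · rw [← pow_mul]
    exact z15_pow15
  · intro h
    apply Z15_pow.2.2
    rw [← coe_y3, h]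
    rfl

theorem order_z15 : orderOf z15 = 15 := by
  have h1 : orderOf z15 ∣ 15 := orderOf_dvd_of_pow_eq_one z15_pow15
  have h3 : orderOf (z15 ^ 3) ∣ orderOf z15 := orderOf_pow_dvd 3
  have h5 : orderOf (z15 ^ 5) ∣ orderOf z15 := orderOf_pow_dvd 5
  rw [order_y5] at h3
  rw [order_y3] at h5
  have h15 : 3 * 5 ∣ orderOf z15 := Nat.Coprime.mul_dvd_of_dvd_of_dvd (by norm_num : Nat.Coprime 3 5) h5 h3
  exact Nat.dvd_antisymm h1 h15

theorem order_x7 : orderOf x7 = 7 := by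
  have : Fact (Nat.Prime 7) := ⟨by norm_num⟩
  refine orderOf_eq_prime ?_ ?_
  · apply Subtype.ext
    rw [show x7 ^ 7 = x7 * x7 * x7 * x7 * x7 * x7 * x7 by
      rw [pow_succ x7, pow_succ x7, pow_succ x7, pow_succ x7, pow_succ x7, pow_succ x7, pow_one]]
    exact X7_pow.1
  · intro h
    apply X7_pow.2
    exact congrArg Subtype.val h

/-- the zero vector -/
def o6 : P6 := (0 : Fin 64)
/-- a vector fixed by `z ^ 3` -/
def f6 : P6 := (3 : Fin 64)
/-- a vector fixed by `z ^ 5` -/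
def u6 : P6 := (2 : Fin 64)

set_option maxRecDepth 100000 in
theorem fpf_C3 : ∀ v : P6, enc (C3.mulVec (dec v)) = v → v = o6 := by decide +kernel

set_option maxRecDepth 100000 in
theorem fpf_X7 : ∀ v : P6, enc (X7.mulVec (dec v)) = v → v = o6 := by decide +kernel

theorem fpf_c3 : Fpf o6 (w9 ^ 3) := by
  intro v hv
  rw [smul_def, coe_c3] at hv
  exact fpf_C3 v hv

theorem fpf_x7 : Fpf o6 x7 := by
  intro v hv
  exact fpf_X7 v hv

theorem dec_o6 : dec o6 = 0 := by decide +kernel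
theorem enc_zero : enc 0 = o6 := by decide +kernel

set_option maxRecDepth 100000 in
theorem fix_Y5 : ∀ v : P6, v ≠ o6 → enc (Y5.mulVec (dec v)) = v →
    v = f6 ∨ v = enc (Y3.mulVec (dec f6)) ∨ v = enc (Y3.mulVec (dec (enc (Y3.mulVec (dec f6))))) := by
  decide +kernel

set_option maxRecDepth 100000 in
theorem card_Y5 : Fintype.card {v : P6 // v ≠ o6 ∧ enc (Y5.mulVec (dec v)) = v} = 3 := by
  decide +kernel

theorem inst : Act G6 P6 o6 f6 u6 z15 where
  fin := inferInstance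
  card := by rw [Nat.card_eq_fintype_card]; decide +kernel
  zero g := by rw [smul_def, dec_o6, Matrix.mulVec_zero, enc_zero]
  f0_ne := by decide
  u0_ne := by decide
  order5 := order_y5
  order3 := order_y3
  card_fix := by
    refine Eq.trans ?_ card_Y5
    rw [← Nat.card_eq_fintype_card]
    refine Nat.card_congr (Equiv.subtypeEquivRight fun v => ?_)
    rw [smul_def, coe_y5]
  fix v hv h := by
    rw [smul_def, coe_y5] at h
    rw [smul_def, smul_def, coe_y3]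
    exact fix_Y5 v hv h
  fixu := by
    rw [smul_def, coe_y3]
    decide +kernel

end Cfsg.Agent.H547.Der.Six
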